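import Cfsg.Agent.Lib.Walter.Defs
import Cfsg.Agent.Lib.Lead.JankoRee.Main
import Cfsg.Agent.Lib.Classical.Dickson.Tools

/-!
# The Sylow 2-subgroups of the simple groups of the induction

Elementary abelian of order at least 4, with an element of the normaliser whose powers are regular on the involutions.
-/

set_option autoImplicit false
set_option linter.style.haveILetI false
set_option linter.unusedSectionVars false

namespace Cfsg.Agent.Walter

open Subgroup Cfsg.Agent.Solv.AbelianTwo

universe u v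

variable {K : Type u} [Group K]

/-- Elementary of order at least 4 with a regular element in the normaliser. -/
structure Cyc (T : Subgroup K) : Prop where
  sq : ∀ x ∈ T, x * x = 1
  big : 4 ≤ Nat.card T
  turn : ∃ h ∈ normalizer (T : Set K),
    (∀ x ∈ T, h ^ (Nat.card T - 1) * x * (h ^ (Nat.card T - 1))⁻¹ = x) ∧
    ∀ x ∈ T, x ≠ 1 → ∀ y ∈ T, y ≠ 1 → ∃ i : ℕ, h ^ i * x * (h ^ i)⁻¹ = y

theorem Cyc.map {L : Type v} [Group L] {T : Subgroup K} (hT : Cyc T) (f : K →* L) (hf : Function.Injective f) :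
    Cyc (T.map f) := by
  obtain ⟨h, hn, hc, ht⟩ := hT.turn
  have hcard : Nat.card (T.map f) = Nat.card T := Subgroup.card_map_of_injective hf
  refine ⟨?_, hcard.symm ▸ hT.big, f h, le_normalizer_map f ⟨h, hn, rfl⟩, ?_, ?_⟩
  · rintro _ ⟨x, hx, rfl⟩
    rw [← map_mul, hT.sq x hx, map_one]
  · rintro _ ⟨x, hx, rfl⟩
    rw [hcard, ← map_pow, ← map_inv, ← map_mul, ← map_mul, hc x hx]
  · rintro _ ⟨x, hx, rfl⟩ hx1 _ ⟨y, hy, rfl⟩ hy1
    obtain ⟨i, hi⟩ := ht x hx (fun e => hx1 (by rw [e, map_one])) y hy fun e => hy1 (by rw [e, map_one])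
    exact ⟨i, by rw [← hi, map_mul, map_mul, map_inv, map_pow]⟩

variable [Finite K]

/-- Fixed-point-free powers below `|T| - 1` give regularity. -/
theorem cyc_of_free {T : Subgroup K} (hsq : ∀ x ∈ T, x * x = 1) (hbig : 4 ≤ Nat.card T) {h : K}
    (hn : h ∈ normalizer (T : Set K))
    (hfree : ∀ k : ℕ, 0 < k → k < Nat.card T - 1 → ∀ x ∈ T, x ≠ 1 → h ^ k * x * (h ^ k)⁻¹ ≠ x) : Cyc T := by
  classical
  set N := Nat.card T - 1 with hN
  have hmem : ∀ (i : ℕ), ∀ x ∈ T, h ^ i * x * (h ^ i)⁻¹ ∈ T := fun i x hx =>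
    (mem_normalizer_iff.1 (pow_mem hn i) x).1 hx
  have htr : ∀ x ∈ T, x ≠ 1 → ∀ y ∈ T, y ≠ 1 → ∃ i : ℕ, i < N ∧ h ^ i * x * (h ^ i)⁻¹ = y := by
    intro x hx hx1 y hy hy1
    let f : Fin N → {z : T // z ≠ 1} := fun i => ⟨⟨_, hmem i x hx⟩, fun e => hx1 (by
      simpa using congrArg Subtype.val e)⟩
    have key : ∀ i j : ℕ, i ≤ j → j < N → h ^ i * x * (h ^ i)⁻¹ = h ^ j * x * (h ^ j)⁻¹ → i = j := by
      intro i j hij hj e
      by_contra hne
      refine hfree (j - i) (by omega) (by omega) x hx hx1 ?_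
      calc h ^ (j - i) * x * (h ^ (j - i))⁻¹
          = (h ^ i)⁻¹ * (h ^ j * x * (h ^ j)⁻¹) * h ^ i := by
            rw [show j = i + (j - i) by omega, pow_add, show i + (j - i) - i = j - i by omega]
            group
        _ = x := by rw [← e]; group
    have hf : Function.Injective f := by
      intro i j e
      have e' : h ^ (i : ℕ) * x * (h ^ (i : ℕ))⁻¹ = h ^ (j : ℕ) * x * (h ^ (j : ℕ))⁻¹ :=
        congrArg (fun z : {z : T // z ≠ 1} => ((z : T) : K)) e
      rcases le_total (i : ℕ) j with hle | hle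
      · exact Fin.ext (key _ _ hle j.2 e')
      · exact (Fin.ext (key _ _ hle i.2 e'.symm)).symm
    haveI := Fintype.ofFinite T
    have hcard : Nat.card {z : T // z ≠ 1} = N := by
      rw [Nat.card_eq_fintype_card, Fintype.card_subtype_compl, Fintype.card_subtype_eq, hN, Nat.card_eq_fintype_card]
    obtain ⟨i, hi⟩ := ((Nat.bijective_iff_injective_and_card f).2 ⟨hf, by rw [Nat.card_fin, hcard]⟩).2
      ⟨⟨y, hy⟩, fun e => hy1 (congrArg Subtype.val e)⟩
    exact ⟨i, i.2, congrArg (fun z : {z : T // z ≠ 1} => ((z : T) : K)) hi⟩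
  refine ⟨hsq, hbig, h, hn, fun x hx => ?_, fun x hx hx1 y hy hy1 => ?_⟩
  · rw [← hN]
    by_cases hx1 : x = 1
    · rw [hx1, mul_one, mul_inv_cancel]
    have hne : h ^ N * x * (h ^ N)⁻¹ ≠ 1 := fun e => hx1 (by simpa using e)
    obtain ⟨i, hi, e⟩ := htr x hx hx1 _ (hmem N x hx) hne
    rcases Nat.eq_zero_or_pos i with rfl | hpos
    · simpa using e.symm
    exfalso
    refine hfree (N - i) (by omega) (by omega) _ (hmem i x hx) (fun e1 => hx1 (by simpa using e1)) ?_
    calc h ^ (N - i) * (h ^ i * x * (h ^ i)⁻¹) * (h ^ (N - i))⁻¹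
        = h ^ N * x * (h ^ N)⁻¹ := by
          conv_rhs => rw [show N = (N - i) + i by omega, pow_add]
          group
      _ = h ^ i * x * (h ^ i)⁻¹ := e.symm
  · obtain ⟨i, -, hi⟩ := htr x hx hx1 y hy hy1
    exact ⟨i, hi⟩

open Cfsg.Agent.Small.PSL2 in
theorem cyc_even {F : Type} [Field F] [Fintype F] {n : ℕ} (hn : 2 ≤ n) (hF : Fintype.card F = 2 ^ n) :
    ∃ T : Sylow 2 (Matrix.ProjectiveSpecialLinearGroup (Fin 2) F),
      Cyc (T : Subgroup (Matrix.ProjectiveSpecialLinearGroup (Fin 2) F)) := by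
  classical
  haveI : Fact (Nat.Prime 2) := ⟨Nat.prime_two⟩
  haveI : Finite (Matrix.ProjectiveSpecialLinearGroup (Fin 2) F) := Finite.of_surjective _ pr_surjective
  have hU : IsPGroup 2 (U : Subgroup (Matrix.ProjectiveSpecialLinearGroup (Fin 2) F)) := isPGroup_U hF
  refine ⟨⟨U, hU, fun hQ hle => U_maximal hQ hle⟩, ?_⟩
  have hchar : (2 : F) = 0 := by
    by_contra h2
    have h1 : ((Fintype.card F : ℕ) : F) = 0 := FiniteField.cast_card_eq_zero F
    rw [hF, Nat.cast_pow] at h1
    exact h2 (by exact_mod_cast pow_eq_zero_iff (by omega : n ≠ 0) |>.1 h1)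
  have hcard : Nat.card (U : Subgroup (Matrix.ProjectiveSpecialLinearGroup (Fin 2) F)) = 2 ^ n := by
    rw [← hF, ← Nat.card_eq_fintype_card]
    refine (Nat.card_eq_of_bijective (fun x : F => (⟨pr (uS x), uS_mem x⟩ : U))
      ⟨fun x y e => pr_uS_inj (congrArg Subtype.val e), fun g => ?_⟩).symm
    obtain ⟨x, hx⟩ := (mem_U _).1 g.2
    exact ⟨x, Subtype.ext hx⟩
  have h4 : 4 ≤ 2 ^ n := (show (4 : ℕ) = 2 ^ 2 by norm_num) ▸ Nat.pow_le_pow_right two_pos hn
  obtain ⟨a, ha⟩ := IsCyclic.exists_generator (α := Fˣ)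
  have hord : orderOf a = 2 ^ n - 1 := by
    rw [orderOf_eq_card_of_forall_mem_zpowers ha, Nat.card_units, Nat.card_eq_fintype_card, hF]
  have hconj : ∀ (k : ℕ) (x : F), pr (hS a) ^ k * pr (uS x) * (pr (hS a) ^ k)⁻¹ =
      pr (uS (((a : F) ^ 2) ^ k * x)) := by
    intro k
    induction k with
    | zero => intro x; simp
    | succ k ih =>
      intro x
      have e : pr (hS a) * pr (uS x) * (pr (hS a))⁻¹ = pr (uS ((a : F) ^ 2 * x)) := by
        rw [← map_mul, hS_uS, map_mul, mul_inv_cancel_right]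
      calc pr (hS a) ^ (k + 1) * pr (uS x) * (pr (hS a) ^ (k + 1))⁻¹
          = pr (hS a) ^ k * (pr (hS a) * pr (uS x) * (pr (hS a))⁻¹) * (pr (hS a) ^ k)⁻¹ := by
            rw [pow_succ]; group
        _ = _ := by rw [e, ih, ← mul_assoc, ← pow_succ]
  refine cyc_of_free ?_ (hcard.symm ▸ h4) (h := pr (hS a)) ?_ ?_
  · rintro g hg
    obtain ⟨x, rfl⟩ := (mem_U _).1 hg
    rw [← map_mul, ← uS_add, ← two_mul, hchar, zero_mul, show uS (0 : F) = 1 by
      apply Subtype.ext; simp [uS, Matrix.one_fin_two], map_one]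
  · refine mem_normalizer_iff.2 fun g => ⟨fun hg => ?_, fun hg => ?_⟩
    · obtain ⟨x, rfl⟩ := (mem_U _).1 hg
      have := hconj 1 x
      rw [pow_one] at this
      rw [this]
      exact uS_mem _
    · obtain ⟨y, hy⟩ := (mem_U _).1 hg
      have := hconj 1 (((a : F) ^ 2)⁻¹ * y)
      rw [pow_one, pow_one, mul_inv_cancel_left₀ (pow_ne_zero 2 a.ne_zero), hy] at this
      rw [← mul_left_cancel (mul_right_cancel this)]
      exact uS_mem _
  · intro k hk0 hk g hg hg1 e
    change k < Nat.card (U : Subgroup _) - 1 at hk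
    rw [hcard] at hk
    obtain ⟨x, rfl⟩ := (mem_U _).1 hg
    rw [hconj] at e
    have hx : x ≠ 0 := fun hx0 => hg1 (by
      rw [hx0, show uS (0 : F) = 1 by apply Subtype.ext; simp [uS, Matrix.one_fin_two], map_one])
    have h1 : ((a : F) ^ 2) ^ k = 1 := mul_right_cancel₀ hx ((pr_uS_inj e).trans (one_mul x).symm)
    have h2 : a ^ (2 * k) = 1 := Units.ext (by rw [Units.val_pow_eq_pow_val, pow_mul, h1, Units.val_one])
    have h3 := orderOf_dvd_of_pow_eq_one h2
    rw [hord] at h3
    have hcop : Nat.Coprime (2 ^ n - 1) 2 := by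
      rw [Nat.coprime_two_right]
      obtain ⟨m, rfl⟩ : ∃ m, n = m + 1 := ⟨n - 1, by omega⟩
      rw [pow_succ]
      exact ⟨2 ^ m - 1, by have := Nat.one_le_two_pow (n := m); omega⟩
    have := Nat.le_of_dvd hk0 (hcop.dvd_of_dvd_mul_left h3)
    omega

/-- A simple group with a Sylow 2-subgroup of order 4. -/
theorem cyc_four [IsSimpleGroup K] (hab : Ab2 K) (S : Sylow 2 K) (h4 : Nat.card (S : Subgroup K) = 4) :
    Cyc (S : Subgroup K) := by
  classical
  haveI : Fact (Nat.Prime 2) := ⟨Nat.prime_two⟩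
  by_cases hC : normalizer ((S : Subgroup K) : Set K) ≤ centralizer ((S : Subgroup K) : Set K)
  · exfalso
    have hcomp := MonoidHom.ker_transferSylow_isComplement' S hC
    have hcard := hcomp.card_mul
    rcases IsSimpleGroup.eq_bot_or_eq_top_of_normal _ (MonoidHom.transferSylow S hC).normal_ker with h | h
    · rw [h, Subgroup.card_bot, one_mul] at hcard
      haveI : IsSimpleGroup (S : Subgroup K) := by
        rw [show (S : Subgroup K) = ⊤ from eq_top_of_card_eq _ hcard]
        exact IsSimpleGroup.isSimpleGroup_of_surjective (Subgroup.topEquiv (G := K)).symm.toMonoidHom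
          (MulEquiv.surjective _)
      haveI := hab S
      letI : CommGroup (S : Subgroup K) :=
        { (inferInstance : Group (S : Subgroup K)) with mul_comm := mul_comm' }
      have := IsSimpleGroup.prime_card (α := (S : Subgroup K))
      rw [h4] at this
      exact absurd this (by norm_num)
    · rw [h, Subgroup.card_top] at hcard
      have := Nat.eq_of_mul_eq_mul_left (Nat.card_pos (α := K)) (hcard.trans (mul_one _).symm)
      omega
  obtain ⟨g, hgN, hgC⟩ := SetLike.not_le_iff_exists.1 hC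
  have hScomm : ∀ a ∈ (S : Subgroup K), ∀ b ∈ (S : Subgroup K), a * b = b * a := fun a ha b hb =>
    (commute_of_mem hab S.isPGroup' ha hb).eq
  obtain ⟨a, m, hm, hgord⟩ := Nat.exists_eq_pow_mul_and_not_dvd (orderOf_pos g).ne' 2 (by norm_num)
  set h := g ^ 2 ^ a with hh
  have hhN : h ∈ normalizer ((S : Subgroup K) : Set K) := pow_mem hgN _
  have hmodd : Odd m := Nat.odd_iff.2 (by omega)
  have hhm : h ^ m = 1 := by rw [hh, ← pow_mul, ← hgord, pow_orderOf_eq_one]
  have hgmS : g ^ m ∈ (S : Subgroup K) := by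
    have hp : IsPGroup 2 (zpowers (g ^ m)) := by
      refine IsPGroup.iff_card.2 ?_
      rw [Nat.card_zpowers]
      have h1 : (g ^ m) ^ 2 ^ a = 1 := by rw [← pow_mul, mul_comm, ← hgord, pow_orderOf_eq_one]
      obtain ⟨i, -, hi⟩ := (Nat.dvd_prime_pow Nat.prime_two).1 (orderOf_dvd_of_pow_eq_one h1)
      exact ⟨i, hi⟩
    have hsup := IsPGroup.to_sup_of_normal_left' S.isPGroup' hp (zpowers_le.2 (pow_mem hgN m))
    rw [← S.is_maximal' hsup le_sup_left]
    exact le_sup_right (a := (S : Subgroup K)) (mem_zpowers _)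
  obtain ⟨x, hx, hne⟩ : ∃ x ∈ (S : Subgroup K), h * x * h⁻¹ ≠ x := by
    by_contra hall
    push Not at hall
    refine hgC ?_
    have hcop : Nat.Coprime (2 ^ a) m := Nat.Coprime.pow_left _ (Nat.coprime_two_left.2 hmodd)
    have hbez := Nat.gcd_eq_gcd_ab (2 ^ a) m
    rw [hcop.gcd_eq_one] at hbez
    have hg' : g = h ^ Nat.gcdA (2 ^ a) m * (g ^ m) ^ Nat.gcdB (2 ^ a) m := by
      rw [hh, ← zpow_natCast g (2 ^ a), ← zpow_natCast g m, ← zpow_mul, ← zpow_mul, ← zpow_add, ← hbez,
        Nat.cast_one, zpow_one]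
    have hhC : h ∈ centralizer ((S : Subgroup K) : Set K) := mem_centralizer_iff.2 fun y hy => by
      have := hall y hy
      rw [mul_inv_eq_iff_eq_mul] at this
      exact this.symm
    rw [hg']
    exact mul_mem (zpow_mem hhC _) (zpow_mem (mem_centralizer_iff.2 fun y hy => hScomm y hy _ hgmS) _)
  let c : ℕ → K → K := fun k y => h ^ k * y * (h ^ k)⁻¹
  have hcc : ∀ i j y, c i (c j y) = c (i + j) y := fun i j y => by
    simp only [c, pow_add, mul_inv_rev, mul_assoc]
  have hcmem : ∀ k, ∀ y ∈ (S : Subgroup K), c k y ∈ (S : Subgroup K) := fun k y hy =>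
    (mem_normalizer_iff.1 (pow_mem hhN k) y).1 hy
  have hc0 : ∀ y, c 0 y = y := fun y => by simp [c]
  have hcinj : ∀ k, Function.Injective (c k) := fun k y z e => mul_left_cancel (mul_right_cancel e)
  have hx1 : x ≠ 1 := fun e => hne (by rw [e, mul_one, mul_inv_cancel])
  have h1ne : c 1 x ≠ x := by simpa [c] using hne
  have h2ne : c 2 x ≠ x := by
    intro e
    refine h1ne ?_
    obtain ⟨j, hj⟩ := hmodd
    have e' : ∀ i, c (2 * i) x = x := by
      intro i
      induction i with
      | zero => exact hc0 x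
      | succ i ih => rw [show 2 * (i + 1) = 2 + 2 * i by ring, ← hcc, ih, e]
    have hcm : c (m + 1) x = c 1 x := by simp [c, pow_add, hhm]
    rw [← hcm, show m + 1 = 2 * (j + 1) by omega, e']
  let E : Finset K := {1, x, c 1 x, c 2 x}
  have hEcard : E.card = 4 := by
    have e1 : ∀ k, (1 : K) ≠ c k x := fun k e => hx1 (hcinj k (by simp only [c, mul_one, mul_inv_cancel]; exact e.symm))
    have e2 : c 1 x ≠ c 2 x := fun e => h1ne (hcinj 1 (by rw [hcc]; exact e.symm))
    simp only [E]
    rw [Finset.card_insert_of_notMem, Finset.card_insert_of_notMem, Finset.card_insert_of_notMem,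
      Finset.card_singleton]
    · simp [e2]
    · simp [h1ne.symm, h2ne.symm]
    · simp [hx1.symm, e1 1, e1 2]
  have hall : ∀ y ∈ (S : Subgroup K), y = 1 ∨ y = x ∨ y = c 1 x ∨ y = c 2 x := by
    intro y hy
    by_contra hno
    have hsub : insert y E ⊆ (Set.toFinite ((S : Subgroup K) : Set K)).toFinset := by
      intro z hz
      rw [Set.Finite.mem_toFinset]
      simp only [E, Finset.mem_insert, Finset.mem_singleton] at hz
      rcases hz with rfl | rfl | rfl | rfl | rfl
      exacts [hy, one_mem _, hx, hcmem 1 x hx, hcmem 2 x hx]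
    have := Finset.card_le_card hsub
    rw [Finset.card_insert_of_notMem (by simpa [E] using hno), hEcard, ← Nat.card_eq_card_finite_toFinset] at this
    have h4' : Nat.card ((S : Subgroup K) : Set K) = 4 := h4
    omega
  have h3 : c 3 x = x := by
    have e0 : c 3 x ≠ 1 := fun e => hx1 (hcinj 3 (by simp only [c, mul_one, mul_inv_cancel]; exact e))
    rcases hall _ (hcmem 3 x hx) with e | e | e | e
    · exact absurd e e0
    · exact e
    · exact absurd (hcinj 1 (by rw [hcc]; exact e)) h2ne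
    · exact absurd (hcinj 2 (by rw [hcc]; exact e)) h1ne
  refine cyc_of_free (fun y hy => ?_) h4.ge hhN fun k hk0 hk y hy hy1 e => ?_
  · obtain ⟨z, hz⟩ := exists_prime_orderOf_dvd_card' 2 (show 2 ∣ Nat.card (S : Subgroup K) from ⟨2, h4⟩)
    have hz1 : (z : K) ≠ 1 := fun e => by
      rw [← Subgroup.orderOf_coe, e, orderOf_one] at hz
      omega
    have hzz : (z : K) * z = 1 := by
      have := pow_orderOf_eq_one (z : K)
      rwa [Subgroup.orderOf_coe, hz, pow_two] at this
    have hcsq : ∀ i, c i x * c i x = c i (x * x) := fun i => by simp only [c]; group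
    have hxx : x * x = 1 := by
      rcases hall _ z.2 with e | e | e | e
      · exact absurd e hz1
      · rw [← e]; exact hzz
      all_goals
        rw [e, hcsq] at hzz
        exact hcinj _ (by rw [hzz]; simp [c])
    rcases hall y hy with rfl | rfl | rfl | rfl
    · exact one_mul 1
    · exact hxx
    all_goals rw [hcsq, hxx]; simp [c]
  · have e' : c k y = y := e
    rw [h4] at hk
    have hk' : ∀ i, c k (c i x) ≠ c i x := fun i e1 => by
      have e2 : c k x = x := hcinj i (by rw [hcc, add_comm, ← hcc]; exact e1)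
      interval_cases k
      · exact h1ne e2
      · exact h2ne e2
    rcases hall y hy with e1 | e1 | e1 | e1
    · exact hy1 e1
    · exact hk' 0 (by rw [hc0, ← e1]; exact e')
    · exact hk' 1 (by rw [← e1]; exact e')
    · exact hk' 2 (by rw [← e1]; exact e')

/-- The group with the centraliser `⟨t⟩ × E`. -/
theorem cyc_jr (hK : IsJR K) : ∃ T : Sylow 2 K, Nat.card (T : Subgroup K) = 8 ∧ Cyc (T : Subgroup K) := by
  haveI : Fact (Nat.Prime 2) := ⟨Nat.prime_two⟩
  obtain ⟨hs, hab, t, E, N, F, iF, iT, ht, hE, hNE, hconj, hFo, hF5, ⟨iso⟩, hCE⟩ := hK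
  haveI := hs
  have hna : ¬ IsMulCommutative K := fun hc => by
    haveI : Finite (Matrix.ProjectiveSpecialLinearGroup (Fin 2) F) :=
      Finite.of_surjective _ Small.PSL2.pr_surjective
    refine S0810.psl_not_solvable (F := F) (by omega) (Group.isSolvable_of_comm fun a b => ?_)
    exact iso.symm.injective (by rw [map_mul, map_mul]; exact Subtype.ext (hc.is_comm.comm _ _))
  have hne : centralizer ({t} : Set K) ≠ ⊤ := by
    intro h
    have hc : t ∈ center K := mem_center_iff.2 fun g => mem_centralizer_singleton_iff.1 (h ▸ mem_top g)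
    rcases (inferInstance : (center K).Normal).eq_bot_or_eq_top with h' | h'
    · rw [h', mem_bot] at hc
      rw [hc, orderOf_one] at ht
      omega
    · exact hna ⟨⟨fun a b => mem_center_iff.1 (h' ▸ mem_top b : b ∈ center K) a⟩⟩
  obtain ⟨T, hT⟩ := (IsPGroup.of_card (n := 1) (by rw [Nat.card_zpowers, ht, pow_one]) :
    IsPGroup 2 (zpowers t)).exists_le_sylow
  let D : Lead.JankoRee.RCtx K F :=
    { hG := hna, hab := hab, t := t, ht := ht, hne := hne, E := E, hE := hE, hFo := hFo, hF3 := by omega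
      N := N, N_le := hNE, N_conj := hconj, iso := iso
      faithful := fun e he h => by
        have h' : e ∈ E ⊓ centralizer (N : Set K) := ⟨he, mem_centralizer_iff.2 fun n hn => (h n hn).symm⟩
        rwa [hCE, mem_bot] at h'
      S := T, t_mem := hT (mem_zpowers t) }
  obtain ⟨n, hn, hfree, -⟩ := D.exists_n
  refine ⟨T, D.card_S, cyc_of_free (fun x hx => D.sq_S hx) ?_ hn fun k hk0 hk x hx hx1 => ?_⟩
  · rw [show Nat.card (T : Subgroup K) = 8 from D.card_S]
    norm_num
  · rw [show Nat.card (T : Subgroup K) = 8 from D.card_S] at hk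
    exact hfree k (fun hd => by have := Nat.le_of_dvd hk0 hd; omega) x hx hx1

/-- **The Sylow 2-subgroups of a group of the induction.** -/
theorem cyc_of_ktype [IsSimpleGroup K] (hab : Ab2 K) (hK : KType K) (S : Sylow 2 K) : Cyc (S : Subgroup K) := by
  classical
  haveI : Fact (Nat.Prime 2) := ⟨Nat.prime_two⟩
  have tocyc : ∀ T : Sylow 2 K, Cyc (T : Subgroup K) → Cyc (S : Subgroup K) := fun T hT => by
    obtain ⟨g, rfl⟩ := MulAction.exists_smul_eq K T S
    exact hT.map (MulAut.conj g).toMonoidHom (MulAut.conj g).injective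
  rcases hK with ⟨F, iF, iT, ⟨n, hn, hF⟩ | ⟨h35, h5⟩, ⟨e⟩⟩ | hJ
  · obtain ⟨T, hT⟩ := cyc_even hn hF
    exact tocyc (T.mapSurjective (f := e.symm.toMonoidHom) e.symm.surjective)
      (hT.map e.symm.toMonoidHom e.symm.injective)
  · refine cyc_four hab S ?_
    rw [S.card_eq_multiplicity, Nat.card_congr e.toEquiv]
    have hc := Classical.Dickson.card_psl F
    have hodd : Fintype.card F % 2 = 1 := by omega
    rw [Nat.gcd_eq_left (show 2 ∣ Fintype.card F - 1 by omega)] at hc
    set P := Nat.card (Matrix.ProjectiveSpecialLinearGroup (Fin 2) F)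
    have hv : (P * 2).factorization 2 = 3 := by
      rw [hc]
      have hq2 : ¬ 2 ∣ Fintype.card F := by omega
      obtain ⟨w, hw, hwo⟩ : ∃ w, Fintype.card F ^ 2 - 1 = 2 ^ 3 * w ∧ ¬ 2 ∣ w := by
        obtain ⟨r, hr⟩ : ∃ r, Fintype.card F = 8 * r + 3 ∨ Fintype.card F = 8 * r + 5 :=
          ⟨Fintype.card F / 8, by omega⟩
        rcases hr with hr | hr
        · refine ⟨8 * r ^ 2 + 6 * r + 1, ?_, by omega⟩
          rw [hr]
          have : (8 * r + 3) ^ 2 = 2 ^ 3 * (8 * r ^ 2 + 6 * r + 1) + 1 := by ring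
          omega
        · refine ⟨8 * r ^ 2 + 10 * r + 3, ?_, by omega⟩
          rw [hr]
          have : (8 * r + 5) ^ 2 = 2 ^ 3 * (8 * r ^ 2 + 10 * r + 3) + 1 := by ring
          omega
      rw [hw, Nat.factorization_mul (by omega) (by
        intro h0; rcases Nat.mul_eq_zero.1 h0 with h0 | h0 <;> omega), Finsupp.add_apply,
        Nat.factorization_mul (by norm_num) (by omega), Finsupp.add_apply,
        Nat.factorization_eq_zero_of_not_dvd hq2, Nat.factorization_eq_zero_of_not_dvd hwo,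
        Nat.Prime.factorization_pow Nat.prime_two, Finsupp.single_eq_same, zero_add, add_zero]
    haveI : Finite (Matrix.ProjectiveSpecialLinearGroup (Fin 2) F) := Finite.of_surjective _ Small.PSL2.pr_surjective
    rw [Nat.factorization_mul Nat.card_pos.ne' two_ne_zero, Finsupp.add_apply,
      Nat.Prime.factorization_self Nat.prime_two] at hv
    rw [show P.factorization 2 = 2 from Nat.add_right_cancel (m := 1) hv]
    norm_num
  · obtain ⟨T, -, hT⟩ := cyc_jr hJ
    exact tocyc T hT

end Cfsg.Agent.Walter
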