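import Cfsg.Agent.Lib.Walter.Defs
import Cfsg.Agent.Lib.Bender.AbelianSolvable
import Cfsg.Agent.Lib.Solv.Component
import Cfsg.Agent.Lib.LocalEven.ParabolicInherit
import Cfsg.Agent.S4593

/-!
# Groups with abelian Sylow 2-subgroups and trivial odd core

The components are simple, every 2-element acts on each of them as an inner automorphism and `F*` has odd index.
-/

set_option autoImplicit false
set_option linter.style.haveILetI false
set_option linter.unusedSectionVars false

namespace Cfsg.Agent.Walter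

open Subgroup Cfsg.Agent.Solv.AbelianTwo Cfsg.Agent.Fusion

universe u

variable {X : Type u} [Group X] [Finite X]

/-- A perfect subgroup of a solvable group is trivial. -/
theorem perfect_eq_bot {Y : Type*} [Group Y] [Group.IsSolvable Y] {P : Subgroup Y} (hP : ⁅P, P⁆ = P) : P = ⊥ := by
  obtain ⟨n, hn⟩ := Group.IsSolvable.solvable (G := Y)
  have h : ∀ m, P ≤ derivedSeries Y m := by
    intro m
    induction m with
    | zero => exact le_top
    | succ m ih => rw [derivedSeries_succ, ← hP]; exact commutator_mono ih ih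
  exact le_bot_iff.1 (hn ▸ h n)

/-- A perfect subgroup lies in every normal subgroup of odd index. -/
theorem perfect_le_of_odd_index {N : Subgroup X} [N.Normal] (hN : Odd N.index) {P : Subgroup X} (hP : ⁅P, P⁆ = P) :
    P ≤ N := by
  haveI : Group.IsSolvable (X ⧸ N) := Bender.AbelianSolvable.odd_solvable' hN
  have h := perfect_eq_bot (P := P.map (QuotientGroup.mk' N)) (by rw [← Subgroup.map_commutator, hP])
  rwa [Subgroup.map_eq_bot_iff, QuotientGroup.ker_mk'] at h

/-- A perfect group with abelian Sylow 2-subgroups has no central 2-element. -/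
theorem center_two {K : Type u} [Group K] [Finite K] (hK : ⁅(⊤ : Subgroup K), (⊤ : Subgroup K)⁆ = ⊤) (hab : Ab2 K) {z : K}
    (hz : z ∈ Subgroup.center K) {j : ℕ} (hj : z ^ 2 ^ j = 1) : z = 1 := by
  haveI : Fact (Nat.Prime 2) := ⟨Nat.prime_two⟩
  have hp : IsPGroup 2 (zpowers z) := IsPGroup.iff_card.2 (by
    rw [Nat.card_zpowers]
    obtain ⟨i, -, hi⟩ := (Nat.dvd_prime_pow Nat.prime_two).1 (orderOf_dvd_of_pow_eq_one hj)
    exact ⟨i, hi⟩)
  obtain ⟨S, hS⟩ := hp.exists_le_sylow
  haveI := hab S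
  letI : CommGroup (S : Subgroup K) :=
    { (inferInstance : Group (S : Subgroup K)) with mul_comm := mul_comm' }
  let f : (S : Subgroup K) →* (S : Subgroup K) := MonoidHom.id _
  have hzS : z ∈ (S : Subgroup K) := hS (mem_zpowers z)
  have htriv : MonoidHom.transfer f z = 1 := by
    have h1 : ((⊤ : Subgroup K).map (MonoidHom.transfer f)) = ⊥ := by
      rw [← hK, Subgroup.map_commutator, commutator_eq_bot_iff_le_centralizer]
      exact fun x _ => mem_centralizer_iff.2 fun y _ => mul_comm y x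
    exact (Subgroup.eq_bot_iff_forall _).1 h1 _ ⟨z, mem_top z, rfl⟩
  rw [MonoidHom.transfer_eq_pow f z fun k g _ => by
    rw [mul_assoc, ← Subgroup.mem_center_iff.1 (pow_mem hz k) g, inv_mul_cancel_left]] at htriv
  have h2 : z ^ (S : Subgroup K).index = 1 := congrArg Subtype.val htriv
  have h3 : orderOf z ∣ Nat.gcd (S : Subgroup K).index (2 ^ j) :=
    Nat.dvd_gcd (orderOf_dvd_of_pow_eq_one h2) (orderOf_dvd_of_pow_eq_one hj)
  rw [((Nat.prime_two.coprime_iff_not_dvd.2 S.not_dvd_index).symm.pow_right j).gcd_eq_one] at h3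
  exact orderOf_eq_one_iff.1 (Nat.dvd_one.1 h3)

/-- The data of a group without odd core. -/
structure CoreFree (X : Type u) [Group X] : Prop where
  ab : Ab2 X
  core : Cfsg.oddCore X = ⊥

namespace CoreFree

variable (h : CoreFree X)
include h

theorem odd_normal_eq_bot {N : Subgroup X} (hN : N.Normal) (ho : Odd (Nat.card N)) : N = ⊥ :=
  le_bot_iff.1 (h.core ▸ le_sSup ⟨hN, Nat.coprime_two_left.2 ho |>.symm⟩)

/-- `F(X)` is a 2-group. -/
theorem fitting_two : IsPGroup 2 (Cfsg.fittingSubgroup X) := by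
  haveI : Fact (Nat.Prime 2) := ⟨Nat.prime_two⟩
  haveI : Group.IsNilpotent (Cfsg.fittingSubgroup X) := Solv.fittingSubgroup_nilpotent
  haveI : (Cfsg.fittingSubgroup X).Normal := Solv.fittingSubgroup_normal
  refine IsPGroup.of_card (Nat.eq_prime_pow_of_unique_prime_dvd Nat.card_pos.ne' fun {q} hq hqd => ?_)
  by_contra hq2
  haveI : Fact q.Prime := ⟨hq⟩
  obtain ⟨Q⟩ := (inferInstance : Nonempty (Sylow q (Cfsg.fittingSubgroup X)))
  haveI : (Q : Subgroup (Cfsg.fittingSubgroup X)).Characteristic :=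
    Q.characteristic_of_normal (Sylow.normal_of_normalizerCondition Group.normalizerCondition_of_isNilpotent Q)
  have hn : ((Q : Subgroup (Cfsg.fittingSubgroup X)).map (Cfsg.fittingSubgroup X).subtype).Normal := inferInstance
  have hb := h.odd_normal_eq_bot hn (by
    rw [Subgroup.card_map_of_injective (Subgroup.subtype_injective _)]
    obtain ⟨i, hi⟩ := IsPGroup.iff_card.1 Q.isPGroup'
    rw [hi]
    exact (hq.odd_of_ne_two hq2).pow)
  have h1 := Q.dvd_card_of_dvd_card hqd
  rw [← Subgroup.card_map_of_injective (Subgroup.subtype_injective (Cfsg.fittingSubgroup X)), hb,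
    Subgroup.card_bot] at h1
  exact hq.one_lt.ne' (Nat.dvd_one.1 h1)

variable {K : Subgroup X} (hK : Cfsg.IsComponent K)
include hK

omit h in
theorem comp_perfect : ⁅K, K⁆ = K := Solv.qs_self_commutator hK.2

theorem comp_center : Subgroup.center K = ⊥ := by
  refine (Subgroup.eq_bot_iff_forall _).2 fun z hz => ?_
  have hzF : (z : X) ∈ Cfsg.fittingSubgroup X := Solv.center_component_le_fitting hK ⟨z, hz, rfl⟩
  obtain ⟨j, hj⟩ := h.fitting_two ⟨z, hzF⟩
  refine center_two ?_ (Solv.AbelianTwo.of_injective h.ab K.subtype K.subtype_injective) hz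
    (Subtype.ext (by simpa using congrArg Subtype.val hj) : z ^ 2 ^ j = 1)
  refine Subgroup.map_injective K.subtype_injective ?_
  rw [Subgroup.map_commutator, ← MonoidHom.range_eq_map, Subgroup.range_subtype, comp_perfect hK]

theorem comp_simple : IsSimpleGroup K := by
  haveI := hK.2.2
  haveI : Nontrivial K := Solv.qs_nontrivial hK.2
  exact IsSimpleGroup.isSimpleGroup_of_surjective
    ((QuotientGroup.quotientMulEquivOfEq (h.comp_center hK)).trans QuotientGroup.quotientBot).toMonoidHom
    (MulEquiv.surjective _)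

omit h in
theorem comp_nonab : ¬ IsMulCommutative K := fun hc => by
  refine Solv.qs_not_le_centralizer hK.2 ((Subgroup.commutator_eq_bot_iff_le_centralizer).2 fun x hx => ?_)
  exact mem_centralizer_iff.2 fun y hy => congrArg Subtype.val (hc.is_comm.comm (⟨y, hy⟩ : K) ⟨x, hx⟩)

omit h in
theorem comp_sylIn (S : Sylow 2 X) : SylIn 2 ((S : Subgroup X) ⊓ K) K :=
  haveI : Fact (Nat.Prime 2) := ⟨Nat.prime_two⟩
  LocalEven.sylIn_inf_subnormal S hK.1

theorem comp_inf_ne_bot (S : Sylow 2 X) : (S : Subgroup X) ⊓ K ≠ ⊥ := by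
  intro e
  haveI := h.comp_simple hK
  have h1 := (comp_sylIn hK S).not_dvd
  rw [e, Subgroup.relIndex_bot_left] at h1
  haveI := Bender.AbelianSolvable.odd_solvable' (Nat.not_even_iff_odd.1 fun he => h1 he.two_dvd : Odd (Nat.card K))
  exact comp_nonab hK ⟨⟨IsSimpleGroup.comm_iff_isSolvable.2 inferInstance⟩⟩

/-- Every 2-element normalises every component. -/
theorem sylow_le_normalizer (S : Sylow 2 X) : (S : Subgroup X) ≤ normalizer (K : Set X) := by
  intro a ha
  obtain ⟨x, hx, hx1⟩ := (Subgroup.ne_bot_iff_exists_ne_one.1 (h.comp_inf_ne_bot hK S)).elim fun x hx =>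
    (⟨x.1, x.2, fun e => hx (Subtype.ext e)⟩ : ∃ x ∈ (S : Subgroup X) ⊓ K, x ≠ (1 : X))
  have hax : a * x * a⁻¹ = x := by
    rw [commute_of_mem h.ab S.isPGroup' ha hx.1, mul_inv_cancel_right]
  have hK' := Solv.component_conj hK a
  set K' := K.map (MulAut.conj a).toMonoidHom with hK'def
  by_cases e : K' = K
  · refine mem_normalizer_iff.2 fun y => ⟨fun hy => e ▸ ⟨y, hy, rfl⟩, fun hy => ?_⟩
    rw [← e] at hy
    obtain ⟨w, hw, e'⟩ := hy
    have e'' : a * w * a⁻¹ = a * y * a⁻¹ := e'
    exact mul_left_cancel (mul_right_cancel e'') ▸ hw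
  exfalso
  have hc := Subgroup.commutator_eq_bot_iff_le_centralizer.1 (Solv.components_commute hK' hK e)
  have hxK' : x ∈ K' := ⟨x, hx.2, hax⟩
  have hxc : (⟨x, hx.2⟩ : K) ∈ Subgroup.center K := Subgroup.mem_center_iff.2 fun y =>
    Subtype.ext (mem_centralizer_iff.1 (hc hxK') y y.2)
  rw [h.comp_center hK, Subgroup.mem_bot] at hxc
  exact hx1 (congrArg Subtype.val hxc)

/-- Every element of a Sylow 2-subgroup is a product of an element of its trace in `K` and one centralising `K`. -/
theorem split (S : Sylow 2 X) {a : X} (ha : a ∈ (S : Subgroup X)) :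
    ∃ v ∈ (S : Subgroup X) ⊓ K, ∀ x ∈ K, v⁻¹ * a * x = x * (v⁻¹ * a) := by
  haveI : Fact (Nat.Prime 2) := ⟨Nat.prime_two⟩
  haveI := h.comp_simple hK
  have hT := comp_sylIn hK S
  obtain ⟨P, hP⟩ := hT.exists_sylow_subgroupOf
  let α : MulAut K := Subgroup.normalizerMonoidHom K ⟨a, h.sylow_le_normalizer hK S ha⟩
  have hα : ∀ x : K, ((α x : K) : X) = a * x * a⁻¹ := fun x => rfl
  obtain ⟨j, hj⟩ := S.isPGroup' ⟨a, ha⟩
  have hj' : a ^ 2 ^ j = 1 := congrArg Subtype.val hj
  have hα2 : ∃ i : ℕ, orderOf α = 2 ^ i := by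
    have h1 : α ^ 2 ^ j = 1 := by
      show Subgroup.normalizerMonoidHom K _ ^ 2 ^ j = 1
      rw [← map_pow, show (⟨a, h.sylow_le_normalizer hK S ha⟩ : normalizer (K : Set X)) ^ 2 ^ j = 1 from
        Subtype.ext hj', map_one]
    obtain ⟨i, -, hi⟩ := (Nat.dvd_prime_pow Nat.prime_two).1 (orderOf_dvd_of_pow_eq_one h1)
    exact ⟨i, hi⟩
  have hfix : ∀ x ∈ (P : Subgroup K), α x = x := fun x hx => by
    rw [hP, mem_subgroupOf] at hx
    refine Subtype.ext ?_
    rw [hα, commute_of_mem h.ab S.isPGroup' ha hx.1, mul_inv_cancel_right]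
  have hcore : Cfsg.pPrimeCore 2 K = ⊥ := by
    rcases (inferInstance : (Cfsg.pPrimeCore 2 K).Normal).eq_bot_or_eq_top with e | e
    · exact e
    · exfalso
      have h1 := Solv.pPrimeCore_coprime (G := K) 2
      rw [e, Subgroup.card_top] at h1
      haveI := Bender.AbelianSolvable.odd_solvable' (Nat.coprime_two_right.1 h1 : Odd (Nat.card K))
      exact comp_nonab hK ⟨⟨IsSimpleGroup.comm_iff_isSolvable.2 inferInstance⟩⟩
  obtain ⟨k, hk⟩ := S4593.main hcore P (Solv.AbelianTwo.of_injective h.ab K.subtype K.subtype_injective P) α hα2 hfix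
  set c := (k : X)⁻¹ * a with hc
  have hcK : ∀ x ∈ K, c * x = x * c := fun x hx => by
    have h1 := congrArg Subtype.val (hk ⟨x, hx⟩)
    rw [hα, Subgroup.coe_mul, Subgroup.coe_mul, Subgroup.coe_inv] at h1
    calc c * x = (k : X)⁻¹ * (a * x * a⁻¹) * a := by rw [hc]; group
      _ = x * c := by rw [h1, hc]; group
  refine ⟨k, ⟨?_, k.2⟩, hcK⟩
  -- `k` is a 2-element centralising the trace
  have hkc : Commute (k : X) c := (hcK k k.2).symm
  have hpow : (k : X) ^ 2 ^ j = 1 := by
    have h1 : (k : X) ^ 2 ^ j * c ^ 2 ^ j = 1 := by rw [← hkc.mul_pow, hc, mul_inv_cancel_left, hj']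
    have h2 : k ^ 2 ^ j ∈ Subgroup.center K := Subgroup.mem_center_iff.2 fun x => Subtype.ext (by
      have e1 : (k : X) ^ 2 ^ j = (c ^ 2 ^ j)⁻¹ := eq_inv_of_mul_eq_one_left h1
      rw [Subgroup.coe_mul, Subgroup.coe_mul, SubgroupClass.coe_pow, e1]
      exact (((show Commute c (x : X) from hcK x x.2).pow_left (2 ^ j)).inv_left).eq.symm)
    rw [h.comp_center hK, Subgroup.mem_bot] at h2
    simpa using congrArg Subtype.val h2
  have hcomm : ∀ x ∈ (S : Subgroup X) ⊓ K, (k : X) * x = x * k := fun x hx => by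
    have h1 : Commute c x := hcK x hx.2
    have h2 : Commute a x := commute_of_mem h.ab S.isPGroup' ha hx.1
    have h3 := h2.mul_left h1.inv_left
    rwa [hc, mul_inv_rev, inv_inv, mul_inv_cancel_left] at h3
  let Q : Subgroup X := ((S : Subgroup X) ⊓ K) ⊔ zpowers (k : X)
  have hQn : zpowers (k : X) ≤ normalizer (((S : Subgroup X) ⊓ K : Subgroup X) : Set X) := by
    refine zpowers_le.2 (mem_normalizer_iff.2 fun x => ⟨fun hx => ?_, fun hx => ?_⟩)
    · rwa [hcomm x hx, mul_inv_cancel_right]
    · have e := hcomm _ hx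
      rw [mul_assoc ((k : X) * x), inv_mul_cancel, mul_one] at e
      exact mul_left_cancel e ▸ hx
  have hQp : IsPGroup 2 Q := hT.isPGroup.to_sup_of_normal_left' (IsPGroup.iff_card.2 (by
    rw [Nat.card_zpowers]
    obtain ⟨i, -, hi⟩ := (Nat.dvd_prime_pow Nat.prime_two).1 (orderOf_dvd_of_pow_eq_one hpow)
    exact ⟨i, hi⟩)) hQn
  have h5 : (k : X) ∈ Q := le_sup_right (a := (S : Subgroup X) ⊓ K) (mem_zpowers _)
  have h6 : Q = (S : Subgroup X) ⊓ K := (hT.eq_of_le hQp le_sup_left (sup_le inf_le_right (zpowers_le.2 k.2)))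
  exact (h6 ▸ h5).1

end CoreFree

theorem gfit_normal' : (Cfsg.generalizedFittingSubgroup X).Normal := Local.gfit_normal

namespace CoreFree

variable (h : CoreFree X)
include h

/-- `F*(X)` contains every Sylow 2-subgroup. -/
theorem sylow_le_gfit (S : Sylow 2 X) : (S : Subgroup X) ≤ Cfsg.generalizedFittingSubgroup X := by
  classical
  haveI : Fact (Nat.Prime 2) := ⟨Nat.prime_two⟩
  intro a ha
  have hfin : {K : Subgroup X | Cfsg.IsComponent K}.Finite := Set.toFinite _
  have key : ∀ s : Finset (Subgroup X), (∀ K ∈ s, Cfsg.IsComponent K) →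
      ∃ v ∈ (S : Subgroup X) ⊓ Cfsg.layer X, ∀ K ∈ s, ∀ x ∈ K, v⁻¹ * a * x = x * (v⁻¹ * a) := by
    intro s
    induction s using Finset.induction_on with
    | empty => exact fun _ => ⟨1, one_mem _, fun K hK => absurd hK (Finset.notMem_empty K)⟩
    | insert K s hKs ih =>
      intro hs
      obtain ⟨v, hv, hvs⟩ := ih fun L hL => hs L (Finset.mem_insert_of_mem hL)
      have hK := hs K (Finset.mem_insert_self K s)
      obtain ⟨w, hw, hwK⟩ := h.split hK S (mul_mem (inv_mem hv.1) ha : v⁻¹ * a ∈ (S : Subgroup X))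
      refine ⟨v * w, mul_mem hv ⟨hw.1, Solv.component_le_layer hK hw.2⟩, fun L hL x hx => ?_⟩
      have e : (v * w)⁻¹ * a = w⁻¹ * (v⁻¹ * a) := by group
      rw [e]
      rcases Finset.mem_insert.1 hL with rfl | hL
      · exact hwK x hx
      · have hne : K ≠ L := fun e => hKs (e ▸ hL)
        have h1 : Commute w x := (mem_centralizer_iff.1 (Subgroup.commutator_eq_bot_iff_le_centralizer.1
          (Solv.components_commute hK (hs L (Finset.mem_insert_of_mem hL)) hne) hw.2) x hx).symm
        exact (h1.inv_left.mul_left (hvs L hL x hx)).eq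
  obtain ⟨v, hv, hvK⟩ := key hfin.toFinset fun K hK => hfin.mem_toFinset.1 hK
  have hc : v⁻¹ * a ∈ centralizer (Cfsg.generalizedFittingSubgroup X : Set X) := by
    have hle : Cfsg.generalizedFittingSubgroup X ≤ centralizer ({v⁻¹ * a} : Set X) := by
      refine sup_le (sSup_le fun K hK x hx => mem_centralizer_singleton_iff.2 ?_) fun x hx => ?_
      · exact (hvK K (hfin.mem_toFinset.2 hK) x hx).symm
      · refine mem_centralizer_singleton_iff.2 ?_
        have hFS : (Cfsg.fittingSubgroup X) ≤ (S : Subgroup X) := by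
          haveI : (Cfsg.fittingSubgroup X).Normal := Solv.fittingSubgroup_normal
          exact sup_eq_right.1 (S.is_maximal' (IsPGroup.to_sup_of_normal_left h.fitting_two S.isPGroup') le_sup_right)
        exact commute_of_mem h.ab S.isPGroup' (hFS hx) (mul_mem (inv_mem hv.1) ha)
    exact mem_centralizer_iff.2 fun x hx => mem_centralizer_singleton_iff.1 (hle hx)
  have := mul_mem (le_sup_left (b := Cfsg.fittingSubgroup X) hv.2) (Solv.centralizer_gfit_le hc)
  rwa [mul_inv_cancel_left] at this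

theorem gfit_odd_index : Odd (Cfsg.generalizedFittingSubgroup X).index := by
  haveI : Fact (Nat.Prime 2) := ⟨Nat.prime_two⟩
  obtain ⟨S⟩ := (inferInstance : Nonempty (Sylow 2 X))
  exact (Nat.not_even_iff_odd.1 fun he => S.not_dvd_index
    (he.two_dvd.trans (Subgroup.index_dvd_of_le (h.sylow_le_gfit S))))

/-- Perfect subgroups lie in `F*`. -/
theorem perfect_le_gfit {P : Subgroup X} (hP : ⁅P, P⁆ = P) : P ≤ Cfsg.generalizedFittingSubgroup X :=
  haveI := gfit_normal' (X := X)
  perfect_le_of_odd_index h.gfit_odd_index hP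

/-- `F*(X) ≤ K C(K)`. -/
theorem gfit_split {K : Subgroup X} (hK : Cfsg.IsComponent K) {f : X}
    (hf : f ∈ Cfsg.generalizedFittingSubgroup X) : ∃ k ∈ K, ∀ x ∈ K, k⁻¹ * f * x = x * (k⁻¹ * f) := by
  have hn : centralizer (K : Set X) ≤ normalizer (K : Set X) := Subgroup.centralizer_le_normalizer _
  have hle : Cfsg.generalizedFittingSubgroup X ≤ K ⊔ centralizer (K : Set X) := by
    refine sup_le (sSup_le fun L hL => ?_) (le_sup_of_le_right ?_)
    · by_cases e : L = K
      · exact e ▸ le_sup_left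
      · exact le_sup_of_le_right
          (Subgroup.commutator_eq_bot_iff_le_centralizer.1 (Solv.components_commute hL hK e))
    · refine Subgroup.commutator_eq_bot_iff_le_centralizer.1 ?_
      rw [Subgroup.commutator_comm]
      exact le_bot_iff.1 (Solv.layer_commutator_fitting (G := X) ▸
        commutator_mono (Solv.component_le_layer hK) le_rfl)
  have h1 := hle hf
  rw [← SetLike.mem_coe, Subgroup.coe_mul_of_right_le_normalizer_left K _ hn] at h1
  obtain ⟨k, hk, c, hc, rfl⟩ := h1
  refine ⟨k, hk, fun x hx => ?_⟩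
  simp only [inv_mul_cancel_left]
  exact (mem_centralizer_iff.1 hc x hx).symm

/-- A perfect subgroup centralising all components is trivial. -/
theorem perfect_bot {P : Subgroup X} (hP : ⁅P, P⁆ = P)
    (hc : ∀ K : Subgroup X, Cfsg.IsComponent K → P ≤ centralizer (K : Set X)) : P = ⊥ := by
  haveI : (Cfsg.fittingSubgroup X).Normal := Solv.fittingSubgroup_normal
  have hle : P ≤ Cfsg.fittingSubgroup X := by
    intro p hp
    have h1 := h.perfect_le_gfit hP hp
    obtain ⟨e, he, f, hf, rfl⟩ := Subgroup.mem_sup_of_normal_right.1 h1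
    have he1 : e = 1 := Solv.eq_one_of_central_in_commuting {K | Cfsg.IsComponent K}
      (fun K hK L hL hne => Solv.components_commute hK hL hne) (fun K hK => h.comp_center hK) he fun K hK x hx => by
        have h2 : x * (e * f) = e * f * x := mem_centralizer_iff.1 (hc K hK hp) x hx
        have h3 : x * f = f * x := mem_centralizer_iff.1 (Subgroup.commutator_eq_bot_iff_le_centralizer.1
          (by rw [Subgroup.commutator_comm]; exact le_bot_iff.1 (Solv.layer_commutator_fitting (G := X) ▸
            commutator_mono (Solv.component_le_layer hK) le_rfl)) hf) x hx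
        rw [← mul_assoc, mul_assoc e f, ← h3, ← mul_assoc] at h2
        exact mul_right_cancel h2
    rwa [he1, one_mul]
  haveI : Group.IsNilpotent (Cfsg.fittingSubgroup X) := Solv.fittingSubgroup_nilpotent
  have h1 := perfect_eq_bot (Y := Cfsg.fittingSubgroup X) (P := P.subgroupOf _) (by
    refine Subgroup.map_injective (Subgroup.subtype_injective _) ?_
    rw [Subgroup.map_commutator, Subgroup.map_subgroupOf_eq_of_le hle, hP])
  exact le_bot_iff.1 fun p hp => by
    have h2 : (⟨p, hle hp⟩ : Cfsg.fittingSubgroup X) ∈ P.subgroupOf _ := mem_subgroupOf.2 hp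
    rw [h1, Subgroup.mem_bot] at h2
    exact Subgroup.mem_bot.2 (congrArg Subtype.val h2)

end CoreFree

/-- **The shape of a group with abelian Sylow 2-subgroups and trivial odd core.** -/
theorem shape_of {n : ℕ} (hb : Below.{u} n) (hn : Nat.card X < n) (h : CoreFree X) : Shape X := by
  refine ⟨fun K hK => ?_, h.gfit_odd_index⟩
  haveI := h.comp_simple hK
  exact hb K (CoreFree.comp_nonab hK) (Solv.AbelianTwo.of_injective h.ab K.subtype K.subtype_injective)
    (lt_of_le_of_lt (Subgroup.card_le_card_group K) hn)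

end Cfsg.Agent.Walter
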