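import Cfsg.Agent.Lib.Walter.Cases
import Cfsg.Agent.Lib.Walter.Core.BlockFinal
import Cfsg.Agent.Lib.Classical.CyclicNormalizer.Main
import Cfsg.Agent.S3188

/-!
# Simple groups with abelian Sylow 2-subgroups, from the two remaining inputs

The strongly embedded theorem kills the block case; the vanishing of the cores in rank three gives the centraliser
`⟨t⟩ × E`.
-/

set_option autoImplicit false
set_option linter.style.haveILetI false
set_option linter.unusedSectionVars false

namespace Cfsg.Agent.Walter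

open Subgroup Cfsg.Agent.Solv.AbelianTwo

universe u v

variable {G : Type u} [Group G] [Finite G]

/-- All involution centralisers solvable gives `PSL₂`. -/
theorem isL2_of_solvable (hG : MinHyp G)
    (h : ∀ t : G, orderOf t = 2 → Group.IsSolvable ↥(centralizer ({t} : Set G))) : IsL2 G := by
  haveI := hG.simple
  obtain ⟨S⟩ := (inferInstance : Nonempty (Sylow 2 G))
  rcases S3188.result S (hG.ab S) h with hs | ⟨F, iF, iT, hF, N, hN, ⟨e⟩, -⟩
  · haveI := hs
    exact absurd ⟨⟨IsSimpleGroup.comm_iff_isSolvable.2 inferInstance⟩⟩ hG.nonab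
  have hO : Cfsg.oddCore G = ⊥ := by
    rcases (inferInstance : (Cfsg.oddCore G).Normal).eq_bot_or_eq_top with e' | e'
    · exact e'
    · exfalso
      have h1 := Fusion.card_pPrimeCore_coprime 2 G
      rw [show Cfsg.pPrimeCore 2 G = ⊤ from e', Subgroup.card_top] at h1
      haveI := Bender.AbelianSolvable.odd_solvable' (Nat.coprime_two_right.1 h1 : Odd (Nat.card G))
      exact hG.nonab ⟨⟨IsSimpleGroup.comm_iff_isSolvable.2 inferInstance⟩⟩
  let q : G ≃* G ⧸ Cfsg.oddCore G := ((QuotientGroup.quotientMulEquivOfEq hO).trans QuotientGroup.quotientBot).symm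
  haveI : IsSimpleGroup (G ⧸ Cfsg.oddCore G) :=
    haveI : Nontrivial (G ⧸ Cfsg.oddCore G) := q.toEquiv.symm.nontrivial
    IsSimpleGroup.isSimpleGroup_of_surjective q.toMonoidHom q.surjective
  rcases hN.eq_bot_or_eq_top with e' | e'
  · exfalso
    subst e'
    haveI : Finite (Matrix.ProjectiveSpecialLinearGroup (Fin 2) F) := Finite.of_surjective _ Small.PSL2.pr_surjective
    have h4 : 4 ≤ Fintype.card F := by
      rcases hF with ⟨-, h5⟩ | ⟨n, hn, hc⟩
      · omega
      · rw [hc]
        exact (show (4 : ℕ) = 2 ^ 2 by norm_num) ▸ Nat.pow_le_pow_right two_pos hn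
    exact S0810.psl_not_solvable (F := F) h4 (Group.isSolvable_of_isSolvable_injective (f := e.symm.toMonoidHom)
      e.symm.injective)
  · exact ⟨F, iF, iT, hF.symm, ⟨q.trans (Subgroup.topEquiv.symm.trans ((MulEquiv.subgroupCongr e').symm.trans e))⟩⟩

/-- A group of the induction with Sylow 2-subgroups of order 4 is `PSL₂` in odd characteristic. -/
theorem psl_of_four {K : Type u} [Group K] [Finite K] [IsSimpleGroup K] (hK : KType K) (S : Sylow 2 K)
    (h4 : Nat.card (S : Subgroup K) ≤ 4) :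
    ∃ (F : Type) (_ : Field F) (_ : Fintype F), Odd (Fintype.card F) ∧ 5 ≤ Fintype.card F ∧
      Nonempty (K ≃* Matrix.ProjectiveSpecialLinearGroup (Fin 2) F) := by
  haveI : Fact (Nat.Prime 2) := ⟨Nat.prime_two⟩
  rcases hK with ⟨F, iF, iT, ⟨n, hn, hF⟩ | ⟨h35, h5⟩, ⟨e⟩⟩ | hJ
  · haveI : Finite (Matrix.ProjectiveSpecialLinearGroup (Fin 2) F) := Finite.of_surjective _ Small.PSL2.pr_surjective
    have hU : Nat.card (Small.PSL2.U : Subgroup (Matrix.ProjectiveSpecialLinearGroup (Fin 2) F)) = 2 ^ n := by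
      rw [← hF, ← Nat.card_eq_fintype_card]
      refine (Nat.card_eq_of_bijective (fun x : F => (⟨Small.PSL2.pr (Small.PSL2.uS x), Small.PSL2.uS_mem x⟩ :
        Small.PSL2.U)) ⟨fun x y e' => Small.PSL2.pr_uS_inj (congrArg Subtype.val e'), fun g => ?_⟩).symm
      obtain ⟨x, hx⟩ := (Small.PSL2.mem_U _).1 g.2
      exact ⟨x, Subtype.ext hx⟩
    have hle : 2 ^ n ≤ 4 := by
      obtain ⟨T, hT⟩ := (Small.PSL2.isPGroup_U hF).exists_le_sylow
      have h1 := Subgroup.card_le_of_le hT
      rw [hU] at h1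
      refine h1.trans (le_trans ?_ h4)
      rw [← Nat.card_congr ((T.mapSurjective (f := e.symm.toMonoidHom) e.symm.surjective).equiv S).toEquiv,
        show ((T.mapSurjective (f := e.symm.toMonoidHom) e.symm.surjective : Sylow 2 K) : Subgroup K) =
          (T : Subgroup _).map e.symm.toMonoidHom from rfl,
        Subgroup.card_map_of_injective e.symm.injective]
    have h4' : Fintype.card F = 4 := by
      have h2 : 2 ^ 2 ≤ 2 ^ n := Nat.pow_le_pow_right two_pos hn
      omega
    obtain ⟨F', i1, i2, hc, h2, e'⟩ := Classical.CyclicNormalizer.four_to_five h4' e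
    have ho : Odd (Fintype.card F') := by
      obtain ⟨p, hp⟩ := CharP.exists F'
      haveI := hp
      obtain ⟨m, hpp, hm⟩ := FiniteField.card F' p
      rw [hm]
      refine (hpp.odd_of_ne_two fun e2 => h2 ?_).pow
      subst e2
      exact_mod_cast CharP.cast_eq_zero F' 2
    exact ⟨F', i1, i2, ho, by obtain ⟨k, hk⟩ := ho; omega, e'⟩
  · exact ⟨F, iF, iT, Nat.odd_iff.2 (by omega), h5, ⟨e⟩⟩
  · obtain ⟨T, hT, -⟩ := cyc_jr hJ
    rw [← Nat.card_congr (T.equiv S).toEquiv, hT] at h4
    omega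

/-- The centraliser of a central involution in a core free group with Sylow subgroups of order 8. -/
theorem cent_split {C : Type u} [Group C] [Finite C] (hF : CoreFree C) (hshape : ∀ K : Subgroup C,
    Cfsg.IsComponent K → KType K) {K : Subgroup C} (hK : Cfsg.IsComponent K) (S : Sylow 2 C)
    (h8 : Nat.card (S : Subgroup C) = 8) {t : C} (ht : orderOf t = 2) (htS : t ∈ (S : Subgroup C))
    (htc : ∀ c, c * t = t * c) :
    ∃ (E N : Subgroup C) (F : Type) (_ : Field F) (_ : Fintype F),
      t ∉ E ∧ (∀ c, c ∈ E ∨ t * c ∈ E) ∧ N ≤ E ∧ (∀ e ∈ E, ∀ n ∈ N, e * n * e⁻¹ ∈ N) ∧ Odd (Fintype.card F) ∧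
      5 ≤ Fintype.card F ∧ Nonempty (N ≃* Matrix.ProjectiveSpecialLinearGroup (Fin 2) F) ∧
      E ⊓ centralizer (N : Set C) = ⊥ := by
  haveI : Fact (Nat.Prime 2) := ⟨Nat.prime_two⟩
  haveI hKs := hF.comp_simple hK
  have ht1 : t ≠ 1 := fun e => by rw [e, orderOf_one] at ht; omega
  have htt : t * t = 1 := by rw [← pow_two, ← ht, pow_orderOf_eq_one]
  have htK : t ∉ K := fun h => by
    have h1 : (⟨t, h⟩ : K) ∈ Subgroup.center K := Subgroup.mem_center_iff.2 fun y => Subtype.ext (htc y)
    rw [hF.comp_center hK, Subgroup.mem_bot] at h1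
    exact ht1 (congrArg Subtype.val h1)
  set M := (S : Subgroup C) ⊓ K with hM
  have hMS : Nat.card M * 2 ≤ 8 := by
    have hlt : Nat.card M < Nat.card (S : Subgroup C) :=
      Set.Finite.card_lt_card (Set.toFinite ((S : Subgroup C) : Set C))
        (SetLike.coe_ssubset_coe.2 (lt_of_le_of_ne inf_le_left fun e => htK (e.ge htS).2))
    obtain ⟨k, hk⟩ := Subgroup.card_dvd_of_le (inf_le_left : M ≤ (S : Subgroup C))
    rw [h8] at hk hlt
    have hk' : 8 = Nat.card M * k := hk
    have hk2 : 2 ≤ k := by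
      by_contra h0
      have := Nat.mul_le_mul_left (Nat.card M) (show k ≤ 1 by omega)
      omega
    calc Nat.card M * 2 ≤ Nat.card M * k := Nat.mul_le_mul_left _ hk2
      _ = 8 := hk.symm
  obtain ⟨P, hP⟩ := (CoreFree.comp_sylIn hK S).exists_sylow_subgroupOf
  have hPM : Nat.card (P : Subgroup K) = Nat.card M := by
    rw [hP, Nat.card_congr (Subgroup.subgroupOfEquivOfLe inf_le_right).toEquiv]
  obtain ⟨F, iF, iT, hFo, hF5, ⟨eK⟩⟩ := psl_of_four (hshape K hK) P (by omega)
  have hM4 : 4 ≤ Nat.card M := hPM ▸ (cyc_of_ktype (of_injective hF.ab K.subtype K.subtype_injective)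
    (hshape K hK) P).big
  have hcomm : ∀ a ∈ (S : Subgroup C), ∀ b ∈ (S : Subgroup C), Commute a b := fun a ha b hb =>
    commute_of_mem hF.ab S.isPGroup' ha hb
  -- `S` is the union of `M` and `tM`
  have hSsplit : ∀ s ∈ (S : Subgroup C), s ∈ M ∨ t * s ∈ M := by
    intro s hs
    have hidx : (M.subgroupOf (S : Subgroup C)).index = 2 := by
      have h1 := (M.subgroupOf (S : Subgroup C)).card_mul_index
      rw [Nat.card_congr (Subgroup.subgroupOfEquivOfLe inf_le_left).toEquiv, h8] at h1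
      have h3 : Nat.card M = 4 := by omega
      rw [h3] at h1
      omega
    by_cases h : s ∈ M
    · exact Or.inl h
    refine Or.inr (mem_subgroupOf.1 (Subgroup.mul_mem_iff_of_index_two hidx (a := ⟨t, htS⟩) (b := ⟨s, hs⟩) |>.2 ?_))
    exact ⟨fun h1 => absurd (mem_subgroupOf.1 h1).2 htK, fun h1 => absurd (mem_subgroupOf.1 h1) h⟩
  -- the transfer into `S`
  haveI : IsMulCommutative ↥(S : Subgroup C) := hF.ab S
  letI : CommGroup (S : Subgroup C) :=
    { (inferInstance : Group (S : Subgroup C)) with mul_comm := mul_comm' }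
  set φ := MonoidHom.transfer (MonoidHom.id (S : Subgroup C)) with hφ
  have hφt : φ t = ⟨t, htS⟩ := by
    rw [hφ, MonoidHom.transfer_eq_pow _ t fun k g _ => by
      rw [mul_assoc, ← (show Commute g t from htc g).pow_right k, inv_mul_cancel_left]]
    refine Subtype.ext ?_
    show t ^ (S : Subgroup C).index = t
    obtain ⟨j, hj⟩ : Odd (S : Subgroup C).index := Nat.not_even_iff_odd.1 fun he => S.not_dvd_index he.two_dvd
    rw [hj, pow_succ, pow_mul, pow_two, htt, one_pow, one_mul]
  set E : Subgroup C := (M.subgroupOf (S : Subgroup C)).comap φ with hE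
  have hmemE : ∀ c, c ∈ E ↔ ((φ c : (S : Subgroup C)) : C) ∈ M := fun c => Iff.rfl
  have hKE : K ≤ E := by
    intro k hk
    have h1 : K.map φ = ⊥ := by
      have hperf := CoreFree.comp_perfect hK
      rw [← hperf, Subgroup.map_commutator, commutator_eq_bot_iff_le_centralizer]
      exact fun x _ => mem_centralizer_iff.2 fun y _ => mul_comm y x
    rw [hmemE, show φ k = 1 from (Subgroup.eq_bot_iff_forall _).1 h1 _ ⟨k, hk, rfl⟩, Subgroup.coe_one]
    exact one_mem _
  have htE : t ∉ E := fun h => by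
    rw [hmemE, hφt] at h
    exact htK h.2
  have hall : ∀ c, c ∈ E ∨ t * c ∈ E := fun c => by
    rw [hmemE, hmemE, map_mul, hφt, Subgroup.coe_mul]
    exact hSsplit _ (φ c).2
  have hKn : ∀ c, ∀ n ∈ K, c * n * c⁻¹ ∈ K := by
    intro c n hn
    by_contra hno
    have hK' := Solv.component_conj hK c
    have hne : K.map (MulAut.conj c).toMonoidHom ≠ K := fun h => hno (h ▸ ⟨n, hn, rfl⟩)
    have hc := Subgroup.commutator_eq_bot_iff_le_centralizer.1 (Solv.components_commute hK' hK hne)
    have hns := h8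
    -- two commuting components need two four groups
    have hK'S : (S : Subgroup C) ⊓ K.map (MulAut.conj c).toMonoidHom ⊓ K = ⊥ := by
      refine (Subgroup.eq_bot_iff_forall _).2 fun y hy => ?_
      have h1 : (⟨y, hy.2⟩ : K) ∈ Subgroup.center K := Subgroup.mem_center_iff.2 fun z =>
        Subtype.ext (mem_centralizer_iff.1 (hc hy.1.2) z z.2)
      rw [hF.comp_center hK, Subgroup.mem_bot] at h1
      exact congrArg Subtype.val h1
    obtain ⟨P', hP'⟩ := (CoreFree.comp_sylIn hK' S).exists_sylow_subgroupOf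
    haveI := hF.comp_simple hK'
    have h4' : 4 ≤ Nat.card ↥((S : Subgroup C) ⊓ K.map (MulAut.conj c).toMonoidHom) := by
      have h := (cyc_of_ktype (of_injective hF.ab _ (Subgroup.subtype_injective _)) (hshape _ hK') P').big
      rwa [hP', Nat.card_congr (Subgroup.subgroupOfEquivOfLe inf_le_right).toEquiv] at h
    have hinj : Function.Injective
        fun p : M × ↥((S : Subgroup C) ⊓ K.map (MulAut.conj c).toMonoidHom) =>
          (⟨(p.1 : C) * p.2, mul_mem p.1.2.1 p.2.2.1⟩ : (S : Subgroup C)) := by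
      rintro ⟨a, b⟩ ⟨a', b'⟩ h
      have h' : (a : C) * b = a' * b' := congrArg Subtype.val h
      have h1 : (a' : C)⁻¹ * a = b' * (b : C)⁻¹ := by
        rw [inv_mul_eq_iff_eq_mul, ← mul_assoc, ← h', mul_inv_cancel_right]
      have h2 : (a' : C)⁻¹ * a ∈ (S : Subgroup C) ⊓ K.map (MulAut.conj c).toMonoidHom ⊓ K :=
        ⟨h1 ▸ Subgroup.mul_mem _ b'.2 (Subgroup.inv_mem _ b.2), Subgroup.mul_mem K (Subgroup.inv_mem K a'.2.2) a.2.2⟩
      rw [hK'S, Subgroup.mem_bot] at h2
      refine Prod.ext (Subtype.ext (inv_mul_eq_one.1 h2).symm) (Subtype.ext ?_)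
      rw [h2] at h1
      exact (mul_inv_eq_one.1 h1.symm).symm
    have h5 := Nat.card_le_card_of_injective _ hinj
    rw [Nat.card_prod, h8] at h5
    have := Nat.mul_le_mul hM4 h4'
    omega
  haveI : K.Normal := ⟨fun n hn c => hKn c n hn⟩
  refine ⟨E, K, F, iF, iT, htE, hall, hKE, fun e _ n hn => hKn e n hn, hFo, hF5, ⟨eK⟩, ?_⟩
  haveI hEn : E.Normal := by rw [hE]; exact Subgroup.Normal.comap (Subgroup.normal_of_isMulCommutative _) φ
  set D := E ⊓ centralizer (K : Set C) with hD
  refine hF.odd_normal_eq_bot (inferInstance : D.Normal) ?_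
  have hsyl := LocalEven.sylIn_inf_subnormal S (inferInstance : D.Normal).isSubnormal
  have hbot : (S : Subgroup C) ⊓ D = ⊥ := by
    refine (Subgroup.eq_bot_iff_forall _).2 fun y hy => ?_
    have hyc : ∀ x ∈ K, Commute x y := fun x hx => mem_centralizer_iff.1 hy.2.2 x hx
    have key : ∀ m ∈ M, (∀ x ∈ K, Commute x m) → m = 1 := fun m hm hmc => by
      have h1 : (⟨m, hm.2⟩ : K) ∈ Subgroup.center K := Subgroup.mem_center_iff.2 fun x => Subtype.ext (hmc x x.2).eq
      rw [hF.comp_center hK, Subgroup.mem_bot] at h1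
      exact congrArg Subtype.val h1
    rcases hSsplit y hy.1 with h | h
    · exact key y h hyc
    · exfalso
      have h1 := key _ h fun x hx => (show Commute x t from htc x).mul_right (hyc x hx)
      have h2 : y = t := by
        have h3 := eq_inv_of_mul_eq_one_right h1
        rwa [inv_eq_of_mul_eq_one_right htt] at h3
      exact htE (h2 ▸ hy.2.1)
  have h1 := hsyl.not_dvd
  rw [hbot, Subgroup.relIndex_bot_left] at h1
  exact Nat.not_even_iff_odd.1 fun he => h1 he.two_dvd

/-- Rank three with trivial cores gives the centraliser `⟨t⟩ × E`. -/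
theorem isJR_of_rankThree (hG : MinHyp G) (h3 : RankThree G)
    (hO : ∀ t : G, orderOf t = 2 → Cfsg.oddCore ↥(centralizer ({t} : Set G)) = ⊥) : IsJR G := by
  haveI : Fact (Nat.Prime 2) := ⟨Nat.prime_two⟩
  haveI := hG.simple
  obtain ⟨S⟩ := (inferInstance : Nonempty (Sylow 2 G))
  obtain ⟨t0, ht0⟩ := exists_prime_orderOf_dvd_card' 2
    (show 2 ∣ Nat.card (S : Subgroup G) from ⟨4, (h3.eight S).1⟩)
  set t : G := (t0 : G)
  have ht : orderOf t = 2 := by rw [Subgroup.orderOf_coe, ht0]
  have htS : t ∈ (S : Subgroup G) := t0.2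
  have ht1 : t ≠ 1 := fun e => by rw [e, orderOf_one] at ht; omega
  set Z := centralizer ({t} : Set G) with hZ
  have hSZ : (S : Subgroup G) ≤ Z := fun s hs =>
    mem_centralizer_singleton_iff.2 (commute_of_mem hG.ab S.isPGroup' hs htS).eq
  have hF : CoreFree Z := ⟨of_injective hG.ab _ Z.subtype_injective, hO t ht⟩
  have hcard : Nat.card Z < Nat.card G :=
    lt_of_le_of_ne (Subgroup.card_le_card_group _) fun e => cent_ne_top hG ht1 (eq_top_of_card_eq _ e)
  have hshape := (shape_of hG.below hcard hF).1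
  obtain ⟨K, hK⟩ : ∃ K : Subgroup Z, Cfsg.IsComponent K := by
    by_contra hno
    push Not at hno
    refine h3.nonsolv t ht (solvable_of_no_component hG t fun J hJ => ?_)
    let e : Cq t ≃* Z := (QuotientGroup.quotientMulEquivOfEq (hO t ht)).trans QuotientGroup.quotientBot
    exact hno _ (component_map e hJ)
  set t' : Z := ⟨t, hSZ htS⟩
  obtain ⟨E, N, F, iF, iT, htE, hall, hNE, hNn, hFo, hF5, ⟨e⟩, hCE⟩ := cent_split hF hshape hK (S.subtype hSZ)
    (by rw [Sylow.coe_subtype, Nat.card_congr (Subgroup.subgroupOfEquivOfLe hSZ).toEquiv, (h3.eight S).1])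
    (t := t') (by rw [← Subgroup.orderOf_coe]; exact ht) htS
    (fun c => Subtype.ext (mem_centralizer_singleton_iff.1 c.2))
  refine ⟨hG.simple, hG.ab, t, E.map Z.subtype, N.map Z.subtype, F, iF, iT, ht, ⟨?_, ?_, ?_, ?_, ?_⟩,
    Subgroup.map_mono hNE, ?_, hFo, hF5, ⟨(Subgroup.equivMapOfInjective N Z.subtype Z.subtype_injective).symm.trans e⟩,
    ?_⟩
  · exact zpowers_le.2 (hSZ htS)
  · exact Subgroup.map_subtype_le _
  · rintro a ha _ ⟨b, -, rfl⟩
    obtain ⟨i, rfl⟩ := mem_zpowers_iff.1 ha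
    exact ((show Commute (b : G) t from mem_centralizer_singleton_iff.1 b.2).zpow_right i).eq.symm
  · refine (Subgroup.eq_bot_iff_forall _).2 ?_
    rintro x ⟨hx1, b, hb, rfl⟩
    obtain ⟨i, hi⟩ := mem_zpowers_iff.1 hx1
    have h1 : t ^ i = 1 ∨ t ^ i = t := by
      rw [← zpow_mod_orderOf, ht]
      rcases Int.emod_two_eq_zero_or_one i with h | h
      · exact Or.inl (by rw [Nat.cast_ofNat, h, zpow_zero])
      · exact Or.inr (by rw [Nat.cast_ofNat, h, zpow_one])
    rcases h1 with h | h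
    · exact hi.symm.trans h
    · refine absurd ?_ htE
      rwa [show t' = b from Subtype.ext (h.symm.trans hi)]
  · refine le_antisymm (sup_le (zpowers_le.2 (hSZ htS)) (Subgroup.map_subtype_le _)) fun c hc => ?_
    rcases hall ⟨c, hc⟩ with h | h
    · exact le_sup_right (a := zpowers t) ⟨_, h, rfl⟩
    · have h1 := mul_mem (le_sup_left (b := E.map Z.subtype) (inv_mem (mem_zpowers t)))
        (le_sup_right (a := zpowers t) ⟨_, h, rfl⟩ : (t * c : G) ∈ zpowers t ⊔ E.map Z.subtype)
      rwa [inv_mul_cancel_left] at h1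
  · rintro _ ⟨a, ha, rfl⟩ _ ⟨b, hb, rfl⟩
    exact ⟨a * b * a⁻¹, hNn a ha b hb, rfl⟩
  · refine (Subgroup.eq_bot_iff_forall _).2 ?_
    rintro x ⟨⟨a, ha, rfl⟩, hx⟩
    have h1 : a ∈ E ⊓ centralizer (N : Set Z) :=
      ⟨ha, mem_centralizer_iff.2 fun n hn => Subtype.ext (mem_centralizer_iff.1 hx _ ⟨n, hn, rfl⟩)⟩
    rw [hCE, Subgroup.mem_bot] at h1
    rw [h1, map_one]

/-- **Simple groups with abelian Sylow 2-subgroups**, from the strongly embedded theorem and the rank three cores. -/
theorem simpleStatement_of (hsol : ∀ (X : Type u) [Group X] [Finite X], SEB.Sol X)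
    (hR3 : RankThreeStatement.{u}) : SimpleStatement.{u} := by
  suffices H : ∀ n, Below.{u} n by
    intro L _ _ _ hna hab
    exact H (Nat.card L + 1) L hna hab (Nat.lt_succ_self _)
  intro n
  induction n with
  | zero => intro L _ _ _ _ _ h; exact absurd h (Nat.not_lt_zero _)
  | succ n ih =>
    intro L _ _ _ hna hab hlt
    rcases Nat.lt_succ_iff_lt_or_eq.1 hlt with h | h
    · exact ih L hna hab h
    have hG : MinHyp L := ⟨inferInstance, hna, hab, h ▸ ih⟩
    rcases cases_of_minHyp hG with hs | ⟨A, B, hB⟩ | h3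
    · exact Or.inl (isL2_of_solvable hG hs)
    · exact (blocksStatement_of hsol L hG A B hB).elim
    · exact Or.inr (isJR_of_rankThree hG h3 (hR3 L hG h3))

end Cfsg.Agent.Walter
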