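import Cfsg.Prelude.Def_Local
import Cfsg.Prelude.Def_TwoFusion
import Cfsg.Prelude.Def_Classical
import Cfsg.Agent.Lib.Solv.AbelianTwo.Basic

/-!
# Groups with abelian Sylow 2-subgroups: the predicates of the induction

`KType` is what is proved about a non-abelian simple group with abelian Sylow 2-subgroups, `Shape` is what this gives
for a group without non-trivial normal subgroup of odd order. See `notes/walter_B_helper8.md`.
-/

set_option autoImplicit false

namespace Cfsg.Agent.Walter

open Subgroup Cfsg.Agent.Solv.AbelianTwo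

universe u

/-- Simple, abelian Sylow 2-subgroups, an involution `t` with centraliser `⟨t⟩ × E`, where `E` has a normal
subgroup isomorphic to `PSL₂(F)`, `|F| ≥ 5` odd, with trivial centraliser in `E`. -/
def IsJR (K : Type u) [Group K] : Prop :=
  IsSimpleGroup K ∧ Ab2 K ∧ ∃ (t : K) (E N : Subgroup K) (F : Type) (_ : Field F) (_ : Fintype F),
    orderOf t = 2 ∧ Cfsg.IsInternalDirectProduct (zpowers t) E (centralizer ({t} : Set K)) ∧
    N ≤ E ∧ (∀ e ∈ E, ∀ n ∈ N, e * n * e⁻¹ ∈ N) ∧ Odd (Fintype.card F) ∧ 5 ≤ Fintype.card F ∧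
    Nonempty (N ≃* Matrix.ProjectiveSpecialLinearGroup (Fin 2) F) ∧ E ⊓ centralizer (N : Set K) = ⊥

/-- `PSL₂` over a field with `2ⁿ ≥ 4` or with `q ≡ 3, 5 (mod 8)`, `q ≥ 5`, elements. -/
def IsL2 (K : Type u) [Group K] : Prop :=
  ∃ (F : Type) (_ : Field F) (_ : Fintype F),
    ((∃ n : ℕ, 2 ≤ n ∧ Fintype.card F = 2 ^ n) ∨
      ((Fintype.card F % 8 = 3 ∨ Fintype.card F % 8 = 5) ∧ 5 ≤ Fintype.card F)) ∧
    Nonempty (K ≃* Matrix.ProjectiveSpecialLinearGroup (Fin 2) F)

/-- The conclusion about a non-abelian simple group with abelian Sylow 2-subgroups. -/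
def KType (K : Type u) [Group K] : Prop := IsL2 K ∨ IsJR K

/-- The structure of a group with abelian Sylow 2-subgroups and trivial odd core. -/
def Shape (X : Type u) [Group X] : Prop :=
  (∀ K : Subgroup X, Cfsg.IsComponent K → KType K) ∧ Odd (Cfsg.generalizedFittingSubgroup X).index

/-- The theorem for simple groups of order below `n`. -/
def Below (n : ℕ) : Prop :=
  ∀ (L : Type u) [Group L] [Finite L] [IsSimpleGroup L],
    ¬ IsMulCommutative L → Ab2 L → Nat.card L < n → KType L

/-- The theorem for simple groups. -/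
def SimpleStatement : Prop :=
  ∀ (L : Type u) [Group L] [Finite L] [IsSimpleGroup L], ¬ IsMulCommutative L → Ab2 L → KType L

/-- What the case analysis with trivial cores assumes. -/
structure CentHyp (G : Type u) [Group G] : Prop where
  simple : IsSimpleGroup G
  nonab : ¬ IsMulCommutative G
  ab : Ab2 G
  core : ∀ t : G, orderOf t = 2 → Cfsg.oddCore (centralizer ({t} : Set G)) = ⊥
  shape : ∀ t : G, orderOf t = 2 → Shape (centralizer ({t} : Set G))

end Cfsg.Agent.Walter
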