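import Cfsg.Prelude.Def_Exceptional
import Cfsg.Prelude.Def_Sporadic
import Cfsg.Agent.Lib.Walter.Defs
import Cfsg.Agent.Lib.Walter.TypeFacts
import Cfsg.Agent.Lib.Lie.OrderEightTypes
import Cfsg.Agent.S0483
import Cfsg.Agent.S0201
import Cfsg.Agent.Lib.Bender.AbelianSolvable

/-!
# The statements that follow from the classification with abelian Sylow 2-subgroups

Both take the two remaining inputs as hypotheses: `SimpleStatement` and `ReeJOneStatement` (part (C)).
-/

set_option autoImplicit false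
set_option linter.style.haveILetI false

namespace Cfsg.Agent.Walter

open Subgroup Cfsg.Agent.Solv.AbelianTwo
open scoped commutatorElement

universe u

/-- Part (C): the groups with centraliser `⟨t⟩ × E` have the order of a Ree group or of `J₁`. -/
def ReeJOneStatement : Prop :=
  ∀ (K : Type u) [Group K] [Finite K], IsJR K → Cfsg.IsRee K ∨ Cfsg.IsJ1 K

variable {G : Type u} [Group G] [Finite G]

/-- S0506. -/
theorem abelian_sylow_cases (hW : SimpleStatement.{u}) (hC : ReeJOneStatement.{u}) [IsSimpleGroup G]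
    (hG : ¬ IsMulCommutative G) (S : Sylow 2 G) (hS : IsMulCommutative (S : Subgroup G)) :
    (∃ a : ℕ, 2 ≤ a ∧ ∃ (F : Type) (_ : Field F) (_ : Fintype F), Fintype.card F = 2 ^ a ∧
        Nonempty (G ≃* Matrix.ProjectiveSpecialLinearGroup (Fin 2) F)) ∨
      (∃ (F : Type) (_ : Field F) (_ : Fintype F), (Fintype.card F % 8 = 3 ∨ Fintype.card F % 8 = 5) ∧
        Nonempty (G ≃* Matrix.ProjectiveSpecialLinearGroup (Fin 2) F)) ∨
      Cfsg.IsRee G ∨ Cfsg.IsJ1 G := by
  haveI : Fact (Nat.Prime 2) := ⟨Nat.prime_two⟩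
  have hab : Ab2 G := fun T => by
    haveI := hS
    let e := T.equiv S
    exact ⟨⟨fun a b => e.injective (by rw [map_mul, map_mul]; exact mul_comm' _ _)⟩⟩
  rcases hW G hG hab with ⟨F, iF, iT, ⟨n, hn, hF⟩ | ⟨h35, -⟩, he⟩ | hJ
  · exact Or.inl ⟨n, hn, F, iF, iT, hF, he⟩
  · exact Or.inr (Or.inl ⟨F, iF, iT, h35, he⟩)
  · exact Or.inr (Or.inr (hC G hJ))

theorem factorization_psl {F : Type} [Field F] [Fintype F] (ho : Fintype.card F % 2 = 1) :
    (Nat.card (Matrix.ProjectiveSpecialLinearGroup (Fin 2) F)).factorization 2 + 1 =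
      (Fintype.card F ^ 2 - 1).factorization 2 := by
  haveI : Finite (Matrix.ProjectiveSpecialLinearGroup (Fin 2) F) := Finite.of_surjective _ Small.PSL2.pr_surjective
  have hc := Classical.Dickson.card_psl F
  have h1 : 1 < Fintype.card F := Fintype.one_lt_card
  rw [Nat.gcd_eq_left (show 2 ∣ Fintype.card F - 1 by omega)] at hc
  have h4 : 4 ≤ Fintype.card F ^ 2 := by nlinarith
  have h := congrArg (fun m => m.factorization 2) hc
  rw [Nat.factorization_mul Nat.card_pos.ne' two_ne_zero, Finsupp.add_apply,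
    Nat.Prime.factorization_self Nat.prime_two, Nat.factorization_mul (by omega) (by omega), Finsupp.add_apply,
    Nat.factorization_eq_zero_of_not_dvd (show ¬ 2 ∣ Fintype.card F by omega), zero_add] at h
  exact h

theorem mod_sixteen {q : ℕ} (hq : q % 2 = 1) (h : (q ^ 2 - 1).factorization 2 = 4) : q % 16 = 7 ∨ q % 16 = 9 := by
  have h1 : 1 ≤ q ^ 2 := Nat.one_le_pow _ _ (by omega)
  have hd : 2 ^ 4 ∣ q ^ 2 - 1 := h ▸ Nat.ordProj_dvd _ 2
  have hn : ¬ 2 ^ 5 ∣ q ^ 2 - 1 := fun hd5 => by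
    rcases Nat.eq_zero_or_pos (q ^ 2 - 1) with e | e
    · rw [e, Nat.factorization_zero] at h
      simp at h
    · have := (Nat.Prime.pow_dvd_iff_le_factorization Nat.prime_two e.ne').1 hd5
      omega
  obtain ⟨r, hr⟩ : ∃ r, q = 16 * r + q % 16 := ⟨q / 16, by omega⟩
  have key : q ^ 2 = 32 * (8 * r ^ 2 + (q % 16) * r) + (q % 16) ^ 2 := by
    conv_lhs => rw [hr]
    ring
  have hlt : q % 16 < 16 := Nat.mod_lt _ (by norm_num)
  interval_cases hm : q % 16 <;> omega

/-- S0993. -/
theorem sylow_eight_cases (hW : SimpleStatement.{u}) (hC : ReeJOneStatement.{u}) [IsSimpleGroup G]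
    (hG : ¬ IsMulCommutative G) (T : Sylow 2 G) (hT : Nat.card ↥(T : Subgroup G) = 8) :
    (∃ (F : Type) (_ : Field F) (_ : Fintype F), Fintype.card F = 8 ∧
        Nonempty (G ≃* Matrix.ProjectiveSpecialLinearGroup (Fin 2) F)) ∨
      (∃ (F : Type) (_ : Field F) (_ : Fintype F), (Fintype.card F % 16 = 7 ∨ Fintype.card F % 16 = 9) ∧
        Nonempty (G ≃* Matrix.ProjectiveSpecialLinearGroup (Fin 2) F)) ∨
      Nonempty (G ≃* alternatingGroup (Fin 7)) ∨ Cfsg.IsJ1 G ∨ Cfsg.IsRee G := by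
  haveI : Fact (Nat.Prime 2) := ⟨Nat.prime_two⟩
  have h8 : (Nat.card G).factorization 2 = 3 := by
    have h := T.card_eq_multiplicity
    rw [hT, show (8 : ℕ) = 2 ^ 3 by norm_num] at h
    exact (Nat.pow_right_injective le_rfl h).symm
  have hpsl : ∀ (F : Type) [Field F] [Fintype F], Fintype.card F % 2 = 1 →
      Nonempty (G ≃* Matrix.ProjectiveSpecialLinearGroup (Fin 2) F) →
      Fintype.card F % 16 = 7 ∨ Fintype.card F % 16 = 9 := by
    intro F _ _ ho ⟨e⟩
    refine mod_sixteen ho ?_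
    rw [← factorization_psl ho, ← Nat.card_congr e.toEquiv, h8]
  by_cases hab : IsMulCommutative (T : Subgroup G)
  · have hA : Ab2 G := fun P => by
      let e := P.equiv T
      exact ⟨⟨fun a b => e.injective (by rw [map_mul, map_mul]; exact mul_comm' _ _)⟩⟩
    rcases hW G hG hA with ⟨F, iF, iT, ⟨n, hn, hF⟩ | ⟨h35, h5⟩, ⟨e⟩⟩ | hJ
    · refine Or.inl ⟨F, iF, iT, ?_, ⟨e⟩⟩
      haveI : Finite (Matrix.ProjectiveSpecialLinearGroup (Fin 2) F) := Finite.of_surjective _ Small.PSL2.pr_surjective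
      obtain ⟨U, hU⟩ := cyc_even hn hF
      have hc : Nat.card (U : Subgroup (Matrix.ProjectiveSpecialLinearGroup (Fin 2) F)) = 8 := by
        rw [U.card_eq_multiplicity, ← Nat.card_congr e.toEquiv, h8]
        norm_num
      have h1 : (Fintype.card F * (Fintype.card F ^ 2 - 1)).factorization 2 = 3 := by
        have hc' := Classical.Dickson.card_psl F
        rw [Nat.Coprime.gcd_eq_one (Nat.coprime_two_left.2 (by
          rw [hF]
          exact ⟨2 ^ (n - 1) - 1, by
            obtain ⟨m, rfl⟩ : ∃ m, n = m + 1 := ⟨n - 1, by omega⟩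
            rw [pow_succ, Nat.add_sub_cancel]
            have := Nat.one_le_two_pow (n := m)
            omega⟩)), mul_one] at hc'
        rw [← hc', ← Nat.card_congr e.toEquiv, h8]
      have h4 : 2 ≤ 2 ^ n := le_trans (by norm_num) (Nat.pow_le_pow_right two_pos (show 1 ≤ n by omega))
      rw [hF, Nat.factorization_mul (by omega) (by
        have : 4 ≤ (2 ^ n) ^ 2 := by nlinarith
        omega), Finsupp.add_apply, Nat.Prime.factorization_pow Nat.prime_two, Finsupp.single_eq_same,
        Nat.factorization_eq_zero_of_not_dvd (show ¬ 2 ∣ (2 ^ n) ^ 2 - 1 by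
          obtain ⟨m, rfl⟩ : ∃ m, n = m + 1 := ⟨n - 1, by omega⟩
          have : (2 ^ (m + 1)) ^ 2 = 2 * (2 ^ m * 2 ^ (m + 1)) := by rw [pow_succ]; ring
          have := Nat.one_le_two_pow (n := m)
          have h2 : 1 ≤ 2 ^ m * 2 ^ (m + 1) := Nat.one_le_iff_ne_zero.2 (by positivity)
          omega), add_zero] at h1
      rw [hF, h1]
      norm_num
    · exact Or.inr (Or.inl ⟨F, iF, iT, hpsl F (by omega) ⟨e⟩, ⟨e⟩⟩)
    · rcases hC G hJ with h | h
      · exact Or.inr (Or.inr (Or.inr (Or.inr h)))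
      · exact Or.inr (Or.inr (Or.inr (Or.inl h)))
  have hO : Cfsg.oddCore G = ⊥ := by
    rcases (inferInstance : (Cfsg.oddCore G).Normal).eq_bot_or_eq_top with e' | e'
    · exact e'
    · exfalso
      have h1 := Fusion.card_pPrimeCore_coprime 2 G
      rw [show Cfsg.pPrimeCore 2 G = ⊤ from e', Subgroup.card_top] at h1
      haveI := Bender.AbelianSolvable.odd_solvable' (Nat.coprime_two_right.1 h1 : Odd (Nat.card G))
      exact hG ⟨⟨IsSimpleGroup.comm_iff_isSolvable.2 inferInstance⟩⟩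
  have hna : ∃ x y : (T : Subgroup G), x * y ≠ y * x := by
    by_contra h
    push Not at h
    exact hab ⟨⟨h⟩⟩
  rcases Lie.OrderEight.dihedral_or_quaternion hT hna with he | he <;> obtain ⟨e⟩ := he
  · haveI : Group.IsPerfect G := by
      refine Group.isPerfect_def.2 ?_
      rcases (inferInstance : (commutator G).Normal).eq_bot_or_eq_top with h | h
      · exact absurd ⟨⟨fun a b => commutatorElement_eq_one_iff_mul_comm.1 (Subgroup.mem_bot.1 (h ▸
          Subgroup.commutator_mem_commutator (mem_top a) (mem_top b) : ⁅a, b⁆ ∈ (⊥ : Subgroup G)))⟩⟩ hG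
      · exact h
    have q : G ⧸ Cfsg.oddCore G ≃* G := (QuotientGroup.quotientMulEquivOfEq hO).trans QuotientGroup.quotientBot
    rcases S0483.result T 4 (by norm_num) ⟨e⟩ with ⟨F, iF, iT, hodd, -, ⟨e'⟩⟩ | he'
    · exact Or.inr (Or.inl ⟨F, iF, iT, hpsl F (Nat.odd_iff.1 hodd) ⟨q.symm.trans e'⟩, ⟨q.symm.trans e'⟩⟩)
    · obtain ⟨e'⟩ := he'
      exact Or.inr (Or.inr (Or.inl ⟨q.symm.trans e'⟩))
  · exfalso
    have h := S0201.result T 0 (e.trans (MulEquiv.refl _)) fun N hN ho => by
      rcases hN.eq_bot_or_eq_top with h | h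
      · exact h
      · rw [h, Subgroup.card_top] at ho
        haveI := Bender.AbelianSolvable.odd_solvable' ho
        exact absurd ⟨⟨IsSimpleGroup.comm_iff_isSolvable.2 inferInstance⟩⟩ hG
    rcases (inferInstance : (center G).Normal).eq_bot_or_eq_top with h' | h'
    · rw [h', Subgroup.card_bot] at h
      omega
    · exact hG ⟨⟨fun a b => mem_center_iff.1 (h' ▸ mem_top b : b ∈ center G) a⟩⟩

end Cfsg.Agent.Walter
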