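import Cfsg.Agent.Lib.Walter.Blocks
import Cfsg.Agent.Lib.Walter.CentralizerShape
import Cfsg.Agent.Lib.Walter.TypeFacts
import Cfsg.Agent.Lib.Walter.Core.Defs
import Cfsg.Agent.Lib.Fusion.Cores
import Cfsg.Agent.Lib.Fusion.Reduction

/-!
# The blocks of a group with abelian Sylow 2-subgroup

`V = Ω₁(S)` written additively, `A` the automiser of `S` on it. A vector `x` lies under the block `(S', R')` when a
component `J` of `C(x)/O(C(x))` has trace `S'` and centraliser trace `R'`.
-/

set_option autoImplicit false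
set_option linter.style.haveILetI false
set_option linter.unusedSectionVars false

namespace Cfsg.Agent.Walter

open Subgroup Cfsg.Agent.Solv.AbelianTwo

universe u

/-- Abelian Sylow 2-subgroups pass to images. -/
theorem ab2_surjective {X Y : Type*} [Group X] [Group Y] [Finite X] [Finite Y] (h : Ab2 X) (f : X →* Y)
    (hf : Function.Surjective f) : Ab2 Y := by
  haveI : Fact (Nat.Prime 2) := ⟨Nat.prime_two⟩
  obtain ⟨Q⟩ := (inferInstance : Nonempty (Sylow 2 X))
  intro P
  haveI : IsMulCommutative ↥((Q.mapSurjective hf : Sylow 2 Y) : Subgroup Y) := ⟨⟨by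
    rintro ⟨a, a', ha, rfl⟩ ⟨b, b', hb, rfl⟩
    exact Subtype.ext ((commute_of_mem h Q.isPGroup' ha hb).map f).eq⟩⟩
  let e := P.equiv (Q.mapSurjective hf)
  exact ⟨⟨fun a b => e.injective (by rw [map_mul, map_mul]; exact mul_comm' _ _)⟩⟩

variable {G : Type u} [Group G] [Finite G] (S : Sylow 2 G) [hSc : IsMulCommutative ↥(S : Subgroup G)]

theorem comm_S {a b : G} (ha : a ∈ (S : Subgroup G)) (hb : b ∈ (S : Subgroup G)) : a * b = b * a :=
  congrArg Subtype.val (mul_comm' (⟨a, ha⟩ : (S : Subgroup G)) ⟨b, hb⟩)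

/-- `Ω₁(S)`. -/
def om : Subgroup G where
  carrier := {x | x ∈ (S : Subgroup G) ∧ x * x = 1}
  one_mem' := ⟨one_mem _, one_mul 1⟩
  mul_mem' := fun {a b} ha hb => ⟨mul_mem ha.1 hb.1, by
    calc a * b * (a * b) = a * (b * a) * b := by group
      _ = a * (a * b) * b := by rw [comm_S S hb.1 ha.1]
      _ = a * a * (b * b) := by group
      _ = 1 := by rw [ha.2, hb.2, one_mul]⟩
  inv_mem' := fun {a} ha => ⟨inv_mem ha.1, by rw [← mul_inv_rev, ha.2, inv_one]⟩

theorem mem_om {x : G} : x ∈ om S ↔ x ∈ (S : Subgroup G) ∧ x * x = 1 := Iff.rfl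

noncomputable instance omCommGroup : CommGroup ↥(om S) :=
  { (om S).toGroup with mul_comm := fun a b => Subtype.ext (comm_S S a.2.1 b.2.1) }

/-- `Ω₁(S)`, additively. -/
abbrev VV := Additive ↥(om S)

theorem om_normalised {g : G} (hg : g ∈ normalizer ((S : Subgroup G) : Set G)) {x : G} (hx : x ∈ om S) :
    g * x * g⁻¹ ∈ om S :=
  ⟨(mem_normalizer_iff.1 hg x).1 hx.1, by
    rw [show g * x * g⁻¹ * (g * x * g⁻¹) = g * (x * x) * g⁻¹ by group, hx.2, mul_one, mul_inv_cancel]⟩

/-- Conjugation of `N(S)` on `Ω₁(S)`. -/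
def thetaS : ↥(normalizer ((S : Subgroup G) : Set G)) →* MulAut ↥(om S) where
  toFun g :=
    { toFun := fun x => ⟨g * x * (g : G)⁻¹, om_normalised S g.2 x.2⟩
      invFun := fun x => ⟨(g : G)⁻¹ * x * g, by
        have h := om_normalised S (inv_mem g.2) x.2
        rwa [inv_inv] at h⟩
      left_inv := fun x => Subtype.ext (by simp [mul_assoc])
      right_inv := fun x => Subtype.ext (by simp [mul_assoc])
      map_mul' := fun x y => Subtype.ext (by simp [mul_assoc]) }
  map_one' := MulEquiv.ext fun x => Subtype.ext (by simp)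
  map_mul' g g' := MulEquiv.ext fun x => Subtype.ext (by simp [mul_assoc])

theorem thetaS_apply (g : ↥(normalizer ((S : Subgroup G) : Set G))) (x : ↥(om S)) :
    ((thetaS S g x : ↥(om S)) : G) = g * x * (g : G)⁻¹ := rfl

/-- The automiser. -/
abbrev AA : Subgroup (MulAut ↥(om S)) := (thetaS S).range

/-- Its action. -/
def rho : ↥(AA S) →* AddMonoid.End (VV S) where
  toFun a := MonoidHom.toAdditive (a : MulAut ↥(om S)).toMonoidHom
  map_one' := rfl
  map_mul' _ _ := rfl

theorem rho_apply (a : ↥(AA S)) (v : VV S) :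
    rho S a v = Additive.ofMul ((a : MulAut ↥(om S)) (Additive.toMul v)) := rfl

theorem rho_inj : Function.Injective (rho S) := fun a b h => Subtype.ext (MulEquiv.ext fun x =>
  Additive.ofMul.injective (congrArg (fun f : AddMonoid.End (VV S) => f (Additive.ofMul x)) h))

theorem VV_two (v : VV S) : v + v = 0 :=
  Additive.toMul.injective (Subtype.ext (Additive.toMul v).2.2)

theorem AA_odd : Odd (Nat.card ↥(AA S)) := by
  haveI : Fact (Nat.Prime 2) := ⟨Nat.prime_two⟩
  rw [← Subgroup.index_ker]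
  have hle : (S : Subgroup G).subgroupOf (normalizer ((S : Subgroup G) : Set G)) ≤ (thetaS S).ker := fun g hg =>
    MonoidHom.mem_ker.2 (MulEquiv.ext fun x => Subtype.ext (by
      rw [thetaS_apply, comm_S S (mem_subgroupOf.1 hg) x.2.1, mul_inv_cancel_right]
      rfl))
  refine Nat.not_even_iff_odd.1 fun he => S.not_dvd_index ?_
  exact (he.two_dvd.trans (Subgroup.index_dvd_of_le hle)).trans
    (Subgroup.relIndex_dvd_index_of_le Subgroup.le_normalizer)

/-- The centraliser modulo its core. -/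
abbrev Cq (x : G) := ↥(centralizer ({x} : Set G)) ⧸ Cfsg.oddCore ↥(centralizer ({x} : Set G))

theorem S_le_cent (x : ↥(om S)) : (S : Subgroup G) ≤ centralizer ({(x : G)} : Set G) := fun _ hy =>
  mem_centralizer_singleton_iff.2 (comm_S S hy x.2.1)

/-- `S` in `C(x)/O(C(x))`. -/
def iS (x : ↥(om S)) : ↥(S : Subgroup G) →* Cq (x : G) :=
  (QuotientGroup.mk' _).comp (Subgroup.inclusion (S_le_cent S x))

theorem iS_injective (x : ↥(om S)) : Function.Injective (iS S x) := by
  haveI : Fact (Nat.Prime 2) := ⟨Nat.prime_two⟩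
  refine (injective_iff_map_eq_one _).2 fun s hs => ?_
  have h1 : Subgroup.inclusion (S_le_cent S x) s ∈ Cfsg.oddCore ↥(centralizer ({(x : G)} : Set G)) :=
    (QuotientGroup.eq_one_iff _).1 hs
  obtain ⟨k, hk⟩ := S.isPGroup' s
  have h2 := Fusion.mem_pPrimeCore_orderOf h1
  rw [orderOf_injective _ (Subgroup.inclusion_injective _)] at h2
  have h3 := Nat.dvd_gcd (dvd_refl (orderOf s)) (orderOf_dvd_of_pow_eq_one hk)
  rw [(Nat.Coprime.pow_right k h2).gcd_eq_one] at h3
  exact orderOf_eq_one_iff.1 (Nat.dvd_one.1 h3)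

/-- `Ω₁(S)` in `C(x)/O(C(x))`. -/
def iota (x : ↥(om S)) : ↥(om S) →* Cq (x : G) :=
  (iS S x).comp (Subgroup.inclusion fun _ h => h.1)

theorem iota_injective (x : ↥(om S)) : Function.Injective (iota S x) :=
  (iS_injective S x).comp (Subgroup.inclusion_injective _)

/-- The image of `S` as a Sylow subgroup. -/
noncomputable def SX (x : ↥(om S)) : Sylow 2 (Cq (x : G)) :=
  haveI : Fact (Nat.Prime 2) := ⟨Nat.prime_two⟩
  (S.subtype (S_le_cent S x)).mapSurjective (QuotientGroup.mk'_surjective _)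

theorem mem_SX {x : ↥(om S)} {y : Cq (x : G)} : y ∈ (SX S x : Subgroup (Cq (x : G))) ↔ ∃ s, iS S x s = y := by
  constructor
  · rintro ⟨c, hc, rfl⟩
    exact ⟨⟨(c : G), hc⟩, rfl⟩
  · rintro ⟨s, rfl⟩
    exact ⟨Subgroup.inclusion (S_le_cent S x) s, s.2, rfl⟩

theorem iota_mem_SX (x v : ↥(om S)) : iota S x v ∈ (SX S x : Subgroup (Cq (x : G))) :=
  (mem_SX S).2 ⟨_, rfl⟩

theorem exists_iota {x : ↥(om S)} {y : Cq (x : G)} (hy : y ∈ (SX S x : Subgroup (Cq (x : G)))) (h2 : y * y = 1) :
    ∃ v, iota S x v = y := by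
  obtain ⟨s, rfl⟩ := (mem_SX S).1 hy
  have h3 : s * s = 1 := iS_injective S x (by rw [map_mul, h2, map_one])
  exact ⟨⟨s, s.2, congrArg Subtype.val h3⟩, rfl⟩

/-- `x` lies under a block: the traces of a component of `C(x)/O(C(x))` and of its centraliser. -/
def Mem (x : VV S) (T R : AddSubgroup (VV S)) : Prop :=
  x ≠ 0 ∧ ∃ J : Subgroup (Cq ((Additive.toMul x : ↥(om S)) : G)), Cfsg.IsComponent J ∧
    T = Subgroup.toAddSubgroup (J.comap (iota S (Additive.toMul x))) ∧
    R = Subgroup.toAddSubgroup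
      ((centralizer (J : Set (Cq ((Additive.toMul x : ↥(om S)) : G)))).comap (iota S (Additive.toMul x)))

theorem coreFree_cq (hG : MinHyp G) (x : G) : CoreFree (Cq x) :=
  ⟨ab2_surjective (of_injective hG.ab _ (Subgroup.subtype_injective _)) _ (QuotientGroup.mk'_surjective _),
    Fusion.pPrimeCore_quotient_eq_bot⟩

theorem cent_ne_top (hG : MinHyp G) {x : G} (hx : x ≠ 1) : centralizer ({x} : Set G) ≠ ⊤ := by
  intro h
  haveI := hG.simple
  have hc : x ∈ center G := mem_center_iff.2 fun g => mem_centralizer_singleton_iff.1 (h ▸ mem_top g)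
  rcases (inferInstance : (center G).Normal).eq_bot_or_eq_top with h' | h'
  · rw [h', mem_bot] at hc
    exact hx hc
  · exact hG.nonab ⟨⟨fun a b => mem_center_iff.1 (h' ▸ mem_top b : b ∈ center G) a⟩⟩

theorem card_cq_lt (hG : MinHyp G) {x : G} (hx : x ≠ 1) : Nat.card (Cq x) < Nat.card G :=
  lt_of_le_of_lt (Nat.card_le_card_of_surjective _ (QuotientGroup.mk'_surjective _))
    (lt_of_le_of_ne (Subgroup.card_le_card_group _) fun e => cent_ne_top hG hx (eq_top_of_card_eq _ e))

theorem toMul_ne_one {x : VV S} (hx : x ≠ 0) : ((Additive.toMul x : ↥(om S)) : G) ≠ 1 := fun e =>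
  hx (Additive.toMul.injective (Subtype.ext e))

/-- A component gives the data of a block. -/
theorem sing_of_component (hG : MinHyp G) {x : ↥(om S)} (hx : (x : G) ≠ 1) {J : Subgroup (Cq (x : G))}
    (hJ : Cfsg.IsComponent J) :
    ∃ h, Sing (rho S) h (Subgroup.toAddSubgroup (J.comap (iota S x)))
      (Subgroup.toAddSubgroup ((centralizer (J : Set (Cq (x : G)))).comap (iota S x))) := by
  classical
  haveI : Fact (Nat.Prime 2) := ⟨Nat.prime_two⟩
  have hF := coreFree_cq hG (x : G)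
  haveI := hF.comp_simple hJ
  have hK : KType J := (shape_of hG.below (card_cq_lt hG hx) hF).1 J hJ
  have habJ : Ab2 J := of_injective hF.ab J.subtype J.subtype_injective
  obtain ⟨P, hP⟩ := (CoreFree.comp_sylIn hJ (SX S x)).exists_sylow_subgroupOf
  have hcyc := (cyc_of_ktype habJ hK P).map J.subtype J.subtype_injective
  rw [hP, Subgroup.map_subgroupOf_eq_of_le inf_le_right] at hcyc
  set T := (SX S x : Subgroup (Cq (x : G))) ⊓ J with hT
  obtain ⟨k0, hk0, hkN, hktr⟩ : ∃ k0 ∈ J, (∀ y ∈ T, k0 * y * k0⁻¹ ∈ T) ∧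
      ((∀ y ∈ T, k0 ^ (Nat.card T - 1) * y * (k0 ^ (Nat.card T - 1))⁻¹ = y) ∧
      ∀ y ∈ T, y ≠ 1 → ∀ z ∈ T, z ≠ 1 → ∃ i : ℕ, k0 ^ i * y * (k0 ^ i)⁻¹ = z) := by
    obtain ⟨h', hn', hc', ht'⟩ := (cyc_of_ktype habJ hK P).turn
    have hmap : (P : Subgroup J).map J.subtype = T := by
      rw [hP, Subgroup.map_subgroupOf_eq_of_le inf_le_right]
    have hcard : Nat.card T = Nat.card (P : Subgroup J) := by
      rw [← hmap, Subgroup.card_map_of_injective J.subtype_injective]
    refine ⟨h', h'.2, ?_, ?_, ?_⟩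
    · rw [← hmap]
      rintro _ ⟨y, hy, rfl⟩
      exact ⟨h' * y * h'⁻¹, (mem_normalizer_iff.1 hn' y).1 hy, rfl⟩
    · rw [hcard, ← hmap]
      rintro _ ⟨y, hy, rfl⟩
      have := congrArg Subtype.val (hc' y hy)
      simpa using this
    · rw [← hmap]
      rintro _ ⟨y, hy, rfl⟩ hy1 _ ⟨z, hz, rfl⟩ hz1
      obtain ⟨i, hi⟩ := ht' y hy (fun e => hy1 (by rw [e, map_one])) z hz fun e => hz1 (by rw [e, map_one])
      refine ⟨i, ?_⟩
      have := congrArg Subtype.val hi
      simpa using this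
  have hTiota : ∀ y ∈ T, ∃ v, iota S x v = y := fun y hy => exists_iota S hy.1 (hcyc.sq y hy)
  -- `k0` normalises the image of `S`
  have hkS : ∀ y ∈ (SX S x : Subgroup (Cq (x : G))), k0 * y * k0⁻¹ ∈ (SX S x : Subgroup (Cq (x : G))) := by
    intro y hy
    obtain ⟨w, hw, hc⟩ := hF.split hJ (SX S x) hy
    have e : k0 * y * k0⁻¹ = k0 * w * k0⁻¹ * (w⁻¹ * y) := by
      calc k0 * y * k0⁻¹ = k0 * w * (w⁻¹ * y) * k0⁻¹ := by group
        _ = k0 * w * (k0⁻¹ * (w⁻¹ * y)) := by rw [mul_assoc (k0 * w), hc _ (inv_mem hk0)]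
        _ = k0 * w * k0⁻¹ * (w⁻¹ * y) := by group
    rw [e]
    exact mul_mem (hkN w hw).1 (mul_mem (inv_mem hw.1) hy)
  have hkmem : k0 ∈ normalizer ((SX S x : Subgroup (Cq (x : G))) : Set (Cq (x : G))) :=
    Subgroup.mem_normalizer_fintype hkS
  obtain ⟨c, hcN, hck⟩ := Fusion.exists_lift_normalizer (p := 2)
    (N := Cfsg.oddCore ↥(centralizer ({(x : G)} : Set G))) (Fusion.card_pPrimeCore_coprime 2 _)
    (V := (S.subtype (S_le_cent S x) : Subgroup ↥(centralizer ({(x : G)} : Set G))))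
    (S.subtype (S_le_cent S x)).isPGroup' (y := k0) hkmem
  have hgN : (c : G) ∈ normalizer ((S : Subgroup G) : Set G) := by
    refine Subgroup.mem_normalizer_fintype fun y hy => ?_
    exact (mem_normalizer_iff.1 hcN ⟨y, S_le_cent S x hy⟩).1 hy
  let a : ↥(AA S) := ⟨thetaS S ⟨c, hgN⟩, _, rfl⟩
  have hact : ∀ v : VV S, iota S x (Additive.toMul (rho S a v)) = k0 * iota S x (Additive.toMul v) * k0⁻¹ := by
    intro v
    have h1 : iota S x (Additive.toMul (rho S a v)) = QuotientGroup.mk' _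
        (c * Subgroup.inclusion (S_le_cent S x) ⟨_, (Additive.toMul v).2.1⟩ * c⁻¹) :=
      congrArg (QuotientGroup.mk' _) (Subtype.ext rfl)
    rw [h1, map_mul, map_mul, map_inv, hck]
    rfl
  have hactp : ∀ (i : ℕ) (v : VV S),
      iota S x (Additive.toMul (rho S (a ^ i) v)) = k0 ^ i * iota S x (Additive.toMul v) * (k0 ^ i)⁻¹ := by
    intro i
    induction i with
    | zero => intro v; rw [pow_zero, rho_one, pow_zero, one_mul, inv_one, mul_one]
    | succ i ih => intro v; rw [pow_succ', rho_mul, hact, ih, pow_succ']; group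
  set U := Subgroup.toAddSubgroup (J.comap (iota S x)) with hU
  set R := Subgroup.toAddSubgroup ((centralizer (J : Set (Cq (x : G)))).comap (iota S x)) with hR
  have memU : ∀ v : VV S, v ∈ U ↔ iota S x (Additive.toMul v) ∈ J := fun v => Iff.rfl
  have memR : ∀ v : VV S, v ∈ R ↔ iota S x (Additive.toMul v) ∈ centralizer (J : Set (Cq (x : G))) := fun v =>
    Iff.rfl
  have hcardU : Nat.card U = Nat.card T := by
    refine Nat.card_eq_of_bijective (fun v : U => (⟨iota S x (Additive.toMul (v : VV S)),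
      iota_mem_SX S x _, (memU _).1 v.2⟩ : T)) ⟨fun v w e => ?_, fun y => ?_⟩
    · exact Subtype.ext (Additive.toMul.injective (iota_injective S x (congrArg Subtype.val e)))
    · obtain ⟨v, hv⟩ := hTiota y y.2
      exact ⟨⟨Additive.ofMul v, (memU _).2 (by rw [toMul_ofMul, hv]; exact y.2.2)⟩, Subtype.ext hv⟩
  have hfix : ∀ r ∈ R, rho S a r = r := fun r hr => Additive.toMul.injective (iota_injective S x (by
    rw [hact, mul_inv_eq_iff_eq_mul]
    exact mem_centralizer_iff.1 ((memR r).1 hr) k0 hk0))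
  have hdec : ∀ v : VV S, ∃ s ∈ U, ∃ r ∈ R, v = s + r := by
    intro v
    obtain ⟨w, hw, hc⟩ := hF.split hJ (SX S x) (iota_mem_SX S x (Additive.toMul v))
    obtain ⟨s, hs⟩ := hTiota w hw
    refine ⟨Additive.ofMul s, (memU _).2 (by rw [toMul_ofMul, hs]; exact hw.2), Additive.ofMul (s⁻¹ * Additive.toMul v),
      (memR _).2 (mem_centralizer_iff.2 fun y hy => ?_), ?_⟩
    · rw [toMul_ofMul, map_mul, map_inv, hs]
      exact (hc y hy).symm
    · exact Additive.toMul.injective (by rw [toMul_add, toMul_ofMul, toMul_ofMul, mul_inv_cancel_left])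
  have hstab : ∀ s ∈ U, rho S a s ∈ U := fun s hs => (memU _).2 (by
    rw [hact]; exact mul_mem (mul_mem hk0 ((memU s).1 hs)) (inv_mem hk0))
  refine ⟨a, ⟨VV_two S, hfix, hstab, hdec, ?_, ?_, ?_, hcardU ▸ hcyc.big, rho_inj S, AA_odd S⟩⟩
  · refine eq_bot_iff.2 fun v hv => ?_
    obtain ⟨h1, h2⟩ := AddSubgroup.mem_inf.1 hv
    have h3 : (⟨_, (memU v).1 h1⟩ : J) ∈ Subgroup.center J := Subgroup.mem_center_iff.2 fun y =>
      Subtype.ext (mem_centralizer_iff.1 ((memR v).1 h2) y y.2)
    rw [hF.comp_center hJ, Subgroup.mem_bot] at h3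
    exact AddSubgroup.mem_bot.2 (Additive.toMul.injective (iota_injective S x
      ((congrArg Subtype.val h3).trans (map_one (iota S x)).symm)))
  · intro s hs hs0 s' hs' hs'0
    obtain ⟨i, hi⟩ := hktr.2 _ ⟨iota_mem_SX S x (Additive.toMul s), (memU s).1 hs⟩
      (fun e => hs0 (Additive.toMul.injective (iota_injective S x (e.trans (map_one _).symm))))
      _ ⟨iota_mem_SX S x (Additive.toMul s'), (memU s').1 hs'⟩
      (fun e => hs'0 (Additive.toMul.injective (iota_injective S x (e.trans (map_one _).symm))))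
    exact ⟨i, Additive.toMul.injective (iota_injective S x (by rw [hactp, hi]))⟩
  · have hNdvd : orderOf a ∣ Nat.card T - 1 := by
      refine orderOf_dvd_of_pow_eq_one (rho_inj S (AddMonoidHom.ext fun v => ?_))
      show rho S (a ^ (Nat.card T - 1)) v = rho S 1 v
      obtain ⟨s, hs, r, hr, rfl⟩ := hdec v
      rw [rho_one, map_add]
      congr 1
      · exact Additive.toMul.injective (iota_injective S x (by
          rw [hactp]; exact hktr.1 _ ⟨iota_mem_SX S x _, (memU s).1 hs⟩))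
      · exact Additive.toMul.injective (iota_injective S x (by
          rw [hactp, mul_inv_eq_iff_eq_mul]
          exact mem_centralizer_iff.1 ((memR r).1 hr) _ (J.pow_mem hk0 _)))
    have hT4 := hcyc.big
    obtain ⟨y0, hy0, hy01⟩ : ∃ y ∈ T, y ≠ 1 := by
      haveI : Nontrivial T := Finite.one_lt_card_iff_nontrivial.1 (by omega)
      obtain ⟨y, hy⟩ := exists_ne (1 : T)
      exact ⟨y, y.2, fun e => hy (Subtype.ext e)⟩
    have hle : Nat.card T - 1 ≤ orderOf a := by
      haveI := Fintype.ofFinite T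
      have hc : Nat.card {y : T // y ≠ 1} = Nat.card T - 1 := by
        rw [Nat.card_eq_fintype_card, Fintype.card_subtype_compl, Fintype.card_subtype_eq, Nat.card_eq_fintype_card]
      rw [← hc, ← Nat.card_fin (orderOf a)]
      obtain ⟨v0, hv0⟩ := hTiota y0 hy0
      let fT : ∀ i : ℕ, T := fun i => ⟨iota S x (Additive.toMul (rho S (a ^ i) (Additive.ofMul v0))),
        iota_mem_SX S x _, by
          rw [hactp, toMul_ofMul, hv0]
          exact mul_mem (mul_mem (pow_mem hk0 i) hy0.2) (J.inv_mem (J.pow_mem hk0 i))⟩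
      refine Nat.card_le_card_of_surjective (fun i : Fin (orderOf a) => (⟨fT i, fun e => hy01 (by
        have e' := congrArg Subtype.val e
        simp only [fT, hactp, toMul_ofMul, hv0, Subgroup.coe_one] at e'
        simpa using e')⟩ : {y : T // y ≠ 1})) fun z => ?_
      obtain ⟨i, hi⟩ := hktr.2 y0 hy0 hy01 z.1 z.1.2 fun e => z.2 (Subtype.ext e)
      refine ⟨⟨i % orderOf a, Nat.mod_lt _ (orderOf_pos a)⟩, Subtype.ext (Subtype.ext ?_)⟩
      show iota S x (Additive.toMul (rho S (a ^ (i % orderOf a)) (Additive.ofMul v0))) = (z.1 : Cq (x : G))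
      rw [pow_mod_orderOf, hactp, toMul_ofMul, hv0, hi]
    have := Nat.le_of_dvd (by omega) hNdvd
    rw [hcardU]
    omega

/-- Two components of the same centraliser. -/
theorem mem_orth {x : VV S} {T R T' R' : AddSubgroup (VV S)} (h : Mem S x T R) (h' : Mem S x T' R') :
    (T = T' ∧ R = R') ∨ (T ≤ R' ∧ T' ≤ R) := by
  obtain ⟨-, J, hJ, rfl, rfl⟩ := h
  obtain ⟨-, J', hJ', rfl, rfl⟩ := h'
  by_cases e : J = J'
  · subst e
    exact Or.inl ⟨rfl, rfl⟩
  refine Or.inr ⟨fun v hv => ?_, fun v hv => ?_⟩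
  · exact Subgroup.commutator_eq_bot_iff_le_centralizer.1 (Solv.components_commute hJ hJ' e) hv
  · exact Subgroup.commutator_eq_bot_iff_le_centralizer.1 (Solv.components_commute hJ' hJ (Ne.symm e)) hv

theorem component_map {X : Type*} {Y : Type*} [Group X] [Group Y] (e : X ≃* Y) {J : Subgroup X}
    (hJ : Cfsg.IsComponent J) : Cfsg.IsComponent (J.map e.toMonoidHom) :=
  ⟨Subgroup.IsSubnormal.map (f := e.toMonoidHom) e.surjective hJ.1,
    Local.isQuasisimple_congr (J.equivMapOfInjective _ e.injective) hJ.2⟩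

/-- Equivariance. -/
theorem mem_smul {x : VV S} {T R : AddSubgroup (VV S)} (h : Mem S x T R) (a : ↥(AA S)) :
    Mem S (rho S a x) (tr (rho S) a T) (tr (rho S) a R) := by
  obtain ⟨hx, J, hJ, rfl, rfl⟩ := h
  obtain ⟨a, g, rfl⟩ := a
  refine ⟨fun e => hx (rho_injective (rho S) _ (e.trans (map_zero _).symm)), ?_⟩
  set x0 : ↥(om S) := Additive.toMul x
  set A0 : ↥(AA S) := ⟨thetaS S g, g, rfl⟩
  set y0 : ↥(om S) := thetaS S g x0 with hy0
  have hcm : (centralizer ({(x0 : G)} : Set G)).map (MulAut.conj (g : G)).toMonoidHom =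
      centralizer ({(y0 : G)} : Set G) := by
    ext z
    rw [mem_map_equiv, mem_centralizer_singleton_iff, mem_centralizer_singleton_iff]
    rw [hy0, thetaS_apply, MulAut.conj_symm_apply]
    constructor
    · intro h
      calc z * ((g : G) * x0 * (g : G)⁻¹) = g * ((g : G)⁻¹ * z * g * x0) * (g : G)⁻¹ := by group
        _ = g * (x0 * ((g : G)⁻¹ * z * g)) * (g : G)⁻¹ := by rw [h]
        _ = _ := by group
    · intro h
      calc (g : G)⁻¹ * z * g * x0 = (g : G)⁻¹ * (z * ((g : G) * x0 * (g : G)⁻¹)) * g := by group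
        _ = (g : G)⁻¹ * ((g : G) * x0 * (g : G)⁻¹ * z) * g := by rw [h]
        _ = _ := by group
  let e : ↥(centralizer ({(x0 : G)} : Set G)) ≃* ↥(centralizer ({(y0 : G)} : Set G)) :=
    ((MulAut.conj (g : G)).subgroupMap _).trans (MulEquiv.subgroupCongr hcm)
  have he : ∀ c, ((e c : ↥(centralizer ({(y0 : G)} : Set G))) : G) = g * c * (g : G)⁻¹ := fun c => rfl
  let E : Cq (x0 : G) ≃* Cq (y0 : G) := QuotientGroup.congr _ _ e (Fusion.map_pPrimeCore_equiv e)
  have hE : ∀ v : ↥(om S), E (iota S x0 v) = iota S y0 (thetaS S g v) := by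
    intro v
    exact congrArg (QuotientGroup.mk' _) (Subtype.ext (he _))
  have key : ∀ (P : Subgroup (Cq (x0 : G))), tr (rho S) A0 (Subgroup.toAddSubgroup (P.comap (iota S x0))) =
      Subgroup.toAddSubgroup ((P.map E.toMonoidHom).comap (iota S y0)) := by
    intro P
    ext v
    have h1 : E (iota S x0 (Additive.toMul (rho S A0⁻¹ v))) = iota S y0 (Additive.toMul v) := by
      rw [hE]
      exact congrArg (fun w : VV S => iota S y0 (Additive.toMul w)) (rho_inv' (rho S) A0 v)
    rw [mem_tr]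
    show iota S x0 (Additive.toMul (rho S A0⁻¹ v)) ∈ P ↔ iota S y0 (Additive.toMul v) ∈ P.map E.toMonoidHom
    rw [← h1]
    exact (Subgroup.mem_map_iff_mem (f := E.toMonoidHom) E.injective).symm
  clear_value E
  refine ⟨J.map E.toMonoidHom, component_map E hJ, key J, ?_⟩
  rw [key]
  show Subgroup.toAddSubgroup (((centralizer (J : Set (Cq (x0 : G)))).map E.toMonoidHom).comap (iota S y0)) =
    Subgroup.toAddSubgroup ((centralizer ((J.map E.toMonoidHom : Subgroup (Cq (y0 : G))) : Set (Cq (y0 : G)))).comap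
      (iota S y0))
  congr 2
  ext y
  obtain ⟨z, rfl⟩ := E.surjective y
  rw [show E z = E.toMonoidHom z from rfl, Subgroup.mem_map_iff_mem E.injective, mem_centralizer_iff,
    mem_centralizer_iff]
  constructor
  · rintro h _ ⟨w, hw, rfl⟩
    rw [← map_mul, ← map_mul, h w hw]
  · intro h w hw
    refine E.injective ?_
    have := h _ ⟨w, hw, rfl⟩
    rwa [← map_mul, ← map_mul] at this

end Cfsg.Agent.Walter
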