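import Mathlib
import Cfsg.Agent.Lib.Bender.AbelianCases

/-!
# Two quadratic operators generating a group of odd order commute

`T` is quadratic over the scalar `μ` when `(T - 1)(T - μ) = 0`. Over characteristic two a finite group of odd order
generated by two such elements has simple modules of dimension at most two over their endomorphism field, and a
group of odd order acting on a plane in characteristic two, with only scalars commuting with it, is made of scalars.
-/

set_option autoImplicit false
set_option linter.style.haveILetI false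

open scoped commutatorElement

namespace Cfsg.Agent.Walter

universe v

section Plane

variable {V : Type*} [AddCommGroup V]

theorem end_add_self (h2 : ∀ v : V, v + v = 0) (f : AddMonoid.End V) : f + f = 0 := by
  ext v
  exact h2 (f v)

/-- A linear operator of a plane that is no scalar has a cyclic vector. -/
theorem exists_cyclic {E : Type*} [Field E] [Module E V] [Module.Finite E V] (hd : Module.finrank E V ≤ 2)
    (f : V →ₗ[E] V) (hf : ∀ c : E, ∃ v, f v ≠ c • v) :
    ∃ v, LinearIndependent E ![v, f v] ∧ ∀ w, ∃ a b : E, a • v + b • f v = w := by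
  classical
  obtain ⟨v, hv⟩ : ∃ v, LinearIndependent E ![v, f v] := by
    by_contra hno
    push Not at hno
    have heig : ∀ v, v ≠ 0 → ∃ c : E, f v = c • v := by
      intro v hv
      by_contra hc
      push Not at hc
      refine hno v (LinearIndependent.pair_iff' hv |>.2 fun a e => hc a e.symm)
    by_cases hall : ∀ v : V, v = 0
    · obtain ⟨v, hv⟩ := hf 0
      exact hv (by rw [hall v]; simp)
    push Not at hall
    obtain ⟨v0, hv0⟩ := hall
    obtain ⟨c, hc⟩ := heig v0 hv0
    obtain ⟨w, hw⟩ := hf c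
    by_cases hdep : ∃ a : E, a • v0 = w
    · obtain ⟨a, rfl⟩ := hdep
      exact hw (by rw [map_smul, hc, smul_comm])
    push Not at hdep
    have hw0 : w ≠ 0 := fun e => hdep 0 (by rw [zero_smul, e])
    have hind : LinearIndependent E ![v0, w] := LinearIndependent.pair_iff' hv0 |>.2 hdep
    obtain ⟨d, hd'⟩ := heig w hw0
    have hsum : v0 + w ≠ 0 := fun e => hdep (-1) (by
      rw [neg_smul, one_smul]; exact (eq_neg_of_add_eq_zero_right e).symm)
    obtain ⟨s, hs⟩ := heig (v0 + w) hsum
    rw [map_add, hc, hd', smul_add] at hs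
    have h0 : (c - s) • v0 + (d - s) • w = 0 := by
      rw [sub_smul, sub_smul, sub_add_sub_comm, hs, sub_self]
    obtain ⟨e1, e2⟩ := LinearIndependent.pair_iff.1 hind _ _ h0
    exact hw (by rw [hd', sub_eq_zero.1 e2, ← sub_eq_zero.1 e1])
  refine ⟨v, hv, fun w => ?_⟩
  have hcard : (2 : ℕ) ≤ Module.finrank E V := by simpa using hv.fintype_card_le_finrank
  have hspan := hv.span_eq_top_of_card_eq_finrank (by simp only [Fintype.card_fin]; omega)
  have hw : w ∈ Submodule.span E (Set.range ![v, f v]) := hspan ▸ Submodule.mem_top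
  rw [Matrix.range_cons, Matrix.range_cons, Matrix.range_empty, Set.union_empty, ← Set.insert_eq,
    Submodule.mem_span_pair] at hw
  exact hw

variable {Γ : Type*} [Group Γ]

theorem pair_ext {E : Type*} [Field E] [Module E V] {v x : V}
    (hspan : ∀ w, ∃ a b : E, a • v + b • x = w) {f g : V →ₗ[E] V} (hv : f v = g v) (hx : f x = g x) :
    f = g := by
  ext w
  obtain ⟨a, b, rfl⟩ := hspan w
  simp only [map_add, map_smul, hv, hx]

/-- An odd group of linear maps of a plane in characteristic two, with no commuting operators beside the scalars,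
consists of scalars. -/
theorem plane_scalar [Finite Γ] (hodd : Odd (Nat.card Γ)) {E : Type*} [Field E] (he2 : (1 : E) + 1 = 0)
    [Module E V] [Module.Finite E V] (hd : Module.finrank E V ≤ 2)
    (ρ : Γ →* Module.End E V) (hscal : ∀ f : Module.End E V, (∀ x, Commute (ρ x) f) → ∃ c : E, ∀ v, f v = c • v)
    (x : Γ) : ∃ c : E, ∀ v, ρ x v = c • v := by
  classical
  have hE : ∀ a : E, a + a = 0 := fun a => by
    rw [show a + a = (1 + 1) * a by ring, he2, zero_mul]
  have hV : ∀ w : V, w + w = 0 := fun w => by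
    rw [show w + w = ((1 : E) + 1) • w by rw [add_smul, one_smul], he2, zero_smul]
  let Sc : Γ → Prop := fun x => ∃ c : E, ∀ v, ρ x v = c • v
  have hSc : ∀ {x}, Sc x → ∀ y, Commute (ρ x) (ρ y) := by
    rintro x ⟨c, hc⟩ y
    refine LinearMap.ext fun v => ?_
    simp only [Module.End.mul_apply, hc, map_smul]
  have hcancel : ∀ (y : Γ) (v : V), ρ y⁻¹ (ρ y v) = v := fun y v => by
    rw [← Module.End.mul_apply, ← map_mul, inv_mul_cancel, map_one, Module.End.one_apply]
  -- the quadratic relation of an element which is no scalar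
  have key : ∀ b : Γ, ¬ Sc b → ∃ (v : V) (δ τ : E), δ ≠ 0 ∧ τ ≠ 0 ∧ LinearIndependent E ![v, ρ b v] ∧
      (∀ w, ∃ a c : E, a • v + c • ρ b v = w) ∧ ∀ w, ρ b (ρ b w) = δ • w + τ • ρ b w := by
    intro b hb
    obtain ⟨v, hi, hs⟩ := exists_cyclic hd (ρ b) (by
      intro c
      by_contra h
      push Not at h
      exact hb ⟨c, h⟩)
    obtain ⟨δ, τ, hrel⟩ := hs (ρ b (ρ b v))
    have hall : ∀ w, ρ b (ρ b w) = δ • w + τ • ρ b w := by
      intro w
      obtain ⟨a, c, rfl⟩ := hs w
      have h3 : ρ b (ρ b (ρ b v)) = δ • ρ b v + τ • ρ b (ρ b v) := by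
        conv_lhs => rw [← hrel]
        simp only [map_add, map_smul]
      simp only [map_add, map_smul, h3, ← hrel]
      module
    refine ⟨v, δ, τ, fun h0 => ?_, fun h0 => ?_, hi, hs, hall⟩
    · refine hb ⟨τ, fun w => ?_⟩
      have := hall w
      rw [h0, zero_smul, zero_add, ← map_smul] at this
      simpa only [hcancel] using congrArg (ρ b⁻¹) this
    · obtain ⟨j, hj⟩ := (hodd.of_dvd_nat (orderOf_dvd_natCard b) : Odd (orderOf b))
      have hpow : ∀ i : ℕ, ∀ w, ρ (b ^ (2 * i)) w = δ ^ i • w := by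
        intro i
        induction i with
        | zero => simp
        | succ i ih =>
          intro w
          rw [show 2 * (i + 1) = 2 * i + 1 + 1 by ring, pow_succ, pow_succ, map_mul, map_mul, Module.End.mul_apply,
            Module.End.mul_apply, hall, h0, zero_smul, add_zero, ih, smul_smul, pow_succ]
      have h1 : ∀ w, δ ^ j • ρ b w = w := fun w => by
        rw [← hpow, ← Module.End.mul_apply, ← map_mul, ← pow_succ, ← hj, pow_orderOf_eq_one, map_one,
          Module.End.one_apply]
      by_cases hz : δ ^ j = 0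
      · exact hb ⟨0, fun w => by
          have hw : w = 0 := by rw [← h1 w, hz, zero_smul]
          rw [hw, map_zero, smul_zero]⟩
      refine hb ⟨(δ ^ j)⁻¹, fun w => ?_⟩
      conv_rhs => rw [← h1 w]
      rw [smul_smul, inv_mul_cancel₀ hz, one_smul]
  -- normal subgroups with commuting images are scalar
  have hab : ∀ N : Subgroup Γ, N.Normal → (∀ a ∈ N, ∀ b ∈ N, Commute (ρ a) (ρ b)) → ∀ a ∈ N, Sc a := by
    intro N hN hc a ha
    by_contra hna
    obtain ⟨v, δ, τ, hδ, hτ, hi, hs, hall⟩ := key a hna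
    have hconj : ∀ y : Γ, (∀ w, ρ (y * a * y⁻¹) w = ρ a w) ∨ (∀ w, ρ (y * a * y⁻¹) w = τ • w + ρ a w) := by
      intro y
      set k := ρ (y * a * y⁻¹) with hk
      obtain ⟨c, e, hkv⟩ := hs (k v)
      have hcm : Commute k (ρ a) := hc _ (hN.conj_mem a ha y) a ha
      have hkall : ∀ w, k w = c • w + e • ρ a w := by
        intro w
        obtain ⟨p, r, rfl⟩ := hs w
        have h' : k (ρ a v) = ρ a (k v) := by rw [← Module.End.mul_apply, hcm.eq, Module.End.mul_apply]
        simp only [map_add, map_smul, h', ← hkv]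
        module
      have hmap : ∀ w, k w = ρ y (ρ a (ρ y⁻¹ w)) := fun w => by
        rw [hk, map_mul, map_mul, Module.End.mul_apply, Module.End.mul_apply]
      have hkrel : ∀ w, k (k w) = δ • w + τ • k w := fun w => by
        rw [hmap w, hmap, hcancel, hall, map_add, map_smul, map_smul]
        congr 1
        rw [← Module.End.mul_apply, ← map_mul, mul_inv_cancel, map_one, Module.End.one_apply]
      have hv := hkrel v
      rw [hkall, hkall v, map_add, map_smul, map_smul, hall] at hv
      have hzero : (c * c + e * e * δ - δ - τ * c) • v + (c * e + e * c + e * e * τ - τ * e) • ρ a v = 0 := by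
        rw [← sub_eq_zero.2 hv]
        module
      obtain ⟨z1, z2⟩ := LinearIndependent.pair_iff.1 hi _ _ hzero
      have he : e * (e - 1) = 0 := by
        refine mul_left_cancel₀ hτ ?_
        linear_combination z2 - hE (c * e)
      rcases mul_eq_zero.1 he with e0 | e1
      · exfalso
        refine hna ⟨c, fun w => ?_⟩
        have h := hmap (ρ y w)
        rw [hcancel, hkall, e0, zero_smul, add_zero, ← map_smul] at h
        simpa only [hcancel] using (congrArg (ρ y⁻¹) h).symm
      · have e1 : e = 1 := sub_eq_zero.1 e1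
        subst e1
        have hcc : c * (c - τ) = 0 := by linear_combination z1
        rcases mul_eq_zero.1 hcc with c0 | c1
        · exact Or.inl fun w => by rw [hkall, c0]; simp
        · exact Or.inr fun w => by rw [hkall, sub_eq_zero.1 c1]; simp
    have hfix : ∀ y : Γ, ∀ w, ρ (y * a * y⁻¹) w = ρ a w := by
      intro y
      have hsq : ∀ z : Γ, ∀ w, ρ (z * z * a * (z * z)⁻¹) w = ρ a w := by
        intro z w
        have hh : ρ (z * z * a * (z * z)⁻¹) w = ρ z (ρ (z * a * z⁻¹) (ρ z⁻¹ w)) := by
          rw [show z * z * a * (z * z)⁻¹ = z * (z * a * z⁻¹) * z⁻¹ by group, map_mul, map_mul,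
            Module.End.mul_apply, Module.End.mul_apply]
        have hz : ∀ u, ρ z (ρ a (ρ z⁻¹ u)) = ρ (z * a * z⁻¹) u := fun u => by
          rw [map_mul, map_mul, Module.End.mul_apply, Module.End.mul_apply]
        have hzz : ρ z (ρ z⁻¹ w) = w := by
          rw [← Module.End.mul_apply, ← map_mul, mul_inv_cancel, map_one, Module.End.one_apply]
        rcases hconj z with h | h
        · rw [hh, h, hz, h]
        · rw [hh, h, map_add, map_smul, hzz, hz, h, ← add_assoc, ← add_smul, hE, zero_smul, zero_add]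
      obtain ⟨j, hj⟩ := (hodd.of_dvd_nat (orderOf_dvd_natCard y) : Odd (orderOf y))
      have hy : y ^ (j + 1) * y ^ (j + 1) = y := by
        rw [← pow_add, show j + 1 + (j + 1) = (2 * j + 1) + 1 by ring, ← hj, pow_succ, pow_orderOf_eq_one, one_mul]
      intro w
      have := hsq (y ^ (j + 1)) w
      rwa [hy] at this
    obtain ⟨c, hc'⟩ := hscal (ρ a) fun y => by
      refine LinearMap.ext fun w => ?_
      have := hfix y (ρ y w)
      rw [map_mul, map_mul, Module.End.mul_apply, Module.End.mul_apply, hcancel] at this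
      simpa [Module.End.mul_apply] using this
    exact hna ⟨c, hc'⟩
  -- descend the derived series
  haveI : Group.IsSolvable Γ := Cfsg.Agent.Bender.AbelianSolvable.odd_solvable' hodd
  obtain ⟨n, hn⟩ := (Group.isSolvable_def Γ).1 inferInstance
  have hser : ∀ i, i ≤ n → ∀ a ∈ derivedSeries Γ (n - i), Sc a := by
    intro i
    induction i with
    | zero =>
      intro _ a ha
      rw [Nat.sub_zero, hn, Subgroup.mem_bot] at ha
      exact ⟨1, fun v => by simp [ha]⟩
    | succ i ih =>
      intro hi
      refine hab _ (derivedSeries_normal Γ _) fun a ha b hb => ?_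
      by_cases hb' : Sc b
      · exact (hSc hb' a).symm
      obtain ⟨v, δ, τ, hδ, hτ, hv, hs, hall⟩ := key b hb'
      have hcm : ⁅a, b⁆ ∈ derivedSeries Γ (n - i) := by
        rw [show n - i = (n - (i + 1)) + 1 by omega, derivedSeries_succ]
        exact Subgroup.commutator_mem_commutator ha hb
      obtain ⟨ζ, hζ⟩ := ih (by omega) _ hcm
      have hconj : ∀ w, ρ a (ρ b (ρ a⁻¹ w)) = ζ • ρ b w := fun w => by
        rw [← hζ, ← Module.End.mul_apply, ← Module.End.mul_apply, ← Module.End.mul_apply, ← map_mul, ← map_mul,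
          ← map_mul, commutatorElement_def]
        congr 2
        group
      have hsq : ρ a (ρ b (ρ b (ρ a⁻¹ v))) = ζ • ρ b (ζ • ρ b v) := by
        rw [← hconj (ζ • ρ b v), ← hconj v]
        congr 2
        rw [hcancel]
      rw [hall, map_add, map_smul, map_smul, hconj, map_smul, hall, ← Module.End.mul_apply, ← map_mul,
        mul_inv_cancel, map_one, Module.End.one_apply] at hsq
      have hzero : (δ * (1 - ζ * ζ)) • v + (τ * ζ * (1 - ζ)) • ρ b v = 0 := by
        rw [← sub_eq_zero.2 hsq]
        module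
      obtain ⟨z1, -⟩ := LinearIndependent.pair_iff.1 hv _ _ hzero
      have hζ1 : ζ = 1 := by
        have h := (mul_eq_zero.1 z1).resolve_left hδ
        have h' : (ζ - 1) * (ζ - 1) = 0 := by linear_combination -h + (-ζ + 1) * he2
        exact sub_eq_zero.1 (mul_self_eq_zero.1 h')
      refine LinearMap.ext fun w => ?_
      simp only [Module.End.mul_apply]
      have := hconj (ρ a w)
      rw [hcancel, hζ1, one_smul] at this
      exact this
  have := hser n le_rfl x (by rw [Nat.sub_self, derivedSeries_zero]; exact Subgroup.mem_top x)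
  exact this

end Plane

section Pair

variable {Γ : Type*} [Group Γ]

/-- `(T - 1)(T - μ) = 0` in characteristic two. -/
def IsQuad {V : Type*} [AddCommGroup V] (T μ : AddMonoid.End V) : Prop := ∀ v, T (T v) + μ v = T v + μ (T v)

theorem apply_inv_cancel {V : Type*} [AddCommGroup V] (ρ : Γ →* AddMonoid.End V) (y : Γ) (v : V) :
    ρ y⁻¹ (ρ y v) = v := by
  show (ρ y⁻¹ * ρ y) v = v
  rw [← map_mul, inv_mul_cancel, map_one]
  rfl

theorem ρ_mul {V : Type*} [AddCommGroup V] (ρ : Γ →* AddMonoid.End V) (x y : Γ) (v : V) :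
    ρ (x * y) v = ρ x (ρ y v) := by rw [map_mul]; rfl

/-- What commutes with the generators commutes with the group. -/
theorem comm_of_gen [Finite Γ] {M : Type*} [Monoid M] (ρ : Γ →* M) {g g' : Γ}
    (hgen : Subgroup.closure ({g, g'} : Set Γ) = ⊤) (e : M) (h : Commute (ρ g) e) (h' : Commute (ρ g') e) (x : Γ) :
    Commute (ρ x) e := by
  let H : Submonoid Γ :=
    { carrier := {x | Commute (ρ x) e}
      one_mem' := by simp
      mul_mem' := fun {a b} ha hb => by
        show Commute (ρ (a * b)) e
        rw [map_mul]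
        exact Commute.mul_left ha hb }
  have hclo : (Subgroup.closure ({g, g'} : Set Γ)).toSubmonoid ≤ H := by
    rw [Subgroup.closure_toSubmonoid_of_finite]
    refine Submonoid.closure_le.2 ?_
    rintro y (rfl | rfl)
    · exact h
    · exact h'
  exact hclo (hgen ▸ Subgroup.mem_top x)

/-- The simple case. -/
theorem quad_pair_simple {V : Type*} [AddCommGroup V] [Finite V] [Nontrivial V] (h2 : ∀ v : V, v + v = 0) [Finite Γ]
    (hodd : Odd (Nat.card Γ)) (ρ : Γ →* AddMonoid.End V) {g g' : Γ}
    (hgen : Subgroup.closure ({g, g'} : Set Γ) = ⊤) (μ μ' : AddMonoid.End V)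
    (c1 : Commute (ρ g) μ) (c2 : Commute (ρ g') μ) (c3 : Commute (ρ g) μ') (c4 : Commute (ρ g') μ')
    (c5 : Commute μ μ') (q : IsQuad (ρ g) μ) (q' : IsQuad (ρ g') μ')
    (hirr : ∀ U : AddSubgroup V, (∀ x ∈ U, ρ g x ∈ U) → (∀ x ∈ U, ρ g' x ∈ U) → (∀ x ∈ U, μ x ∈ U) →
      (∀ x ∈ U, μ' x ∈ U) → U = ⊥ ∨ U = ⊤) :
    Commute (ρ g) (ρ g') := by
  classical
  let E : Subring (AddMonoid.End V) := Subring.centralizer {ρ g, ρ g', μ, μ'}
  have hmemE : ∀ f : AddMonoid.End V, Commute (ρ g) f → Commute (ρ g') f → Commute μ f → Commute μ' f → f ∈ E := by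
    intro f h1 h2' h3 h4
    refine Subring.mem_centralizer_iff.2 ?_
    rintro x (rfl | rfl | rfl | rfl)
    exacts [h1, h2', h3, h4]
  have hEc : ∀ f ∈ E, Commute (ρ g) f ∧ Commute (ρ g') f ∧ Commute μ f ∧ Commute μ' f := fun f hf => by
    have h := Subring.mem_centralizer_iff.1 hf
    exact ⟨h _ (by simp), h _ (by simp), h _ (by simp), h _ (by simp)⟩
  have hker : ∀ f ∈ E, f ≠ 0 → Function.Injective f := by
    intro f hf hf0
    obtain ⟨h1, h2', h3, h4⟩ := hEc f hf
    have hinv : ∀ (T : AddMonoid.End V), Commute T f → ∀ x ∈ AddMonoidHom.ker (f : V →+ V), T x ∈ AddMonoidHom.ker (f : V →+ V) := by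
      intro T hT x hx
      change f x = 0 at hx
      show f (T x) = 0
      have := congrArg (fun p : AddMonoid.End V => p x) hT.eq
      change T (f x) = f (T x) at this
      rw [← this, hx, map_zero]
    rcases hirr _ (hinv _ h1) (hinv _ h2') (hinv _ h3) (hinv _ h4) with h | h
    · exact (AddMonoidHom.ker_eq_bot_iff _).1 h
    · exact absurd (AddMonoidHom.ker_eq_top_iff.1 h) hf0
  haveI : Finite (AddMonoid.End V) := Finite.of_injective (fun f => (f : V → V)) DFunLike.coe_injective
  haveI : IsDomain E := by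
    haveI : Nontrivial E := ⟨⟨0, 1, fun h => by
      obtain ⟨v, hv⟩ := exists_ne (0 : V)
      exact hv (congrArg (fun p : E => (p : AddMonoid.End V) v) h).symm⟩⟩
    haveI : NoZeroDivisors E := ⟨fun {a b} h => by
      by_cases ha : a = 0
      · exact Or.inl ha
      right
      refine Subtype.ext (AddMonoidHom.ext fun v => hker _ a.2 (fun e => ha (Subtype.ext e)) ?_)
      exact (congrArg (fun p : E => (p : AddMonoid.End V) v) h).trans (map_zero (a : AddMonoid.End V)).symm⟩
    exact NoZeroDivisors.to_isDomain E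
  letI : Field E := (Finite.isDomain_to_isField E).toField
  letI : Module E V := Module.compHom V E.subtype
  have hsmul : ∀ (e : E) (v : V), e • v = (e : AddMonoid.End V) v := fun _ _ => rfl
  have he2 : (1 : E) + 1 = 0 := Subtype.ext (AddMonoidHom.ext fun v => h2 v)
  have hμ : μ ∈ E := hmemE μ c1 c2 (Commute.refl μ) c5.symm
  have hμ' : μ' ∈ E := hmemE μ' c3 c4 c5 (Commute.refl μ')
  have hcomm : ∀ x : Γ, ∀ e ∈ E, Commute (ρ x) e := fun x e he =>
    comm_of_gen ρ hgen e (hEc e he).1 (hEc e he).2.1 x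
  let σ : Γ →* Module.End E V :=
    { toFun := fun x =>
        { toFun := ρ x
          map_add' := map_add _
          map_smul' := fun e v => by
            show ρ x ((e : AddMonoid.End V) v) = (e : AddMonoid.End V) (ρ x v)
            exact congrArg (fun p : AddMonoid.End V => p v) (hcomm x e e.2).eq }
      map_one' := LinearMap.ext fun v => by show ρ 1 v = v; rw [map_one]; rfl
      map_mul' := fun x y => LinearMap.ext fun v => ρ_mul ρ x y v }
  -- an eigenvector of `g`
  obtain ⟨v, hv, c, hc⟩ : ∃ v : V, v ≠ 0 ∧ ∃ c : E, ρ g v = c • v := by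
    by_cases h : ∀ v, ρ g v = v
    · obtain ⟨v, hv⟩ := exists_ne (0 : V)
      exact ⟨v, hv, 1, by rw [h, one_smul]⟩
    push Not at h
    obtain ⟨w, hw⟩ := h
    refine ⟨ρ g w + w, fun e => hw ?_, ⟨μ, hμ⟩, ?_⟩
    · calc ρ g w = ρ g w + (w + w) := by rw [h2, add_zero]
        _ = w := by rw [← add_assoc, e, zero_add]
    · show ρ g (ρ g w + w) = μ (ρ g w + w)
      rw [map_add, map_add]
      have := q w
      calc ρ g (ρ g w) + ρ g w = ρ g (ρ g w) + μ w + (μ w + ρ g w) := by
            rw [← add_assoc, add_assoc (ρ g (ρ g w)) (μ w), h2, add_zero]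
        _ = ρ g w + μ (ρ g w) + (μ w + ρ g w) := by rw [this]
        _ = μ (ρ g w) + μ w + (ρ g w + ρ g w) := by abel
        _ = μ (ρ g w) + μ w := by rw [h2, add_zero]
  -- the central element
  have hee : ∀ f : AddMonoid.End V, f + f = 0 := end_add_self h2
  have qq : ρ g * ρ g = (1 + μ) * ρ g + μ := AddMonoidHom.ext fun w => by
    show ρ g (ρ g w) = ρ g w + μ (ρ g w) + μ w
    rw [← q w, add_assoc, h2, add_zero]
  have qq' : ρ g' * ρ g' = (1 + μ') * ρ g' + μ' := AddMonoidHom.ext fun w => by
    show ρ g' (ρ g' w) = ρ g' w + μ' (ρ g' w) + μ' w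
    rw [← q' w, add_assoc, h2, add_zero]
  let A := ρ g
  let B := ρ g'
  let α := (1 : AddMonoid.End V) + μ
  let β := (1 : AddMonoid.End V) + μ'
  let u := A * B + B * A + β * A + α * B
  have aα : Commute A α := (Commute.one_right A).add_right c1
  have aβ : Commute A β := (Commute.one_right A).add_right c3
  have bα : Commute B α := (Commute.one_right B).add_right c2
  have bβ : Commute B β := (Commute.one_right B).add_right c4
  have αβ : Commute α β := ((Commute.one_left β).add_left ((Commute.one_right μ).add_right c5))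
  have hsym : ∀ (X Y m m' a b : AddMonoid.End V), X * X = a * X + m → Commute X a → Commute X b → Commute Y a →
      Commute X m → Commute Y m → (X * Y + Y * X + b * X + a * Y) * X = X * (X * Y + Y * X + b * X + a * Y) := by
    intro X Y m _ a b hX xa xb ya xm ym
    have l : (X * Y + Y * X + b * X + a * Y) * X =
        X * Y * X + m * Y + b * (a * X + m) + ((a * Y * X + a * Y * X)) := by
      rw [add_mul, add_mul, add_mul, mul_assoc Y X X, hX, mul_assoc b X X, hX, mul_add Y, ← mul_assoc Y a X, ya.eq,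
        ym.eq]
      abel
    have r : X * (X * Y + Y * X + b * X + a * Y) =
        X * Y * X + m * Y + b * (a * X + m) + (a * X * Y + a * X * Y) := by
      rw [mul_add, mul_add, mul_add, ← mul_assoc X X Y, hX, ← mul_assoc X b X, xb.eq, mul_assoc b X X, hX,
        add_mul, ← mul_assoc X a Y, xa.eq, ← mul_assoc X Y X]
      abel
    rw [l, r, hee, hee]
  have huA : Commute A u := (hsym A B μ μ' α β qq aα aβ bα c1 c2).symm
  have huB : Commute B u := by
    have := (hsym B A μ' μ β α qq' bβ bα aβ c4 c3).symm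
    have e : B * A + A * B + α * B + β * A = u := by
      show _ = A * B + B * A + β * A + α * B
      abel
    rwa [e] at this
  have hcu : ∀ m : AddMonoid.End V, Commute A m → Commute B m → Commute α m → Commute β m → Commute m u :=
    fun m h1 h2' h3 h4 => (((((h1.mul_left h2').add_left (h2'.mul_left h1)).add_left (h4.mul_left h1)).add_left
      (h3.mul_left h2'))).symm
  have hu : u ∈ E := hmemE u huA huB
    (hcu μ c1 c2 ((Commute.one_left μ).add_left (Commute.refl μ)) ((Commute.one_left μ).add_left c5.symm))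
    (hcu μ' c3 c4 ((Commute.one_left μ').add_left c5) ((Commute.one_left μ').add_left (Commute.refl μ')))
  have hαE : α ∈ E := add_mem (one_mem E) hμ
  have hβE : β ∈ E := add_mem (one_mem E) hμ'
  -- the plane
  let P : Submodule E V := Submodule.span E {v, ρ g' v}
  have hgv : ρ g (ρ g' v) ∈ P := by
    have e : A (B v) = u v + B (A v) + β (A v) + α (B v) := by
      show _ = A (B v) + B (A v) + β (A v) + α (B v) + B (A v) + β (A v) + α (B v)
      calc A (B v) = A (B v) + ((B (A v) + B (A v)) + (β (A v) + β (A v)) + (α (B v) + α (B v))) := by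
            simp only [h2, add_zero]
        _ = _ := by abel
    have hAv : A v = c • v := hc
    have hb : B v ∈ P := Submodule.subset_span (by simp [B])
    have hv' : v ∈ P := Submodule.subset_span (by simp)
    have hBc : B (c • v) = c • B v := (σ g').map_smul c v
    show A (B v) ∈ P
    rw [e, hAv, hBc]
    exact P.add_mem (P.add_mem (P.add_mem (P.smul_mem ⟨u, hu⟩ hv') (P.smul_mem c hb))
      (P.smul_mem ⟨β, hβE⟩ (P.smul_mem c hv'))) (P.smul_mem ⟨α, hαE⟩ hb)
  have hstable : ∀ (x : Γ), ρ x v ∈ P → ρ x (ρ g' v) ∈ P → ∀ w ∈ P, ρ x w ∈ P := by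
    intro x h1 h2' w hw
    obtain ⟨a, b, rfl⟩ := Submodule.mem_span_pair.1 hw
    show σ x (a • v + b • ρ g' v) ∈ P
    rw [map_add, map_smul, map_smul]
    exact P.add_mem (P.smul_mem a h1) (P.smul_mem b h2')
  have hB2 : ρ g' (ρ g' v) ∈ P := by
    have e : B (B v) = β (B v) + μ' v := congrArg (fun p : AddMonoid.End V => p v) qq'
    show B (B v) ∈ P
    rw [e]
    exact P.add_mem (P.smul_mem ⟨β, hβE⟩ (Submodule.subset_span (by simp [B])))
      (P.smul_mem ⟨μ', hμ'⟩ (Submodule.subset_span (by simp)))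
  have hPtop : P = ⊤ := by
    rcases hirr P.toAddSubgroup
      (hstable g (by rw [hc]; exact P.smul_mem c (Submodule.subset_span (by simp))) hgv)
      (hstable g' (Submodule.subset_span (by simp)) hB2)
      (fun w hw => P.smul_mem ⟨μ, hμ⟩ hw) (fun w hw => P.smul_mem ⟨μ', hμ'⟩ hw) with h | h
    · exact absurd ((AddSubgroup.mem_bot).1 (h ▸ (Submodule.subset_span (by simp) : v ∈ P) : v ∈ (⊥ : AddSubgroup V))) hv
    · exact Submodule.toAddSubgroup_injective (h.trans Submodule.top_toAddSubgroup.symm)
  haveI : Module.Finite E V := Module.Finite.of_finite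
  have hd : Module.finrank E V ≤ 2 := by
    rw [← finrank_top E V, ← hPtop]
    refine (finrank_span_le_card _).trans ?_
    rw [Set.toFinset_insert, Set.toFinset_singleton]
    exact Finset.card_le_two
  have hscal : ∀ f : Module.End E V, (∀ x, Commute (σ x) f) → ∃ a : E, ∀ w, f w = a • w := by
    intro f hf
    let f' : AddMonoid.End V := f.toAddMonoidHom
    have hlin : ∀ e ∈ E, Commute e f' := fun e he => AddMonoidHom.ext fun w => (f.map_smul ⟨e, he⟩ w).symm
    have hσ : ∀ x, Commute (ρ x) f' := fun x =>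
      AddMonoidHom.ext fun w => congrArg (fun p : Module.End E V => p w) (hf x).eq
    exact ⟨⟨f', hmemE f' (hσ g) (hσ g') (hlin μ hμ) (hlin μ' hμ')⟩, fun w => rfl⟩
  obtain ⟨a, ha⟩ := plane_scalar hodd he2 hd σ hscal g
  refine AddMonoidHom.ext fun w => ?_
  show σ g (σ g' w) = σ g' (σ g w)
  rw [ha, ha, map_smul]

/-- **Two quadratic elements generating a group of odd order commute.** -/
theorem quad_pair [Finite Γ] (hodd : Odd (Nat.card Γ)) {g g' : Γ}
    (hgen : Subgroup.closure ({g, g'} : Set Γ) = ⊤) :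
    ∀ {V : Type v} [AddCommGroup V] [Finite V], (∀ w : V, w + w = 0) → ∀ (ρ : Γ →* AddMonoid.End V)
      (μ μ' : AddMonoid.End V), Commute (ρ g) μ → Commute (ρ g') μ → Commute (ρ g) μ' → Commute (ρ g') μ' →
      Commute μ μ' → IsQuad (ρ g) μ → IsQuad (ρ g') μ' → Commute (ρ g) (ρ g') := by
  classical
  intro V _ _
  induction hm : Nat.card V using Nat.strong_induction_on generalizing V with
  | _ m ih =>
  intro h2 ρ μ μ' c1 c2 c3 c4 c5 q q'
  subst hm
  rcases subsingleton_or_nontrivial V with h | h
  · exact AddMonoidHom.ext fun w => Subsingleton.elim _ _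
  by_cases hirr : ∀ U : AddSubgroup V, (∀ x ∈ U, ρ g x ∈ U) → (∀ x ∈ U, ρ g' x ∈ U) → (∀ x ∈ U, μ x ∈ U) →
      (∀ x ∈ U, μ' x ∈ U) → U = ⊥ ∨ U = ⊤
  · exact quad_pair_simple h2 hodd ρ hgen μ μ' c1 c2 c3 c4 c5 q q' hirr
  push Not at hirr
  obtain ⟨U, u1, u2, u3, u4, hU0, hU1⟩ := hirr
  have hU : ∀ x : Γ, ∀ y ∈ U, ρ x y ∈ U := by
    let H : Submonoid Γ :=
      { carrier := {x | ∀ y ∈ U, ρ x y ∈ U}
        one_mem' := fun y hy => by rw [map_one]; exact hy
        mul_mem' := fun {a b} ha hb y hy => by rw [ρ_mul]; exact ha _ (hb y hy) }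
    intro x
    have hle : (Subgroup.closure ({g, g'} : Set Γ)).toSubmonoid ≤ H := by
      rw [Subgroup.closure_toSubmonoid_of_finite]
      refine Submonoid.closure_le.2 ?_
      rintro y (rfl | rfl)
      exacts [u1, u2]
    exact hle (hgen ▸ Subgroup.mem_top x)
  -- the subgroup
  let res : ∀ T : AddMonoid.End V, (∀ y ∈ U, T y ∈ U) → AddMonoid.End U := fun T hT =>
    { toFun := fun y => ⟨T y, hT y y.2⟩
      map_zero' := Subtype.ext (map_zero T)
      map_add' := fun a b => Subtype.ext (map_add T _ _) }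
  let σ : Γ →* AddMonoid.End U :=
    { toFun := fun x => res (ρ x) (hU x)
      map_one' := AddMonoidHom.ext fun y => Subtype.ext (by show ρ 1 (y : V) = y; rw [map_one]; rfl)
      map_mul' := fun a b => AddMonoidHom.ext fun y => Subtype.ext (ρ_mul ρ a b _) }
  have hres : ∀ {S T : AddMonoid.End V} (hS : ∀ y ∈ U, S y ∈ U) (hT : ∀ y ∈ U, T y ∈ U), Commute S T →
      Commute (res S hS) (res T hT) := fun _ _ h =>
    AddMonoidHom.ext fun y => Subtype.ext (congrArg (fun p : AddMonoid.End V => p y) h.eq)
  have hlt : Nat.card U < Nat.card V := by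
    have h := U.card_mul_index
    have h1 : U.index ≠ 1 := fun e => hU1 (AddSubgroup.index_eq_one.1 e)
    have h0 : U.index ≠ 0 := AddSubgroup.index_ne_zero_of_finite
    rw [← h]
    exact lt_mul_of_one_lt_right Nat.card_pos (by omega)
  have hU2 : Commute (σ g) (σ g') := ih _ hlt rfl (fun y => Subtype.ext (h2 y)) σ (res μ u3) (res μ' u4)
    (hres (hU g) u3 c1) (hres (hU g') u3 c2) (hres (hU g) u4 c3) (hres (hU g') u4 c4) (hres u3 u4 c5) (fun y => Subtype.ext (q y))
    (fun y => Subtype.ext (q' y))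
  -- the quotient
  let qres : ∀ T : AddMonoid.End V, (∀ y ∈ U, T y ∈ U) → AddMonoid.End (V ⧸ U) := fun T hT =>
    QuotientAddGroup.map U U (T : V →+ V) fun y hy => hT y hy
  have hqmk : ∀ (T : AddMonoid.End V) (hT : ∀ y ∈ U, T y ∈ U) (y : V), qres T hT (y : V ⧸ U) = (T y : V ⧸ U) :=
    fun _ _ _ => rfl
  let τ : Γ →* AddMonoid.End (V ⧸ U) :=
    { toFun := fun x => qres (ρ x) (hU x)
      map_one' := AddMonoidHom.ext fun y => QuotientAddGroup.induction_on y fun z => by
        show ((ρ 1 z : V) : V ⧸ U) = z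
        rw [map_one]; rfl
      map_mul' := fun a b => AddMonoidHom.ext fun y => QuotientAddGroup.induction_on y fun z =>
        congrArg _ (ρ_mul ρ a b z) }
  have hqres : ∀ {S T : AddMonoid.End V} (hS : ∀ y ∈ U, S y ∈ U) (hT : ∀ y ∈ U, T y ∈ U), Commute S T →
      Commute (qres S hS) (qres T hT) := fun _ _ h =>
    AddMonoidHom.ext fun y => QuotientAddGroup.induction_on y fun z =>
      congrArg (fun w : V => (w : V ⧸ U)) (congrArg (fun p : AddMonoid.End V => p z) h.eq)
  have hlt' : Nat.card (V ⧸ U) < Nat.card V := by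
    rw [← U.card_mul_index]
    refine lt_mul_of_one_lt_left ?_ ?_
    · exact Nat.pos_of_ne_zero AddSubgroup.index_ne_zero_of_finite
    · exact AddSubgroup.one_lt_card_iff_ne_bot U |>.2 hU0
  have hQ2 : Commute (τ g) (τ g') := ih _ hlt' rfl
    (fun y => QuotientAddGroup.induction_on y fun z => congrArg (fun w : V => (w : V ⧸ U)) (h2 z))
    τ (qres μ u3) (qres μ' u4)
    (hqres (hU g) u3 c1) (hqres (hU g') u3 c2) (hqres (hU g) u4 c3) (hqres (hU g') u4 c4) (hqres u3 u4 c5)
    (fun y => QuotientAddGroup.induction_on y fun z => congrArg (fun w : V => (w : V ⧸ U)) (q z))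
    (fun y => QuotientAddGroup.induction_on y fun z => congrArg (fun w : V => (w : V ⧸ U)) (q' z))
  -- the commutator is unipotent, so of order two at most
  set c := g * g' * (g' * g)⁻¹ with hc
  have hfix : ∀ y ∈ U, ρ c y = y := by
    intro y hy
    have h := congrArg Subtype.val (congrArg (fun p : AddMonoid.End U => p ⟨_, hU (g' * g)⁻¹ y hy⟩) hU2.eq)
    change ρ g (ρ g' _) = ρ g' (ρ g _) at h
    rw [hc, ρ_mul, ρ_mul, h, ← ρ_mul, ← ρ_mul, mul_inv_cancel, map_one]
    rfl
  have hmod : ∀ y, ρ c y - y ∈ U := by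
    intro y
    have h := congrArg (fun p : AddMonoid.End (V ⧸ U) => p ((ρ (g' * g)⁻¹ y : V) : V ⧸ U)) hQ2.eq
    change ((ρ g (ρ g' _) : V) : V ⧸ U) = ((ρ g' (ρ g _) : V) : V ⧸ U) at h
    rw [← ρ_mul, ← ρ_mul, ← ρ_mul, ← ρ_mul, ← hc, mul_inv_cancel, map_one] at h
    exact QuotientAddGroup.eq_iff_sub_mem.1 h
  have hsq : ρ (c * c) = 1 := AddMonoidHom.ext fun y => by
    show ρ (c * c) y = y
    have h := hfix _ (hmod y)
    rw [map_sub] at h
    rw [ρ_mul]
    calc ρ c (ρ c y) = (ρ c (ρ c y) - ρ c y) + ρ c y := by abel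
      _ = ρ c y - y + ρ c y := by rw [h]
      _ = (ρ c y + ρ c y) - y := by abel
      _ = y := by rw [h2, zero_sub]; exact neg_eq_of_add_eq_zero_left (h2 y)
  have hone : ρ c = 1 := by
    obtain ⟨j, hj⟩ := (hodd.of_dvd_nat (orderOf_dvd_natCard c) : Odd (orderOf c))
    have h := pow_orderOf_eq_one c
    rw [hj] at h
    have := congrArg ρ h
    rwa [pow_succ, pow_mul, map_mul, map_pow, pow_two, hsq, one_pow, one_mul, map_one] at this
  calc ρ g * ρ g' = ρ c * ρ (g' * g) := by rw [← map_mul, ← map_mul, hc, inv_mul_cancel_right]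
    _ = ρ g' * ρ g := by rw [hone, one_mul, map_mul]

end Pair

end Cfsg.Agent.Walter
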