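import Cfsg.Agent.Lib.Walter.AbelianNormal
import Cfsg.Agent.Lib.Walter.QuadPair
import Cfsg.Agent.Lib.Solv.Basic

/-!
# Rigidity of a block

A group of odd order acting without fixed vectors on `V = S₀ ⊕ R`, containing an element `h` trivial on `R` and
regular on the non-zero vectors of `S₀`, with `|R| ≤ |S₀|` and with the translates of `R` meeting trivially, fixes the
pair `(S₀, R)`, the case `|S₀| = 4, |R| = 2` apart.
-/

set_option autoImplicit false
set_option linter.style.haveILetI false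
set_option linter.unusedSectionVars false

namespace Cfsg.Agent.Walter

universe v w

variable {V : Type v} [AddCommGroup V] [Finite V] {A : Type w} [Group A] [Finite A]

/-- `a` preserves both parts. -/
def Keeps (ρ : A →* AddMonoid.End V) (S0 R : AddSubgroup V) (a : A) : Prop :=
  (∀ r ∈ R, ρ a r ∈ R) ∧ ∀ s ∈ S0, ρ a s ∈ S0

/-- The elements preserving both parts. -/
def keeper (ρ : A →* AddMonoid.End V) (S0 R : AddSubgroup V) : Subgroup A :=
  let H : Submonoid A :=
    { carrier := {a | Keeps ρ S0 R a}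
      one_mem' := ⟨fun r hr => by rw [rho_one]; exact hr, fun s hs => by rw [rho_one]; exact hs⟩
      mul_mem' := fun {a b} ha hb =>
        ⟨fun r hr => by rw [rho_mul]; exact ha.1 _ (hb.1 r hr), fun s hs => by rw [rho_mul]; exact ha.2 _ (hb.2 s hs)⟩ }
  { H with
    inv_mem' := fun {a} ha => by
      rw [inv_eq_of_mul_eq_one_right (a := a) (b := a ^ (orderOf a - 1)) (by
        rw [← pow_succ', Nat.sub_add_cancel (orderOf_pos a), pow_orderOf_eq_one])]
      exact H.pow_mem ha _ }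

theorem mem_keeper {ρ : A →* AddMonoid.End V} {S0 R : AddSubgroup V} {a : A} :
    a ∈ keeper ρ S0 R ↔ Keeps ρ S0 R a := Iff.rfl

/-- An element of odd order is a power of its square. -/
theorem mem_of_sq_mem (hodd : Odd (Nat.card A)) {K : Subgroup A} {a : A} (h : a * a ∈ K) : a ∈ K := by
  obtain ⟨j, hj⟩ := (hodd.of_dvd_nat (orderOf_dvd_natCard a) : Odd (orderOf a))
  have e : (a * a) ^ (j + 1) = a := by
    rw [← pow_two, ← pow_mul, show 2 * (j + 1) = 2 * j + 1 + 1 by ring, ← hj, pow_succ, pow_orderOf_eq_one, one_mul]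
  rw [← e]
  exact pow_mem h _

namespace Blk

variable {ρ : A →* AddMonoid.End V} {h : A} {S0 R : AddSubgroup V} (B : Blk ρ h S0 R)
include B

/-- An idempotent commuting with `h` is `0` or `1` on `S₀`. -/
theorem idem_cases (hh : h ≠ 1) {f : AddMonoid.End V} (hf : f * f = f) (hfh : Commute f (ρ h)) :
    (∀ s ∈ S0, f s = 0) ∨ ∀ s ∈ S0, f s = s := by
  have hh1 : h ^ 1 ≠ 1 := by rwa [pow_one]
  have hfh' : Commute f (ρ (h ^ 1)) := by rwa [pow_one]
  have hcomm : ∀ (i : ℕ) (x : V), f (ρ (h ^ i) x) = ρ (h ^ i) (f x) := fun i x => by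
    have := (hfh.pow_right i).eq
    rw [← map_pow] at this
    exact congrArg (fun p : AddMonoid.End V => p x) this
  haveI : Nontrivial S0 := Finite.one_lt_card_iff_nontrivial.1 (by have := B.big; omega)
  obtain ⟨⟨s0, hs0⟩, hne⟩ := exists_ne (0 : S0)
  have hs0ne : s0 ≠ 0 := fun e => hne (Subtype.ext e)
  by_cases h0 : f s0 = 0
  · refine Or.inl fun s hs => ?_
    by_cases hs' : s = 0
    · rw [hs', map_zero]
    obtain ⟨i, rfl⟩ := B.reg s0 hs0 hs0ne s hs hs'
    rw [hcomm, h0, map_zero]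
  · refine Or.inr fun s hs => ?_
    obtain ⟨i, hi⟩ := B.reg s0 hs0 hs0ne _ (B.map_S0 hh1 hfh' hs0) h0
    have h1 : ρ (h ^ i) (f s0) = f s0 := by
      rw [← hcomm, hi]
      exact congrArg (fun p : AddMonoid.End V => p s0) hf
    have hfix : f s0 = s0 := by
      rw [← hi, B.pow_eq_one_of_fix (B.map_S0 hh1 hfh' hs0) h0 h1, rho_one]
    by_cases hs' : s = 0
    · rw [hs', map_zero]
    obtain ⟨j, rfl⟩ := B.reg s0 hs0 hs0ne s hs hs'
    rw [hcomm, hfix]

/-- **Rigidity.** -/
theorem rigid (hR : R ≠ ⊥) (hTI : ∀ a : A, ∀ r ∈ R, r ≠ 0 → ρ a r ∈ R → Keeps ρ S0 R a)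
    (hcent : ∀ v : V, (∀ a : A, ρ a v = v) → v = 0) (hexc : ¬ (Nat.card S0 = 4 ∧ Nat.card R = 2)) :
    ∀ a : A, Keeps ρ S0 R a := by
  classical
  intro a
  by_contra ha
  let K := keeper ρ S0 R
  have hTI' : ∀ b : A, b ∉ K → ∀ r ∈ R, ρ b r ∈ R → r = 0 := fun b hb r hr hbr => by
    by_contra h0
    exact hb (hTI b r hr h0 hbr)
  have haK : a ∉ K := ha
  haveI : Nontrivial A := ⟨⟨a, 1, fun e => haK (e ▸ one_mem K)⟩⟩
  haveI : Group.IsSolvable A := Cfsg.Agent.Bender.AbelianSolvable.odd_solvable' B.odd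
  have hh : h ≠ 1 := by
    intro e
    have := B.ord
    have := B.big
    rw [e, orderOf_one] at *
    omega
  have hh1 : h ^ 1 ≠ 1 := by rwa [pow_one]
  obtain ⟨N, hN, hNne, hmin⟩ := Solv.exists_minimal_normal (G := A)
  haveI := hN
  obtain ⟨hNc, p, hp, hNp, -⟩ := Solv.minimal_normal_elementaryAbelian N inferInstance hNne hmin
  obtain ⟨z0, hz0, hz01⟩ := N.ne_bot_iff_exists_ne_one.1 hNne |>.elim fun x hx =>
    (⟨x.1, x.2, fun e => hx (Subtype.ext e)⟩ : ∃ z ∈ N, z ≠ (1 : A))
  have hp2 : p ≠ 2 := by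
    rintro rfl
    have hd : orderOf z0 ∣ 2 := orderOf_dvd_of_pow_eq_one (hNp z0 hz0)
    have ho : Odd (orderOf z0) := B.odd.of_dvd_nat (orderOf_dvd_natCard z0)
    rcases (Nat.dvd_prime Nat.prime_two).1 hd with e | e
    · exact hz01 (orderOf_eq_one_iff.1 e)
    · rw [e] at ho
      exact absurd ho (by decide)
  have hc : ∀ x ∈ N, ∀ y ∈ N, Commute (ρ x) (ρ y) := fun x hx y hy => by
    show ρ x * ρ y = ρ y * ρ x
    rw [← map_mul, ← map_mul, show x * y = y * x from congrArg Subtype.val (hNc.is_comm.comm ⟨x, hx⟩ ⟨y, hy⟩)]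
  -- the algebra commutes with the conjugates of `h`
  have hzh : ∀ z ∈ N, ∀ b : A, Commute (ρ z) (ρ (b * h * b⁻¹)) := by
    intro z hz b
    have hz' : b⁻¹ * z * b ∈ N := by simpa using hN.conj_mem z hz b⁻¹
    have hcm := B.normal_commute hN hp hp2 hNp hc hcent hexc hz'
    show ρ z * ρ (b * h * b⁻¹) = ρ (b * h * b⁻¹) * ρ z
    rw [← map_mul, ← map_mul]
    have e1 : b⁻¹ * z * b * h = h * (b⁻¹ * z * b) := B.inj ((map_mul ρ _ _).trans (hcm.eq.trans (map_mul ρ _ _).symm))
    congr 1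
    calc z * (b * h * b⁻¹) = b * (b⁻¹ * z * b * h) * b⁻¹ := by group
      _ = b * (h * (b⁻¹ * z * b)) * b⁻¹ := by rw [e1]
      _ = b * h * b⁻¹ * z := by group
  have halg : ∀ f ∈ alg ρ N, Commute f (ρ h) := by
    intro f hf
    have hle : alg ρ N ≤ Subring.centralizer {ρ h} := Subring.closure_le.2 (by
      rintro _ ⟨z, hz, rfl⟩
      refine Subring.mem_centralizer_iff.2 fun x hx => ?_
      rw [Set.mem_singleton_iff.1 hx]
      have := hzh z hz 1
      rw [one_mul, inv_one, mul_one] at this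
      exact this.eq.symm)
    exact ((Subring.mem_centralizer_iff.1 (hle hf)) (ρ h) rfl).symm
  -- the atom carrying `S₀`
  have hex : ∃ m, ∃ e ∈ alg ρ N, e * e = e ∧ (∀ s ∈ S0, e s = s) ∧ Nat.card {x : V // e x = x} = m :=
    ⟨_, 1, one_mem _, one_mul 1, fun s _ => rfl, rfl⟩
  obtain ⟨e, hem, hee, he1, hecard⟩ := Nat.find_spec hex
  have hmin' : ∀ f ∈ alg ρ N, f * f = f → (∀ s ∈ S0, f s = s) → e * f = e := by
    intro f hf hff hf1
    have hcm := alg_commute hc hem hf
    let ι : {x : V // (e * f) x = x} → {x : V // e x = x} := fun x => ⟨x, by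
      have h1 : e (f x) = x := x.2
      conv_lhs => rw [← h1]
      exact (congrArg (fun p : AddMonoid.End V => p (f x)) hee).trans h1⟩
    have hι : Function.Injective ι := fun x y e' => Subtype.ext (congrArg (fun p : {x : V // e x = x} => (p : V)) e')
    have hle : Nat.find hex ≤ Nat.card {x : V // (e * f) x = x} := Nat.find_min' hex
      ⟨_, mul_mem hem hf, by rw [mul_assoc, ← mul_assoc f e, ← hcm.eq, mul_assoc e f f, hff, ← mul_assoc, hee],
        fun s hs => (congrArg e (hf1 s hs)).trans (he1 s hs), rfl⟩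
    have hbij := (Nat.bijective_iff_injective_and_card ι).2
      ⟨hι, le_antisymm (Nat.card_le_card_of_injective ι hι) (hecard.le.trans hle)⟩
    refine AddMonoidHom.ext fun x => ?_
    obtain ⟨⟨y, hy⟩, hy'⟩ := hbij.2 ⟨e x, congrArg (fun p : AddMonoid.End V => p x) hee⟩
    have hyx : y = e x := congrArg (fun p : {x : V // e x = x} => (p : V)) hy'
    calc (e * f) x = (e * f) (e x) := by
          show e (f x) = e (f (e x))
          have h1 : f (e x) = e (f x) := (congrArg (fun p : AddMonoid.End V => p x) hcm.eq).symm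
          rw [h1]
          exact (congrArg (fun p : AddMonoid.End V => p (f x)) hee).symm
      _ = e x := by rw [← hyx]; exact hy
  haveI : Nontrivial S0 := Finite.one_lt_card_iff_nontrivial.1 (by have := B.big; omega)
  obtain ⟨⟨s0, hs0⟩, hne⟩ := exists_ne (0 : S0)
  have hs0ne : s0 ≠ 0 := fun e' => hne (Subtype.ext e')
  have heatm : IsAtm ρ N e := ⟨hem, hee, fun h0 => hs0ne (by rw [← he1 s0 hs0, h0]; rfl), fun f hf hff => by
    rcases B.idem_cases hh hff (halg f hf) with hf0 | hf1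
    · refine Or.inl ?_
      have h1 := hmin' (1 + f) (add_mem (one_mem _) hf)
        (by rw [mul_add, mul_one, add_mul, one_mul, hff, add_assoc, end_two B.two, add_zero])
        (fun s hs => by show s + f s = s; rw [hf0 s hs, add_zero])
      rw [mul_add, mul_one] at h1
      exact add_eq_left.1 h1
    · exact Or.inr (hmin' f hf hff hf1)⟩
  have hker : ∀ x, x - e x ∈ R := by
    intro x
    obtain ⟨s, hs, r, hr, rfl⟩ := B.decomp x
    rw [map_add, he1 s hs, add_sub_add_left_eq_sub]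
    exact sub_mem hr (B.map_R hh1 (by rw [pow_one]; exact halg e hem) hr)
  have hsq : ∀ x : V, e (e x) = e x := fun x => congrArg (fun p : AddMonoid.End V => p x) hee
  -- the atom is `1`
  have he_one : e = 1 := by
    set e' := ρ a * e * ρ a⁻¹ with he'
    have he'atm : IsAtm ρ N e' := conj_atm hN a heatm
    by_cases hfix : e' = e
    · refine AddMonoidHom.ext fun x => ?_
      show e x = x
      have hr := hker x
      have hzero : x - e x = 0 := hTI' a haK _ hr (by
        have hcm := (conj_eq_iff a e).1 hfix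
        rw [map_sub, show ρ a (e x) = e (ρ a x) from (congrArg (fun p : AddMonoid.End V => p x) hcm.eq).symm]
        exact hker _)
      exact (sub_eq_zero.1 hzero).symm
    exfalso
    have horth : e * e' = 0 := by
      rcases heatm.min e' he'atm.mem he'atm.idem with h' | h'
      · exact h'
      rcases he'atm.min e hem hee with h'' | h''
      · rw [(alg_commute hc hem he'atm.mem).eq]; exact h''
      · exact absurd (by rw [← h'', (alg_commute hc he'atm.mem hem).eq, h']) hfix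
    have hsum : e + e' = 1 := by
      refine AddMonoidHom.ext fun x => ?_
      show e x + e' x = x
      set r := x - e x - e' x with hrdef
      have h1 : e (e' x) = 0 := congrArg (fun p : AddMonoid.End V => p x) horth
      have h2 : e' (e x) = 0 :=
        congrArg (fun p : AddMonoid.End V => p x) ((alg_commute hc he'atm.mem hem).eq.trans horth)
      have h3 : e' (e' x) = e' x := congrArg (fun p : AddMonoid.End V => p x) he'atm.idem
      have her : e r = 0 := by rw [hrdef, map_sub, map_sub, hsq, h1]; abel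
      have he'r : e' r = 0 := by rw [hrdef, map_sub, map_sub, h2, h3]; abel
      have hrR : r ∈ R := by have := hker r; rwa [her, sub_zero] at this
      have hrR' : ρ a⁻¹ r ∈ R := by
        have h4 : e (ρ a⁻¹ r) = 0 := by
          have h5 : ρ a (e (ρ a⁻¹ r)) = 0 := he'r
          exact rho_injective ρ a (h5.trans (map_zero _).symm)
        have := hker (ρ a⁻¹ r)
        rwa [h4, sub_zero] at this
      have hr0 : r = 0 := hTI' a⁻¹ (fun h' => haK (inv_mem_iff.1 h')) r hrR hrR'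
      have : x = e x + e' x + r := by rw [hrdef]; abel
      rw [hr0, add_zero] at this
      exact this.symm
    set e'' := ρ a * e' * ρ a⁻¹ with he''
    have he''atm : IsAtm ρ N e'' := conj_atm hN a he'atm
    have h'' : e'' * e' = 0 := by
      have hcancel : ρ a⁻¹ * ρ a = 1 := by rw [← map_mul, inv_mul_cancel, map_one]
      calc e'' * e' = ρ a * (e' * (ρ a⁻¹ * ρ a) * e) * ρ a⁻¹ := by rw [he'', he']; simp only [mul_assoc]
        _ = 0 := by rw [hcancel, mul_one, (alg_commute hc he'atm.mem hem).eq, horth, mul_zero, zero_mul]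
    have he''e : e'' * e = e'' := by
      have := congrArg (fun f => e'' * f) hsum
      simpa [mul_add, h''] using this
    have heq : e'' = e := by
      rcases heatm.min e'' he''atm.mem he''atm.idem with h' | h'
      · exfalso
        rw [(alg_commute hc hem he''atm.mem).eq, he''e] at h'
        exact he''atm.ne h'
      · rw [(alg_commute hc hem he''atm.mem).eq, he''e] at h'
        exact h'
    rw [he'', he', conj_conj] at heq
    refine hfix ?_
    have h2 := (conj_eq_iff (a * a) e).1 heq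
    let C : Subgroup A :=
      { carrier := {x | Commute e (ρ x)}
        one_mem' := by simp
        mul_mem' := fun {x y} hx hy => by show Commute e (ρ (x * y)); rw [map_mul]; exact Commute.mul_right hx hy
        inv_mem' := fun {x} hx => by
          show Commute e (ρ x⁻¹)
          have h1 : ρ x⁻¹ * ρ x = 1 := by rw [← map_mul, inv_mul_cancel, map_one]
          have h2 : ρ x * ρ x⁻¹ = 1 := by rw [← map_mul, mul_inv_cancel, map_one]
          have hx' : e * ρ x = ρ x * e := hx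
          calc e * ρ x⁻¹ = ρ x⁻¹ * (ρ x * e) * ρ x⁻¹ := by rw [← mul_assoc, h1, one_mul]
            _ = ρ x⁻¹ * (e * ρ x) * ρ x⁻¹ := by rw [hx']
            _ = ρ x⁻¹ * e := by simp only [mul_assoc]; rw [h2, mul_one] }
    exact (conj_eq_iff a e).2 (mem_of_sq_mem B.odd (K := C) (show a * a ∈ C from h2))
  subst he_one
  -- `z₀` is fixed-point-free
  have hz0ne : ρ z0 + 1 ≠ 0 := by
    intro h0
    refine hz01 (B.inj ?_)
    have := eq_neg_of_add_eq_zero_left h0
    rw [this, map_one, neg_eq_of_add_eq_zero_left (end_two B.two 1)]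
  have hfpf : ∀ v : V, ρ z0 v = v → v = 0 := by
    intro v hv
    obtain ⟨b, -, hb⟩ := atm_inv B.two hp hp2 hNp hc heatm (add_mem (rho_mem_alg ρ N hz0) (one_mem _))
      (by rw [one_mul]; exact hz0ne)
    rw [one_mul] at hb
    have := congrArg (fun p : AddMonoid.End V => p v) hb
    change b (ρ z0 v + v) = v at this
    rw [hv, B.two, map_zero] at this
    exact this.symm
  have hz0h : Commute (ρ z0) (ρ h) := halg _ (rho_mem_alg ρ N hz0)
  have hz0c : ∀ (i : ℕ) (x : V), ρ z0 (ρ (h ^ i) x) = ρ (h ^ i) (ρ z0 x) := fun i x => by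
    have := (hz0h.pow_right i).eq
    rw [← map_pow] at this
    exact congrArg (fun p : AddMonoid.End V => p x) this
  obtain ⟨c, hc0⟩ := B.reg s0 hs0 hs0ne _ (B.map_S0 hh1 (by rw [pow_one]; exact hz0h) hs0)
    fun h0 => hs0ne (rho_injective ρ z0 (h0.trans (map_zero _).symm))
  set g := h ^ c with hg
  have hgS : ∀ s ∈ S0, ρ g s = ρ z0 s := by
    intro s hs
    by_cases hs' : s = 0
    · rw [hs', map_zero, map_zero]
    obtain ⟨i, rfl⟩ := B.reg s0 hs0 hs0ne s hs hs'
    rw [hz0c, ← hc0, ← rho_mul, ← rho_mul, hg, ← pow_add, ← pow_add, add_comm]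
  have hg1 : h ^ c ≠ 1 := fun e' => hs0ne (hfpf s0 (by rw [← hgS s0 hs0, hg, e', rho_one]))
  have hgp : g ^ p = 1 := by
    refine B.inj (AddMonoidHom.ext fun x => ?_)
    obtain ⟨s, hs, r, hr, rfl⟩ := B.decomp x
    show ρ (g ^ p) (s + r) = ρ 1 (s + r)
    rw [rho_one, map_add, hg, ← pow_mul, B.pow_fix _ hr, pow_mul, ← hg]
    congr 1
    have : ∀ i : ℕ, ρ (g ^ i) s = ρ (z0 ^ i) s ∧ ρ (z0 ^ i) s ∈ S0 := by
      intro i
      induction i with
      | zero => exact ⟨by rw [pow_zero, pow_zero], by rw [pow_zero, rho_one]; exact hs⟩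
      | succ i ih =>
        rw [pow_succ' g, pow_succ' z0, rho_mul, rho_mul, ih.1, hgS _ ih.2]
        exact ⟨rfl, hgS _ ih.2 ▸ B.pow_stable c ih.2⟩
    rw [(this p).1, hNp z0 hz0, rho_one]
  have hquad : IsQuad (ρ g) (ρ z0) := by
    intro x
    obtain ⟨s, hs, r, hr, rfl⟩ := B.decomp x
    have hgs : ρ g s ∈ S0 := B.pow_stable c hs
    have hgr : ρ g r = r := B.pow_fix c hr
    have hzs : ρ z0 s ∈ S0 := hgS s hs ▸ hgs
    simp only [map_add, hgr, hgS s hs, hgS _ hzs]
    abel
  have hzg : ∀ z ∈ N, ∀ b : A, Commute (ρ (b * g * b⁻¹)) (ρ z) := by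
    intro z hz b
    have := ((hzh z hz b).pow_right c).symm
    rwa [← map_pow, conj_pow] at this
  have hconjquad : ∀ b : A, IsQuad (ρ (b * g * b⁻¹)) (ρ (b * z0 * b⁻¹)) := by
    intro b x
    have h1 := congrArg (ρ b) (hquad (ρ b⁻¹ x))
    rw [map_add, map_add] at h1
    simp only [rho_mul, rho_inv]
    exact h1
  have hpair : ∀ b : A, g * (b * g * b⁻¹) = b * g * b⁻¹ * g := by
    intro b
    set g' := b * g * b⁻¹ with hg'
    let Γ : Subgroup A := Subgroup.closure {g, g'}
    let γ : Γ := ⟨g, Subgroup.subset_closure (Or.inl rfl)⟩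
    let γ' : Γ := ⟨g', Subgroup.subset_closure (Or.inr rfl)⟩
    have hgen : Subgroup.closure ({γ, γ'} : Set Γ) = ⊤ := by
      refine eq_top_iff.2 fun x _ => ?_
      have hx : (x : A) ∈ (Subgroup.closure ({γ, γ'} : Set Γ)).map Γ.subtype := by
        rw [MonoidHom.map_closure]
        refine Subgroup.closure_mono ?_ x.2
        rintro y (rfl | rfl)
        · exact ⟨γ, Or.inl rfl, rfl⟩
        · exact ⟨γ', Or.inr rfl, rfl⟩
      obtain ⟨y, hy, hyx⟩ := hx
      exact (Subtype.ext hyx : y = x) ▸ hy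
    have hz0' : b * z0 * b⁻¹ ∈ N := hN.conj_mem z0 hz0 b
    have h1 : ∀ z ∈ N, Commute (ρ g) (ρ z) := fun z hz => by simpa using hzg z hz 1
    have := quad_pair (g := γ) (g' := γ') (B.odd.of_dvd_nat (Subgroup.card_subgroup_dvd_card Γ)) hgen B.two
      (ρ.comp Γ.subtype) (ρ z0) (ρ (b * z0 * b⁻¹)) (h1 z0 hz0) (hzg z0 hz0 b) (h1 _ hz0') (hzg _ hz0' b)
      (hc z0 hz0 _ hz0') hquad (hconjquad b)
    exact B.inj ((map_mul ρ _ _).trans (this.eq.trans (map_mul ρ _ _).symm))
  -- a translate of `R` lies in `S₀`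
  have hinS : ∀ b : A, b ∉ K → ∀ r ∈ R, ρ b r ∈ S0 := by
    intro b hb r hr
    obtain ⟨s, hs, r1, hr1, e1⟩ := B.decomp (ρ b r)
    have hcm : Commute (ρ (b * g * b⁻¹)) (ρ g) := by
      show ρ (b * g * b⁻¹) * ρ g = ρ g * ρ (b * g * b⁻¹)
      rw [← map_mul, ← map_mul, hpair]
    have hfix : ρ (b * g * b⁻¹) (ρ b r) = ρ b r := by
      rw [← rho_mul, inv_mul_cancel_right, rho_mul, hg, B.pow_fix c hr]
    rw [e1, map_add] at hfix
    obtain ⟨-, h2⟩ := B.eq_of_decomp (B.map_S0 hg1 hcm hs) hs (B.map_R hg1 hcm hr1) hr1 hfix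
    have h3 : ρ g (ρ b⁻¹ r1) = ρ b⁻¹ r1 := by
      have h4 := congrArg (ρ b⁻¹) h2
      rwa [← rho_mul, show b⁻¹ * (b * g * b⁻¹) = g * b⁻¹ by group, rho_mul] at h4
    have hr10 : r1 = 0 := hTI' b⁻¹ (fun h' => hb (inv_mem_iff.1 h')) r1 hr1 ((B.fixed_iff hg1 _).1 h3)
    rw [e1, hr10, add_zero]
    exact hs
  -- the normal closure of `g`
  let W : Subgroup A := Subgroup.normalClosure {g}
  have hgenW : ∀ x ∈ Group.conjugatesOfSet ({g} : Set A), ∃ b, x = b * g * b⁻¹ := by
    intro x hx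
    obtain ⟨y, hy, hxy⟩ := Group.mem_conjugatesOfSet_iff.1 hx
    rw [Set.mem_singleton_iff] at hy
    subst hy
    obtain ⟨b, hb⟩ := isConj_iff.1 hxy
    exact ⟨b, hb.symm⟩
  have hWc : ∀ x ∈ W, ∀ y ∈ W, x * y = y * x := by
    have h1 : W ≤ Subgroup.centralizer (Group.conjugatesOfSet ({g} : Set A)) := (Subgroup.closure_le _).2 fun x hx => by
      obtain ⟨b, rfl⟩ := hgenW x hx
      refine Subgroup.mem_centralizer_iff.2 fun y hy => ?_
      obtain ⟨d, rfl⟩ := hgenW y hy
      calc d * g * d⁻¹ * (b * g * b⁻¹) = d * (g * (d⁻¹ * b * g * (d⁻¹ * b)⁻¹)) * d⁻¹ := by group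
        _ = d * (d⁻¹ * b * g * (d⁻¹ * b)⁻¹ * g) * d⁻¹ := by rw [hpair]
        _ = b * g * b⁻¹ * (d * g * d⁻¹) := by group
    have h2 : W ≤ Subgroup.centralizer (W : Set A) := (Subgroup.closure_le _).2 fun x hx =>
      Subgroup.mem_centralizer_iff.2 fun y hy => (Subgroup.mem_centralizer_iff.1 (h1 hy) x hx).symm
    exact fun x hx y hy => (Subgroup.mem_centralizer_iff.1 (h2 hx) y hy).symm
  have hWp : ∀ x ∈ W, x ^ p = 1 := by
    intro x hx
    induction hx using Subgroup.closure_induction with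
    | mem y hy => obtain ⟨b, rfl⟩ := hgenW y hy; rw [conj_pow, hgp]; group
    | one => exact one_pow p
    | mul y z hy hz ey ez => rw [(show Commute y z from hWc y hy z hz).mul_pow, ey, ez, one_mul]
    | inv y _ ey => rw [inv_pow, ey, inv_one]
  have hWcomm : ∀ x ∈ W, ∀ y ∈ W, Commute (ρ x) (ρ y) := fun x hx y hy => by
    show ρ x * ρ y = ρ y * ρ x
    rw [← map_mul, ← map_mul, hWc x hx y hy]
  -- the translate is all of `S₀`
  have hall : ∀ b : A, b ∉ K → ∀ s ∈ S0, ∃ r ∈ R, ρ b r = s := by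
    intro b hb s hs
    have hgW : b * g * b⁻¹ ∈ W := Subgroup.normalClosure_normal.conj_mem g (Subgroup.subset_normalClosure (Set.mem_singleton g)) b
    have hcm := B.normal_commute (Subgroup.normalClosure_normal (s := {g})) hp hp2 hWp hWcomm hcent hexc hgW
    have hclosed : ∀ r ∈ R, ∃ r' ∈ R, ρ b r' = ρ h (ρ b r) := by
      intro r hr
      refine ⟨ρ b⁻¹ (ρ h (ρ b r)), (B.fixed_iff hg1 _).1 ?_, rho_inv' ρ b _⟩
      have h1 := congrArg (fun q : AddMonoid.End V => ρ b⁻¹ (q (ρ b r))) hcm.eq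
      change ρ b⁻¹ (ρ (b * g * b⁻¹) (ρ h (ρ b r))) = ρ b⁻¹ (ρ h (ρ (b * g * b⁻¹) (ρ b r))) at h1
      rw [← rho_mul ρ (b * g * b⁻¹) b, inv_mul_cancel_right, rho_mul ρ b g, B.pow_fix c hr,
        ← rho_mul ρ b⁻¹, show b⁻¹ * (b * g * b⁻¹) = g * b⁻¹ by group, rho_mul ρ g] at h1
      exact h1
    obtain ⟨r, hr, hr0⟩ : ∃ r ∈ R, r ≠ 0 := by
      obtain ⟨x, hx⟩ := (AddSubgroup.ne_bot_iff_exists_ne_zero).1 hR
      exact ⟨x, x.2, fun e' => hx (Subtype.ext e')⟩
    have hpowclosed : ∀ i : ℕ, ∃ r' ∈ R, ρ b r' = ρ (h ^ i) (ρ b r) := by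
      intro i
      induction i with
      | zero => exact ⟨r, hr, by rw [pow_zero, rho_one]⟩
      | succ i ih =>
        obtain ⟨r', hr', e'⟩ := ih
        obtain ⟨r'', hr'', e''⟩ := hclosed r' hr'
        exact ⟨r'', hr'', by rw [e'', e', ← rho_mul, ← pow_succ']⟩
    by_cases hs' : s = 0
    · exact ⟨0, zero_mem R, by rw [hs', map_zero]⟩
    obtain ⟨i, hi⟩ := B.reg _ (hinS b hb r hr) (fun h0 => hr0 (rho_injective ρ b (h0.trans (map_zero _).symm))) s hs hs'
    obtain ⟨r', hr', e'⟩ := hpowclosed i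
    exact ⟨r', hr', e'.trans hi⟩
  have hsw : ∀ s ∈ S0, ρ a s ∈ R := by
    intro s hs
    obtain ⟨r, hr, e'⟩ := hall a⁻¹ (fun h' => haK (inv_mem_iff.1 h')) s hs
    rw [← e', rho_inv']
    exact hr
  exact haK (mem_of_sq_mem B.odd (K := K) ⟨fun r hr => by rw [rho_mul]; exact hsw _ (hinS a haK r hr),
    fun s hs => by rw [rho_mul]; exact hinS a haK _ (hsw s hs)⟩)

end Blk

end Cfsg.Agent.Walter
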