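import Mathlib

/-!
# An abelian normal subgroup is centralised by the Singer element

`h` is trivial on `R`, transitive and semiregular on the non-zero elements of `S₀`, `V = S₀ ⊕ R` with `|R| ≤ |S₀|`.
A normal subgroup `Z` of odd prime exponent `q` with commutative image is centralised by `h`, the case
`|S₀| = 4, |R| = 2` apart: the atoms of the algebra spanned by `Z` are fixed by `h`, and so are the fields they cut out.
-/

set_option autoImplicit false
set_option linter.style.haveILetI false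

namespace Cfsg.Agent.Walter

universe v w

/-- A cyclic group of order `2ⁿ - 1` has no subgroup of index at most `n` in a proper subfield. -/
theorem singer_bound {n g l M : ℕ} (hn : 2 ≤ n) (hg0 : 1 ≤ g) (hg : g < n) (hl : l ≤ n) (hM : M * l = 2 ^ n - 1)
    (hd : M ∣ 2 ^ g - 1) : False := by
  have hd' : M ∣ 2 ^ (Nat.gcd n g) - 1 := by
    rw [← Nat.pow_sub_one_gcd_pow_sub_one]
    exact Nat.dvd_gcd (Dvd.intro l hM) hd
  set d := Nat.gcd n g with hddef
  obtain ⟨e, he⟩ := Nat.gcd_dvd_left n g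
  rw [← hddef] at he
  have hd0 : 0 < d := Nat.gcd_pos_of_pos_right n hg0
  have hdg : d ≤ g := Nat.gcd_le_right n hg0
  have he2 : 2 ≤ e := by
    by_contra h
    have : e = 0 ∨ e = 1 := by omega
    rcases this with rfl | rfl <;> omega
  have hd1 : 2 ≤ 2 ^ d := by
    calc 2 = 2 ^ 1 := rfl
      _ ≤ 2 ^ d := Nat.pow_le_pow_right (by norm_num) hd0
  have h2 : 2 ^ n - 1 ≤ (2 ^ d - 1) * n := by
    rw [← hM]
    exact Nat.mul_le_mul (Nat.le_of_dvd (by omega) hd') hl
  obtain ⟨k, hk⟩ : ∃ k, n = d + k ∧ d ≤ k := ⟨d * (e - 1), by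
    obtain ⟨f, rfl⟩ : ∃ f, e = f + 2 := ⟨e - 2, by omega⟩
    refine ⟨?_, Nat.le_mul_of_pos_right d (by omega)⟩
    rw [he, show f + 2 - 1 = f + 1 by omega]
    ring⟩
  have h2k : 2 * k ≤ 2 ^ k := by
    obtain ⟨j, rfl⟩ : ∃ j, k = j + 1 := ⟨k - 1, by omega⟩
    have := (Nat.lt_two_pow_self (n := j))
    rw [pow_succ]
    omega
  have hdk : 2 ^ d ≤ 2 ^ k := Nat.pow_le_pow_right (by norm_num) hk.2
  have hnk : n ≤ 2 ^ k := by omega
  have h3 : (2 ^ d - 1) * n ≤ (2 ^ d - 1) * 2 ^ k := Nat.mul_le_mul_left _ hnk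
  have h4 : 2 ^ n = 2 ^ d * 2 ^ k := by rw [hk.1, pow_add]
  have h5 : 2 ^ k ≤ 2 ^ d * 2 ^ k := Nat.le_mul_of_pos_left _ (by omega)
  rw [h4] at h2
  rw [Nat.sub_one_mul (2 ^ d) (2 ^ k)] at h3
  omega

variable {V : Type v} [AddCommGroup V] {A : Type w} [Group A]

/-- The data of one block: `h` is trivial on `R`, and its powers are regular on the non-zero elements of `S₀`. -/
structure Sing (ρ : A →* AddMonoid.End V) (h : A) (S0 R : AddSubgroup V) : Prop where
  two : ∀ v : V, v + v = 0
  fix : ∀ r ∈ R, ρ h r = r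
  stable : ∀ s ∈ S0, ρ h s ∈ S0
  decomp : ∀ x : V, ∃ s ∈ S0, ∃ r ∈ R, x = s + r
  disj : S0 ⊓ R = ⊥
  reg : ∀ s ∈ S0, s ≠ 0 → ∀ s' ∈ S0, s' ≠ 0 → ∃ i : ℕ, ρ (h ^ i) s = s'
  ord : orderOf h + 1 = Nat.card S0
  big : 4 ≤ Nat.card S0
  inj : Function.Injective ρ
  odd : Odd (Nat.card A)

/-- A block whose fixed part is not larger than the moved one. -/
structure Blk (ρ : A →* AddMonoid.End V) (h : A) (S0 R : AddSubgroup V) : Prop extends Sing ρ h S0 R where
  small : Nat.card R ≤ Nat.card S0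

theorem rho_mul (ρ : A →* AddMonoid.End V) (x y : A) (v : V) : ρ (x * y) v = ρ x (ρ y v) := by
  rw [map_mul]; rfl

theorem rho_one (ρ : A →* AddMonoid.End V) (v : V) : ρ 1 v = v := by rw [map_one]; rfl

theorem rho_inv (ρ : A →* AddMonoid.End V) (x : A) (v : V) : ρ x⁻¹ (ρ x v) = v := by
  rw [← rho_mul, inv_mul_cancel, rho_one]

theorem rho_inv' (ρ : A →* AddMonoid.End V) (x : A) (v : V) : ρ x (ρ x⁻¹ v) = v := by
  rw [← rho_mul, mul_inv_cancel, rho_one]

theorem rho_injective (ρ : A →* AddMonoid.End V) (x : A) : Function.Injective (ρ x) := fun a b e => by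
  have := congrArg (ρ x⁻¹) e
  rwa [rho_inv, rho_inv] at this

namespace Sing

variable {ρ : A →* AddMonoid.End V} {h : A} {S0 R : AddSubgroup V} (B : Sing ρ h S0 R)
include B

theorem pow_stable (i : ℕ) {s : V} (hs : s ∈ S0) : ρ (h ^ i) s ∈ S0 := by
  induction i with
  | zero => rw [pow_zero, rho_one]; exact hs
  | succ i ih => rw [pow_succ', rho_mul]; exact B.stable _ ih

theorem pow_fix (i : ℕ) {r : V} (hr : r ∈ R) : ρ (h ^ i) r = r := by
  induction i with
  | zero => rw [pow_zero, rho_one]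
  | succ i ih => rw [pow_succ, rho_mul, B.fix r hr, ih]

theorem eq_zero {s : V} (hs : s ∈ S0) (hr : s ∈ R) : s = 0 :=
  AddSubgroup.mem_bot.1 (B.disj ▸ AddSubgroup.mem_inf.2 ⟨hs, hr⟩)

theorem eq_of_decomp {s s' r r' : V} (hs : s ∈ S0) (hs' : s' ∈ S0) (hr : r ∈ R) (hr' : r' ∈ R)
    (e : s + r = s' + r') : s = s' ∧ r = r' := by
  have e' : s - s' = r' - r := by rw [sub_eq_sub_iff_add_eq_add, e, add_comm]
  have h0 : s - s' = 0 := B.eq_zero (sub_mem hs hs') (e' ▸ sub_mem hr' hr)
  refine ⟨sub_eq_zero.1 h0, ?_⟩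
  rw [h0] at e'
  exact (sub_eq_zero.1 e'.symm).symm

variable [Finite V] [Finite A]

/-- The order of `S₀` is a power of two. -/
theorem exists_card : ∃ n : ℕ, 2 ≤ n ∧ Nat.card S0 = 2 ^ n := by
  haveI : Fact (Nat.Prime 2) := ⟨Nat.prime_two⟩
  have hp : IsPGroup 2 (Multiplicative S0) := fun x => ⟨1, by
    apply Multiplicative.toAdd.injective
    rw [pow_one, pow_two, toAdd_mul, toAdd_one]
    exact Subtype.ext (B.two _)⟩
  obtain ⟨n, hn⟩ := IsPGroup.iff_card.1 hp
  rw [Nat.card_congr Multiplicative.toAdd] at hn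
  refine ⟨n, ?_, hn⟩
  by_contra hc
  have : 2 ^ n ≤ 2 ^ 1 := Nat.pow_le_pow_right (by norm_num) (by omega)
  have := B.big
  omega

/-- Powers fixing a non-zero element of `S₀` are trivial. -/
theorem pow_eq_one_of_fix {s : V} (hs : s ∈ S0) (hs0 : s ≠ 0) {i : ℕ} (e : ρ (h ^ i) s = s) : h ^ i = 1 := by
  refine B.inj (AddMonoidHom.ext fun x => ?_)
  obtain ⟨s', hs', r, hr, rfl⟩ := B.decomp x
  show ρ (h ^ i) (s' + r) = ρ 1 (s' + r)
  rw [rho_one, map_add, B.pow_fix i hr]
  congr 1
  by_cases h0 : s' = 0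
  · rw [h0, map_zero]
  obtain ⟨j, rfl⟩ := B.reg s hs hs0 s' hs' h0
  rw [← rho_mul, ← pow_add, add_comm i j, pow_add, rho_mul, e]

theorem fixed_iff {i : ℕ} (hi : h ^ i ≠ 1) (x : V) : ρ (h ^ i) x = x ↔ x ∈ R := by
  refine ⟨fun e => ?_, fun hx => B.pow_fix i hx⟩
  obtain ⟨s, hs, r, hr, rfl⟩ := B.decomp x
  rw [map_add, B.pow_fix i hr, add_left_inj] at e
  by_cases hs0 : s = 0
  · rw [hs0, zero_add]; exact hr
  · exact absurd (B.pow_eq_one_of_fix hs hs0 e) hi

end Sing

namespace Blk

variable [Finite V] [Finite A] {ρ : A →* AddMonoid.End V} {h : A} {S0 R : AddSubgroup V} (B : Blk ρ h S0 R)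
include B

/-- What commutes with a non-trivial power preserves `R`. -/
theorem map_R {i : ℕ} (hi : h ^ i ≠ 1) {T : AddMonoid.End V} (hT : Commute T (ρ (h ^ i))) {r : V} (hr : r ∈ R) :
    T r ∈ R := by
  rw [← B.fixed_iff hi]
  have := congrArg (fun p : AddMonoid.End V => p r) hT.eq
  change T (ρ (h ^ i) r) = ρ (h ^ i) (T r) at this
  rw [← this, B.pow_fix i hr]

/-- What commutes with a non-trivial power preserves `S₀`. -/
theorem map_S0 {i : ℕ} (hi : h ^ i ≠ 1) {T : AddMonoid.End V} (hT : Commute T (ρ (h ^ i))) {s : V} (hs : s ∈ S0) :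
    T s ∈ S0 := by
  let f : S0 → S0 := fun y => ⟨ρ (h ^ i) y + y, add_mem (B.pow_stable i y.2) y.2⟩
  have hf : Function.Injective f := fun a b e => by
    have e' : ρ (h ^ i) (a : V) + a = ρ (h ^ i) (b : V) + b := congrArg Subtype.val e
    have h1 : ρ (h ^ i) ((a : V) - b) = (a : V) - b := by
      rw [map_sub]
      have h2 : ρ (h ^ i) (a : V) - ρ (h ^ i) (b : V) = (b : V) - a := by
        rw [sub_eq_sub_iff_add_eq_add, e', add_comm]
      rw [h2]
      exact (neg_sub (a : V) b).symm.trans (neg_eq_of_add_eq_zero_left (B.two _))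
    exact Subtype.ext (sub_eq_zero.1 (B.eq_zero (sub_mem a.2 b.2) ((B.fixed_iff hi _).1 h1)))
  obtain ⟨y, hy⟩ := Finite.injective_iff_surjective.1 hf ⟨s, hs⟩
  have e : ρ (h ^ i) (y : V) + y = s := congrArg Subtype.val hy
  obtain ⟨s', hs', r, hr, ey⟩ := B.decomp (T y)
  rw [← e, map_add]
  have := congrArg (fun p : AddMonoid.End V => p (y : V)) hT.eq
  change T (ρ (h ^ i) y) = ρ (h ^ i) (T y) at this
  rw [this, ey, map_add, B.pow_fix i hr, add_add_add_comm, B.two, add_zero]
  exact add_mem (B.pow_stable i hs') hs'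

/-- An additive map of `S₀` commuting with a power of index at most `n` commutes with `h`. -/
theorem commute_on {n l : ℕ} (hn : Nat.card S0 = 2 ^ n) (hn2 : 2 ≤ n) (hl : l ≤ n) (hdvd : l ∣ orderOf h)
    {T : AddMonoid.End V} (hT : ∀ s ∈ S0, T (ρ (h ^ l) s) = ρ (h ^ l) (T s)) (hTs : ∀ s ∈ S0, T s ∈ S0) :
    ∀ s ∈ S0, T (ρ h s) = ρ h (T s) := by
  classical
  haveI : Fact (Nat.Prime 2) := ⟨Nat.prime_two⟩
  have hN : orderOf h = 2 ^ n - 1 := by have := B.ord; omega
  haveI : Nontrivial S0 := Finite.one_lt_card_iff_nontrivial.1 (by have := B.big; omega)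
  obtain ⟨⟨s0, hs0⟩, hne⟩ := exists_ne (0 : S0)
  have hs0ne : s0 ≠ 0 := fun e => hne (Subtype.ext e)
  let Y : AddSubgroup V := AddSubgroup.closure (Set.range fun j : ℕ => ρ (h ^ (l * j)) s0)
  have hYS : Y ≤ S0 := (AddSubgroup.closure_le _).2 (by rintro _ ⟨j, rfl⟩; exact B.pow_stable _ hs0)
  have hYtop : Y = S0 := by
    by_contra hYne
    obtain ⟨M, hM⟩ := hdvd
    have hM0 : 0 < M := Nat.pos_of_ne_zero fun e => by
      rw [e, mul_zero] at hM
      exact absurd hM (orderOf_pos h).ne'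
    have hpY : IsPGroup 2 (Multiplicative Y) := fun x => ⟨1, by
      apply Multiplicative.toAdd.injective
      rw [pow_one, pow_two, toAdd_mul, toAdd_one]
      exact Subtype.ext (B.two _)⟩
    obtain ⟨g, hg⟩ := IsPGroup.iff_card.1 hpY
    rw [Nat.card_congr Multiplicative.toAdd] at hg
    -- a permutation representation of `⟨h ^ l⟩` on `Y`, semiregular
    have hinv : ∀ y ∈ Y, ρ (h ^ l) y ∈ Y := by
      intro y hy
      induction hy using AddSubgroup.closure_induction with
      | mem x hx =>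
        obtain ⟨j, rfl⟩ := hx
        refine AddSubgroup.subset_closure ⟨j + 1, ?_⟩
        show ρ (h ^ (l * (j + 1))) s0 = ρ (h ^ l) (ρ (h ^ (l * j)) s0)
        rw [← rho_mul, ← pow_add]
        congr 2
        ring
      | zero => rw [map_zero]; exact zero_mem _
      | add x y _ _ hx hy => rw [map_add]; exact add_mem hx hy
      | neg x _ hx => rw [map_neg]; exact neg_mem hx
    have hpowY : ∀ (x : Subgroup.zpowers (h ^ l)), ∀ y ∈ Y, ρ (x : A) y ∈ Y := by
      rintro ⟨x, hx⟩ y hy
      obtain ⟨j, rfl⟩ := (mem_powers_iff_mem_zpowers.2 hx)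
      induction j with
      | zero => simpa [rho_one] using hy
      | succ j ih =>
        show ρ ((h ^ l) ^ (j + 1)) y ∈ Y
        rw [pow_succ', rho_mul]
        exact hinv _ (ih (Subgroup.npow_mem_zpowers _ j))
    letI : MulAction (Subgroup.zpowers (h ^ l)) {y : Y // y ≠ 0} :=
      { smul := fun x y => ⟨⟨ρ (x : A) (y : V), hpowY x _ y.1.2⟩, fun e => y.2 (Subtype.ext (rho_injective ρ (x : A)
          ((congrArg Subtype.val e).trans (map_zero (ρ (x : A))).symm)))⟩
        one_smul := fun y => Subtype.ext (Subtype.ext (rho_one ρ _))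
        mul_smul := fun a b y => Subtype.ext (Subtype.ext (rho_mul ρ a b _)) }
    have hfree : ∀ y : {y : Y // y ≠ 0}, MulAction.stabilizer (Subgroup.zpowers (h ^ l)) y = ⊥ := by
      intro y
      refine (Subgroup.eq_bot_iff_forall _).2 fun x hx => ?_
      have e : ρ (x : A) (y : V) = (y : V) := congrArg (fun z : {y : Y // y ≠ 0} => ((z : Y) : V)) hx
      obtain ⟨j, hj⟩ := (mem_powers_iff_mem_zpowers.2 x.2)
      change (h ^ l) ^ j = (x : A) at hj
      rw [← hj, ← pow_mul] at e
      refine Subtype.ext ?_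
      rw [← hj, ← pow_mul, B.pow_eq_one_of_fix (hYS y.1.2) (fun e0 => y.2 (Subtype.ext e0)) e]
      rfl
    have hdiv : Nat.card (Subgroup.zpowers (h ^ l)) ∣ Nat.card {y : Y // y ≠ 0} := by
      haveI := Fintype.ofFinite (MulAction.orbitRel.Quotient (Subgroup.zpowers (h ^ l)) {y : Y // y ≠ 0})
      rw [Nat.card_congr (MulAction.selfEquivSigmaOrbitsQuotientStabilizer (Subgroup.zpowers (h ^ l))
        {y : Y // y ≠ 0}), Nat.card_sigma]
      refine Finset.dvd_sum fun o _ => ?_
      rw [← Subgroup.index_eq_card, hfree, Subgroup.index_bot]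
    have hM' : Nat.card (Subgroup.zpowers (h ^ l)) = M := by
      have hl0 : l ≠ 0 := fun e => by
        rw [e, zero_mul] at hM
        exact absurd hM (orderOf_pos h).ne'
      rw [Nat.card_zpowers, orderOf_pow' _ hl0, hM, Nat.gcd_eq_right (Dvd.intro M rfl),
        Nat.mul_div_cancel_left _ (Nat.pos_of_ne_zero hl0)]
    have hY0 : Nat.card {y : Y // y ≠ 0} = 2 ^ g - 1 := by
      haveI := Fintype.ofFinite Y
      rw [Nat.card_eq_fintype_card, Fintype.card_subtype_compl, Fintype.card_subtype_eq, ← Nat.card_eq_fintype_card, hg]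
    have hg1 : 1 ≤ g := by
      by_contra hc
      have : Nat.card Y = 1 := by rw [hg, show g = 0 by omega, pow_zero]
      rw [AddSubgroup.card_eq_one] at this
      have hs : s0 ∈ Y := AddSubgroup.subset_closure ⟨0, by
        show ρ (h ^ (l * 0)) s0 = s0
        rw [mul_zero, pow_zero, rho_one]⟩
      rw [this, AddSubgroup.mem_bot] at hs
      exact hs0ne hs
    have hgn : g < n := by
      have := Set.Finite.card_lt_card (Set.toFinite (S0 : Set V)) (SetLike.coe_ssubset_coe.2 (lt_of_le_of_ne hYS hYne))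
      change Nat.card Y < Nat.card S0 at this
      rw [hg, hn] at this
      exact (Nat.pow_lt_pow_iff_right (by norm_num)).1 this
    exact singer_bound hn2 hg1 hgn hl (by rw [mul_comm, ← hM, hN]) (hY0 ▸ hM' ▸ hdiv)
  -- `T` is a power of `h` on `s0` or zero
  intro s hs
  by_cases hz : T s0 = 0
  · have h0 : ∀ y ∈ Y, T y = 0 := by
      intro y hy
      induction hy using AddSubgroup.closure_induction with
      | mem x hx =>
        obtain ⟨j, rfl⟩ := hx
        show T (ρ (h ^ (l * j)) s0) = 0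
        induction j with
        | zero => rw [mul_zero, pow_zero, rho_one, hz]
        | succ j ih =>
          rw [show l * (j + 1) = l + l * j by ring, pow_add, rho_mul, hT _ (B.pow_stable _ hs0), ih, map_zero]
      | zero => rw [map_zero]
      | add x y _ _ hx hy => rw [map_add, hx, hy, add_zero]
      | neg x _ hx => rw [map_neg, hx, neg_zero]
    rw [hYtop] at h0
    rw [h0 _ (B.stable s hs), h0 s hs, map_zero]
  obtain ⟨c, hc⟩ := B.reg s0 hs0 hs0ne _ (hTs s0 hs0) hz
  have key : ∀ y ∈ Y, T y = ρ (h ^ c) y := by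
    intro y hy
    induction hy using AddSubgroup.closure_induction with
    | mem x hx =>
      obtain ⟨j, rfl⟩ := hx
      show T (ρ (h ^ (l * j)) s0) = ρ (h ^ c) (ρ (h ^ (l * j)) s0)
      induction j with
      | zero => rw [mul_zero, pow_zero, rho_one, hc]
      | succ j ih =>
        rw [show l * (j + 1) = l + l * j by ring, pow_add, rho_mul, hT _ (B.pow_stable _ hs0), ih, ← rho_mul,
          ← rho_mul, ← rho_mul, ← rho_mul]
        simp only [← pow_add]
        congr 2
        ring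
    | zero => rw [map_zero, map_zero]
    | add x y _ _ hx hy => rw [map_add, map_add, hx, hy]
    | neg x _ hx => rw [map_neg, map_neg, hx]
  rw [hYtop] at key
  rw [key _ (B.stable s hs), key s hs, ← rho_mul, ← rho_mul, ← pow_succ, ← pow_succ']

/-- What commutes with a power of index at most `n`, and with `h` on `R`, commutes with `h`. -/
theorem commute_of_pow {n l : ℕ} (hn : Nat.card S0 = 2 ^ n) (hn2 : 2 ≤ n) (hl : l ≤ n) (hdvd : l ∣ orderOf h)
    {T : AddMonoid.End V} (hT : Commute T (ρ (h ^ l))) : Commute T (ρ h) := by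
  by_cases hl1 : h ^ l = 1
  · exfalso
    obtain ⟨M, hM⟩ := hdvd
    have h1 := orderOf_dvd_of_pow_eq_one hl1
    have hl0 : 0 < l := Nat.pos_of_ne_zero fun e => by
      rw [e, zero_mul] at hM
      exact absurd hM (orderOf_pos h).ne'
    have := Nat.le_of_dvd hl0 h1
    have := Nat.lt_two_pow_self (n := n - 1)
    have : 2 ^ n = 2 * 2 ^ (n - 1) := by rw [← pow_succ', show n - 1 + 1 = n by omega]
    have := B.ord
    omega
  refine AddMonoidHom.ext fun x => ?_
  obtain ⟨s, hs, r, hr, rfl⟩ := B.decomp x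
  show T (ρ h (s + r)) = ρ h (T (s + r))
  rw [map_add, map_add, map_add, map_add, B.fix r hr, B.fix _ (B.map_R hl1 hT hr)]
  rw [B.commute_on hn hn2 hl hdvd (fun u _ => congrArg (fun p : AddMonoid.End V => p u) hT.eq)
    (fun u hu => B.map_S0 hl1 hT hu) s hs]

end Blk

section Algebra

variable (ρ : A →* AddMonoid.End V) (Z : Subgroup A)

/-- The algebra spanned by the image of `Z`. -/
def alg : Subring (AddMonoid.End V) := Subring.closure (ρ '' (Z : Set A))

theorem rho_mem_alg {z : A} (hz : z ∈ Z) : ρ z ∈ alg ρ Z := Subring.subset_closure ⟨z, hz, rfl⟩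

/-- An atom of the algebra. -/
structure IsAtm (e : AddMonoid.End V) : Prop where
  mem : e ∈ alg ρ Z
  idem : e * e = e
  ne : e ≠ 0
  min : ∀ f ∈ alg ρ Z, f * f = f → e * f = 0 ∨ e * f = e

variable {ρ Z}

theorem alg_commute (hc : ∀ a ∈ Z, ∀ b ∈ Z, Commute (ρ a) (ρ b)) {x y : AddMonoid.End V} (hx : x ∈ alg ρ Z)
    (hy : y ∈ alg ρ Z) : Commute x y := by
  have h1 : alg ρ Z ≤ Subring.centralizer (ρ '' (Z : Set A)) := Subring.closure_le.2 (by
    rintro _ ⟨a, ha, rfl⟩
    exact Subring.mem_centralizer_iff.2 (by rintro _ ⟨b, hb, rfl⟩; exact hc b hb a ha))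
  have h2 : alg ρ Z ≤ Subring.centralizer ((alg ρ Z : Subring (AddMonoid.End V)) : Set (AddMonoid.End V)) :=
    Subring.closure_le.2 (by
      rintro _ ⟨a, ha, rfl⟩
      exact Subring.mem_centralizer_iff.2 fun g hg =>
        ((Subring.mem_centralizer_iff.1 (h1 hg)) _ ⟨a, ha, rfl⟩).symm)
  exact Subring.mem_centralizer_iff.1 (h2 hy) x hx

variable (h2 : ∀ v : V, v + v = 0)
include h2

theorem end_two (f : AddMonoid.End V) : f + f = 0 := AddMonoidHom.ext fun v => h2 (f v)

theorem add_pow_two_pow {x y : AddMonoid.End V} (h : Commute x y) (k : ℕ) :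
    (x + y) ^ 2 ^ k = x ^ 2 ^ k + y ^ 2 ^ k := by
  induction k with
  | zero => simp
  | succ k ih =>
    have hc : Commute (x ^ 2 ^ k) (y ^ 2 ^ k) := h.pow_pow _ _
    rw [pow_succ 2 k, pow_mul, pow_mul x, pow_mul y, ih, pow_two, pow_two, pow_two, mul_add, add_mul, add_mul, hc.eq]
    calc x ^ 2 ^ k * x ^ 2 ^ k + y ^ 2 ^ k * x ^ 2 ^ k + (y ^ 2 ^ k * x ^ 2 ^ k + y ^ 2 ^ k * y ^ 2 ^ k)
        = x ^ 2 ^ k * x ^ 2 ^ k + (y ^ 2 ^ k * x ^ 2 ^ k + y ^ 2 ^ k * x ^ 2 ^ k) + y ^ 2 ^ k * y ^ 2 ^ k := by abel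
      _ = _ := by rw [end_two h2, add_zero]

theorem alg_pow {q : ℕ} (hq : q.Prime) (hq2 : q ≠ 2) (hzq : ∀ z ∈ Z, z ^ q = 1)
    (hc : ∀ a ∈ Z, ∀ b ∈ Z, Commute (ρ a) (ρ b)) {x : AddMonoid.End V} (hx : x ∈ alg ρ Z) :
    x ^ 2 ^ (q - 1) = x := by
  induction hx using Subring.closure_induction with
  | mem x hx =>
    obtain ⟨z, hz, rfl⟩ := hx
    have hcop : Nat.Coprime 2 q := (Nat.coprime_primes Nat.prime_two hq).2 (Ne.symm hq2)
    have hmod : 2 ^ (q - 1) ≡ 1 [MOD q] := Nat.totient_prime hq ▸ Nat.ModEq.pow_totient hcop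
    obtain ⟨c, hc'⟩ := (Nat.modEq_iff_dvd' Nat.one_le_two_pow).1 hmod.symm
    rw [show 2 ^ (q - 1) = q * c + 1 by have := Nat.one_le_two_pow (n := q - 1); omega, ← map_pow, pow_succ, pow_mul,
      hzq z hz, one_pow, one_mul]
  | zero => exact zero_pow (Nat.two_pow_pos _).ne'
  | one => exact one_pow _
  | add x y hx hy ex ey => rw [add_pow_two_pow h2 (alg_commute hc hx hy), ex, ey]
  | neg x _ ex =>
    have hneg : -x = x := neg_eq_of_add_eq_zero_left (end_two h2 x)
    rw [hneg, ex]
  | mul x y hx hy ex ey => rw [(alg_commute hc hx hy).mul_pow, ex, ey]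

/-- A non-zero element below an atom has an inverse below it. -/
theorem atm_inv {q : ℕ} (hq : q.Prime) (hq2 : q ≠ 2) (hzq : ∀ z ∈ Z, z ^ q = 1)
    (hc : ∀ a ∈ Z, ∀ b ∈ Z, Commute (ρ a) (ρ b)) {e a : AddMonoid.End V} (he : IsAtm ρ Z e) (ha : a ∈ alg ρ Z)
    (hae : e * a ≠ 0) : ∃ b ∈ alg ρ Z, b * (e * a) = e := by
  set D := 2 ^ (q - 1) with hD
  have hD2 : 2 ≤ D := by
    have h2le := hq.two_le
    calc 2 = 2 ^ 1 := rfl
      _ ≤ D := Nat.pow_le_pow_right (by norm_num) (by omega)
  set x := e * a with hx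
  have hxm : x ∈ alg ρ Z := mul_mem he.mem ha
  have hp := alg_pow h2 hq hq2 hzq hc hxm
  rw [← hD] at hp
  have hidem : x ^ (D - 1) * x ^ (D - 1) = x ^ (D - 1) := by
    rw [← pow_add, show D - 1 + (D - 1) = D + (D - 2) by omega, pow_add, hp, ← pow_succ',
      show D - 2 + 1 = D - 1 by omega]
  have hsucc : x ^ (D - 1) * x = x := by rw [← pow_succ, show D - 1 + 1 = D by omega, hp]
  have hex : e * x ^ (D - 1) = x ^ (D - 1) := by
    rw [show D - 1 = (D - 2) + 1 by omega, pow_succ', hx, ← mul_assoc, ← mul_assoc, he.idem, mul_assoc]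
  rcases he.min _ (pow_mem hxm _) hidem with h | h <;> rw [hex] at h
  · exact absurd (by rw [← hsucc, h, zero_mul]) hae
  · exact ⟨x ^ (D - 2), pow_mem hxm _, by rw [← pow_succ, show D - 2 + 1 = D - 1 by omega, h]⟩

omit h2

/-- Conjugation preserves the algebra of a normal subgroup. -/
theorem conj_mem_alg (hZ : Z.Normal) (x : A) {a : AddMonoid.End V} (ha : a ∈ alg ρ Z) :
    ρ x * a * ρ x⁻¹ ∈ alg ρ Z := by
  induction ha using Subring.closure_induction with
  | mem a ha =>
    obtain ⟨z, hz, rfl⟩ := ha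
    rw [← map_mul, ← map_mul]
    exact rho_mem_alg ρ Z (hZ.conj_mem z hz x)
  | zero => rw [mul_zero, zero_mul]; exact zero_mem _
  | one => rw [mul_one, ← map_mul, mul_inv_cancel, map_one]; exact one_mem _
  | add a b _ _ ea eb => rw [mul_add, add_mul]; exact add_mem ea eb
  | neg a _ ea => rw [mul_neg, neg_mul]; exact neg_mem ea
  | mul a b _ _ ea eb =>
    have : ρ x⁻¹ * ρ x = 1 := by rw [← map_mul, inv_mul_cancel, map_one]
    rw [show ρ x * (a * b) * ρ x⁻¹ = ρ x * a * ρ x⁻¹ * (ρ x * b * ρ x⁻¹) by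
      simp only [mul_assoc]; rw [← mul_assoc (ρ x⁻¹) (ρ x), this, one_mul]]
    exact mul_mem ea eb

theorem conj_conj (x y : A) (a : AddMonoid.End V) :
    ρ x * (ρ y * a * ρ y⁻¹) * ρ x⁻¹ = ρ (x * y) * a * ρ (x * y)⁻¹ := by
  rw [mul_inv_rev, map_mul, map_mul]
  simp only [mul_assoc]

theorem conj_one' (a : AddMonoid.End V) : ρ (1 : A) * a * ρ (1 : A)⁻¹ = a := by simp

theorem conj_eq_iff (x : A) (a : AddMonoid.End V) : ρ x * a * ρ x⁻¹ = a ↔ Commute a (ρ x) := by
  constructor
  · intro h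
    show a * ρ x = ρ x * a
    conv_lhs => rw [← h]
    rw [mul_assoc, ← map_mul, inv_mul_cancel, map_one, mul_one]
  · intro h
    rw [← h.eq, mul_assoc, ← map_mul, mul_inv_cancel, map_one, mul_one]

theorem conj_atm (hZ : Z.Normal) (x : A) {e : AddMonoid.End V} (he : IsAtm ρ Z e) :
    IsAtm ρ Z (ρ x * e * ρ x⁻¹) := by
  have hinv : ρ x⁻¹ * ρ x = 1 := by rw [← map_mul, inv_mul_cancel, map_one]
  have hinv' : ρ x * ρ x⁻¹ = 1 := by rw [← map_mul, mul_inv_cancel, map_one]
  have hmul : ∀ a b : AddMonoid.End V, ρ x * a * ρ x⁻¹ * (ρ x * b * ρ x⁻¹) = ρ x * (a * b) * ρ x⁻¹ := by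
    intro a b
    simp only [mul_assoc]
    rw [← mul_assoc (ρ x⁻¹) (ρ x), hinv, one_mul]
  have hback : ∀ a : AddMonoid.End V, ρ x * (ρ x⁻¹ * a * ρ x) * ρ x⁻¹ = a := by
    intro a
    simp only [mul_assoc]
    rw [hinv', mul_one, ← mul_assoc, hinv', one_mul]
  refine ⟨conj_mem_alg hZ x he.mem, by rw [hmul, he.idem], fun h0 => he.ne ?_, fun f hf hff => ?_⟩
  · calc e = ρ x⁻¹ * (ρ x * e * ρ x⁻¹) * ρ x := by
          simp only [mul_assoc]; rw [hinv, mul_one, ← mul_assoc, hinv, one_mul]
      _ = 0 := by rw [h0, mul_zero, zero_mul]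
  · set g := ρ x⁻¹ * f * ρ x with hg
    have hgm : g ∈ alg ρ Z := by simpa using conj_mem_alg hZ x⁻¹ hf
    have hgg : g * g = g := by
      rw [hg]
      simp only [mul_assoc]
      rw [← mul_assoc (ρ x) (ρ x⁻¹), hinv', one_mul, ← mul_assoc f f, hff]
    rw [← hback f, ← hg, hmul]
    rcases he.min g hgm hgg with h | h
    · exact Or.inl (by rw [h, mul_zero, zero_mul])
    · exact Or.inr (by rw [h])

end Algebra

namespace Blk

variable {ρ : A →* AddMonoid.End V} {h : A} {S0 R : AddSubgroup V} (B : Blk ρ h S0 R)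
include B

variable [Finite V] [Finite A]

/-- The order of `V`. -/
theorem card_V_le : Nat.card V ≤ Nat.card S0 * Nat.card S0 := by
  let f : S0 × R → V := fun p => p.1 + p.2
  have hf : Function.Surjective f := fun x => by
    obtain ⟨s, hs, r, hr, rfl⟩ := B.decomp x
    exact ⟨(⟨s, hs⟩, ⟨r, hr⟩), rfl⟩
  calc Nat.card V ≤ Nat.card (S0 × R) := Nat.card_le_card_of_surjective f hf
    _ ≤ _ := by rw [Nat.card_prod]; exact Nat.mul_le_mul_left _ B.small

/-- An atom is fixed by `h`. -/
theorem atm_commute {Z : Subgroup A} (hZ : Z.Normal) {q : ℕ} (hq : q.Prime) (hzq : ∀ z ∈ Z, z ^ q = 1)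
    (hc : ∀ a ∈ Z, ∀ b ∈ Z, Commute (ρ a) (ρ b)) {e : AddMonoid.End V} (he : IsAtm ρ Z e) : Commute e (ρ h) := by
  classical
  by_contra hne
  obtain ⟨n, hn2, hn⟩ := B.exists_card
  let E : ℕ → AddMonoid.End V := fun i => ρ (h ^ i) * e * ρ (h ^ i)⁻¹
  have hE0 : E 0 = e := by simp [E]
  have hEadd : ∀ i j, E (i + j) = ρ (h ^ i) * E j * ρ (h ^ i)⁻¹ := fun i j => by
    simp only [E]; rw [conj_conj, ← pow_add]
  have hex : ∃ l, 0 < l ∧ E l = e := ⟨orderOf h, orderOf_pos h, by show ρ (h ^ orderOf h) * e * ρ (h ^ orderOf h)⁻¹ = e; rw [pow_orderOf_eq_one, conj_one']⟩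
  set l := Nat.find hex with hl
  obtain ⟨hl0, hEl⟩ : 0 < l ∧ E l = e := Nat.find_spec hex
  have hmin : ∀ i, 0 < i → i < l → E i ≠ e := fun i h0 hi e' => Nat.find_min hex hi ⟨h0, e'⟩
  have hmul : ∀ c, E (l * c) = e := by
    intro c
    induction c with
    | zero => rw [mul_zero, hE0]
    | succ c ih => rw [Nat.mul_succ, Nat.add_comm, hEadd, ih]; exact hEl
  have hlN : l ∣ orderOf h := by
    rw [Nat.dvd_iff_mod_eq_zero]
    by_contra h0
    refine hmin (orderOf h % l) (by omega) (Nat.mod_lt _ hl0) ?_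
    calc E (orderOf h % l) = E (l * (orderOf h / l) + orderOf h % l) := by
          rw [Nat.add_comm, hEadd, hmul]
      _ = e := by
          rw [Nat.div_add_mod]
          show ρ (h ^ orderOf h) * e * ρ (h ^ orderOf h)⁻¹ = e
          rw [pow_orderOf_eq_one, conj_one']
  have hl2 : 2 ≤ l := by
    by_contra hlt
    refine hne ((conj_eq_iff h e).1 ?_)
    have h1 := hEl
    rw [show l = 1 by omega] at h1
    simpa [E] using h1
  have hEatm : ∀ i, IsAtm ρ Z (E i) := fun i => conj_atm hZ _ he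
  -- distinct conjugates are orthogonal
  have horth : ∀ i j, i < l → j < l → i ≠ j → E i * E j = 0 := by
    have key : ∀ a b, IsAtm ρ Z a → IsAtm ρ Z b → a ≠ b → a * b = 0 := by
      intro a b ha hb hab
      rcases ha.min b hb.mem hb.idem with h' | h'
      · exact h'
      rcases hb.min a ha.mem ha.idem with h'' | h''
      · rw [(alg_commute hc hb.mem ha.mem).eq] at h''; exact h''
      · exact absurd (by rw [← h', (alg_commute hc ha.mem hb.mem).eq, h'']) hab
    have hne' : ∀ i j, i < j → j < l → E i ≠ E j := by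
      intro i j hij hj e'
      refine hmin (l - j + i) (by omega) (by omega) ?_
      rw [hEadd, e', ← hEadd, show l - j + j = l by omega, hEl]
    intro i j hi hj hij
    refine key _ _ (hEatm i) (hEatm j) ?_
    rcases Nat.lt_or_lt_of_ne hij with h' | h'
    · exact hne' i j h' hj
    · exact (hne' j i h' hi).symm
  -- `Z` is not trivial on the moved atom
  obtain ⟨z, hz, hze⟩ : ∃ z ∈ Z, ρ z * e ≠ e := by
    by_contra hall
    push Not at hall
    have he' : ∀ z ∈ Z, ρ z * E 1 = E 1 := by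
      intro z hz
      have hz' : h⁻¹ * z * h ∈ Z := by simpa using hZ.conj_mem z hz h⁻¹
      calc ρ z * E 1 = ρ h * (ρ (h⁻¹ * z * h) * e) * ρ h⁻¹ := by
            simp only [E, pow_one, map_mul, mul_assoc]
            rw [← mul_assoc (ρ h) (ρ h⁻¹), ← map_mul, mul_inv_cancel, map_one, one_mul]
        _ = E 1 := by rw [hall _ hz']; simp [E]
    let T : Set (AddMonoid.End V) :=
      {a | (a * e = 0 ∧ a * E 1 = 0) ∨ (a * e = e ∧ a * E 1 = E 1)}
    have hT : ∀ a ∈ alg ρ Z, a ∈ T := by
      intro a ha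
      induction ha using Subring.closure_induction with
      | mem a ha => obtain ⟨z, hz, rfl⟩ := ha; exact Or.inr ⟨hall z hz, he' z hz⟩
      | zero => exact Or.inl ⟨zero_mul _, zero_mul _⟩
      | one => exact Or.inr ⟨one_mul _, one_mul _⟩
      | add a b _ _ ea eb =>
        rcases ea with ⟨a1, a2⟩ | ⟨a1, a2⟩ <;> rcases eb with ⟨b1, b2⟩ | ⟨b1, b2⟩
        · exact Or.inl ⟨by rw [add_mul, a1, b1, add_zero], by rw [add_mul, a2, b2, add_zero]⟩
        · exact Or.inr ⟨by rw [add_mul, a1, b1, zero_add], by rw [add_mul, a2, b2, zero_add]⟩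
        · exact Or.inr ⟨by rw [add_mul, a1, b1, add_zero], by rw [add_mul, a2, b2, add_zero]⟩
        · exact Or.inl ⟨by rw [add_mul, a1, b1, end_two B.two], by rw [add_mul, a2, b2, end_two B.two]⟩
      | neg a _ ea =>
        have : -a = a := neg_eq_of_add_eq_zero_left (end_two B.two a)
        rwa [this]
      | mul a b _ _ ea eb =>
        rcases eb with ⟨b1, b2⟩ | ⟨b1, b2⟩
        · exact Or.inl ⟨by rw [mul_assoc, b1, mul_zero], by rw [mul_assoc, b2, mul_zero]⟩
        · rcases ea with ⟨a1, a2⟩ | ⟨a1, a2⟩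
          · exact Or.inl ⟨by rw [mul_assoc, b1, a1], by rw [mul_assoc, b2, a2]⟩
          · exact Or.inr ⟨by rw [mul_assoc, b1, a1], by rw [mul_assoc, b2, a2]⟩
    have h01 := horth 0 1 (by omega) (by omega) (by omega)
    rw [hE0] at h01
    rcases hT e he.mem with ⟨h', -⟩ | ⟨-, h'⟩
    · exact he.ne (he.idem.symm.trans h')
    · exact (hEatm 1).ne (h'.symm.trans h01)
  obtain ⟨w, hw⟩ : ∃ w, ρ z (e w) ≠ e w := by
    by_contra hall
    push Not at hall
    exact hze (AddMonoidHom.ext fun w => hall w)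
  set v := e w with hv
  have hev : e v = v := congrArg (fun p : AddMonoid.End V => p w) he.idem
  have hev' : e (ρ z v) = ρ z v := by
    have := congrArg (fun p : AddMonoid.End V => p v) (alg_commute hc he.mem (rho_mem_alg ρ Z hz)).eq
    change e (ρ z v) = ρ z (e v) at this
    rw [this, hev]
  have hv0 : v ≠ 0 := fun h0 => hw (by rw [h0, map_zero])
  -- four elements in the image of `e`
  let img : Bool × Bool → V := fun p => (if p.1 then v else 0) + (if p.2 then ρ z v else 0)
  have himg_fix : ∀ p, e (img p) = img p := by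
    rintro ⟨_ | _, _ | _⟩ <;> simp [img, map_add, hev, hev']
  have hzv0 : ρ z v ≠ 0 := fun h0 => hv0 (rho_injective ρ z (h0.trans (map_zero _).symm))
  have hsum : v + ρ z v ≠ 0 := fun h0 => hw (by
    calc ρ z v = v + v + ρ z v := by rw [B.two, zero_add]
      _ = v := by rw [add_assoc, h0, add_zero])
  have himg_inj : Function.Injective img := by
    rintro ⟨_ | _, _ | _⟩ ⟨_ | _, _ | _⟩ e' <;> simp [img] at e' ⊢ <;>
      first
        | exact hv0 e' | exact hv0 e'.symm | exact hzv0 e' | exact hzv0 e'.symm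
        | exact hsum e' | exact hsum e'.symm | exact hw e' | exact hw e'.symm
        | exact hzv0 (by simpa using e'.symm) | exact hv0 (by simpa using e'.symm)
  -- the conjugate images form a direct sum
  let Φ : (Fin l → Bool × Bool) → V := fun f => ∑ i : Fin l, ρ (h ^ (i : ℕ)) (img (f i))
  have hproj : ∀ (i : Fin l) x, e x = x → E i (ρ (h ^ (i : ℕ)) x) = ρ (h ^ (i : ℕ)) x := by
    intro i x hx
    show ρ (h ^ (i : ℕ)) (e (ρ (h ^ (i : ℕ))⁻¹ (ρ (h ^ (i : ℕ)) x))) = _
    rw [rho_inv, hx]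
  have hΦ : Function.Injective Φ := by
    intro f f' e'
    funext i
    have hrec : ∀ g : Fin l → Bool × Bool, E i (Φ g) = ρ (h ^ (i : ℕ)) (img (g i)) := by
      intro g
      simp only [Φ, map_sum]
      rw [Finset.sum_eq_single i]
      · exact hproj i _ (himg_fix _)
      · intro j _ hj
        conv_lhs => rw [← hproj j _ (himg_fix _)]
        exact congrArg (fun p : AddMonoid.End V => p (ρ (h ^ (j : ℕ)) (img (g j))))
          (horth i j i.2 j.2 fun c => hj (Fin.ext c.symm))
      · simp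
    exact himg_inj (rho_injective ρ _ ((hrec f).symm.trans ((congrArg (E i) e').trans (hrec f'))))
  have hcard := (Nat.card_le_card_of_injective Φ hΦ).trans B.card_V_le
  rw [Nat.card_fun, Nat.card_fin, Nat.card_prod, Nat.card_eq_fintype_card (α := Bool), Fintype.card_bool, hn,
    ← pow_add, show (2 * 2 : ℕ) = 2 ^ 2 by norm_num, ← pow_mul] at hcard
  have hln : l ≤ n := by
    have := (Nat.pow_le_pow_iff_right (by norm_num)).1 hcard
    omega
  exact hne (B.commute_of_pow hn hn2 hln hlN ((conj_eq_iff (h ^ l) e).1 hEl))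

/-- The fields cut out by the atoms are fixed by `h` as well. -/
theorem atm_field {Z : Subgroup A} (hZ : Z.Normal) {q : ℕ} (hq : q.Prime) (hq2 : q ≠ 2) (hzq : ∀ z ∈ Z, z ^ q = 1)
    (hc : ∀ a ∈ Z, ∀ b ∈ Z, Commute (ρ a) (ρ b)) (hcent : ∀ v : V, (∀ a : A, ρ a v = v) → v = 0)
    (hexc : ¬ (Nat.card S0 = 4 ∧ Nat.card R = 2)) {e : AddMonoid.End V} (he : IsAtm ρ Z e) {z : A} (hz : z ∈ Z) :
    Commute (ρ z * e) (ρ h) := by
  classical
  obtain ⟨n, hn2, hn⟩ := B.exists_card
  have heh := B.atm_commute hZ hq hzq hc he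
  have hN : orderOf h = 2 ^ n - 1 := by have := B.ord; omega
  have hh1 : h ^ 1 ≠ 1 := by
    rw [pow_one]
    intro e1
    rw [e1, orderOf_one] at hN
    have : 2 ^ 2 ≤ 2 ^ n := Nat.pow_le_pow_right (by norm_num) hn2
    omega
  let U : AddSubgroup V :=
    { carrier := {x | e x = x}
      add_mem' := fun {a b} (ha : e a = a) (hb : e b = b) => by
        show e (a + b) = a + b
        rw [map_add, ha, hb]
      zero_mem' := map_zero e
      neg_mem' := fun {a} (ha : e a = a) => by
        show e (-a) = -a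
        rw [map_neg, ha] }
  have hUe : ∀ x : V, e x ∈ U := fun x => congrArg (fun p : AddMonoid.End V => p x) he.idem
  have hcommU : ∀ {T : AddMonoid.End V}, Commute e T → ∀ x ∈ U, T x ∈ U := fun {T} hT x (hx : e x = x) => by
    show e (T x) = T x
    exact (congrArg (fun p : AddMonoid.End V => p x) hT.eq).trans (congrArg T hx)
  have halgU : ∀ a ∈ alg ρ Z, ∀ x ∈ U, a x ∈ U := fun a ha => hcommU (alg_commute hc he.mem ha)
  have hinvU : ∀ x ∈ U, ρ h⁻¹ x ∈ U := hcommU (by
    have h1 : ρ h * ρ h⁻¹ = 1 := by rw [← map_mul, mul_inv_cancel, map_one]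
    have h2 : ρ h⁻¹ * ρ h = 1 := by rw [← map_mul, inv_mul_cancel, map_one]
    show e * ρ h⁻¹ = ρ h⁻¹ * e
    calc e * ρ h⁻¹ = ρ h⁻¹ * ρ h * e * ρ h⁻¹ := by rw [h2, one_mul]
      _ = ρ h⁻¹ * (ρ h * e) * ρ h⁻¹ := by rw [← mul_assoc (ρ h⁻¹)]
      _ = ρ h⁻¹ * e * (ρ h * ρ h⁻¹) := by rw [← heh.eq]; simp only [mul_assoc]
      _ = ρ h⁻¹ * e := by rw [h1, mul_one])
  let res : alg ρ Z →+* AddMonoid.End U :=
    { toFun := fun a =>
        { toFun := fun x => ⟨(a : AddMonoid.End V) x, halgU a a.2 x x.2⟩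
          map_zero' := Subtype.ext (map_zero (a : AddMonoid.End V))
          map_add' := fun x y => Subtype.ext (map_add (a : AddMonoid.End V) _ _) }
      map_one' := rfl
      map_mul' := fun a b => rfl
      map_zero' := rfl
      map_add' := fun a b => rfl }
  let K : Subring (AddMonoid.End U) := res.range
  haveI : Finite (AddMonoid.End U) := Finite.of_injective (fun f => (f : U → U)) DFunLike.coe_injective
  obtain ⟨x₀, hx₀⟩ : ∃ x, e x ≠ 0 := by
    by_contra hall
    push Not at hall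
    exact he.ne (AddMonoidHom.ext hall)
  have hinvK : ∀ a : alg ρ Z, res a ≠ 0 → ∃ b : alg ρ Z, res b * res a = 1 := by
    intro a ha
    have hea : e * (a : AddMonoid.End V) ≠ 0 := fun h0 => ha (AddMonoidHom.ext fun x => Subtype.ext (by
      have hax : e ((a : AddMonoid.End V) x) = (a : AddMonoid.End V) x := halgU a a.2 x x.2
      exact hax.symm.trans (congrArg (fun p : AddMonoid.End V => p (x : V)) h0)))
    obtain ⟨b, hb, e1⟩ := atm_inv B.two hq hq2 hzq hc he a.2 hea
    refine ⟨⟨b, hb⟩, AddMonoidHom.ext fun x => Subtype.ext ?_⟩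
    have h1 := congrArg (fun p : AddMonoid.End V => p (x : V)) e1
    change b (e ((a : AddMonoid.End V) x)) = e x at h1
    rw [halgU a a.2 x x.2, x.2] at h1
    exact h1
  haveI : Nontrivial K := ⟨⟨0, 1, fun h0 => hx₀ (by
    have := congrArg (fun p : K => (((p : AddMonoid.End U) ⟨e x₀, hUe x₀⟩ : U) : V)) h0
    exact this.symm)⟩⟩
  haveI : NoZeroDivisors K := ⟨fun {x y} hxy => by
    obtain ⟨a, ha⟩ := x.2
    by_cases hx0 : x = 0
    · exact Or.inl hx0
    right
    obtain ⟨b, hb⟩ := hinvK a fun h0 => hx0 (Subtype.ext (ha.symm.trans h0))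
    refine Subtype.ext ?_
    calc (y : AddMonoid.End U) = res b * res a * y := by rw [hb, one_mul]
      _ = res b * ((x * y : K) : AddMonoid.End U) := by rw [mul_assoc, ha]; rfl
      _ = 0 := by rw [hxy]; exact mul_zero _⟩
  haveI : IsDomain K := NoZeroDivisors.to_isDomain K
  letI : Field K := (Finite.isDomain_to_isField K).toField
  haveI : CharP K 2 := CharTwo.of_one_ne_zero_of_two_eq_zero one_ne_zero (by
    rw [← one_add_one_eq_two]
    exact Subtype.ext (AddMonoidHom.ext fun x => Subtype.ext (B.two x)))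
  letI : Algebra (ZMod 2) K := ZMod.algebra K 2
  haveI : Fact (Nat.Prime 2) := ⟨Nat.prime_two⟩
  -- the automorphism induced by `h`
  let σ : AddMonoid.End U :=
    { toFun := fun x => ⟨ρ h x, hcommU heh x x.2⟩
      map_zero' := Subtype.ext (map_zero (ρ h))
      map_add' := fun x y => Subtype.ext (map_add (ρ h) _ _) }
  let σ' : AddMonoid.End U :=
    { toFun := fun x => ⟨ρ h⁻¹ x, hinvU x x.2⟩
      map_zero' := Subtype.ext (map_zero (ρ h⁻¹))
      map_add' := fun x y => Subtype.ext (map_add (ρ h⁻¹) _ _) }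
  have hσσ' : σ * σ' = 1 := AddMonoidHom.ext fun x => Subtype.ext (rho_inv' ρ h _)
  have hσ'σ : σ' * σ = 1 := AddMonoidHom.ext fun x => Subtype.ext (rho_inv ρ h _)
  have hmemK : ∀ k : K, σ * k * σ' ∈ K := by
    rintro ⟨_, a, rfl⟩
    exact ⟨⟨_, conj_mem_alg hZ h a.2⟩, rfl⟩
  have hmemK' : ∀ k : K, σ' * k * σ ∈ K := by
    rintro ⟨_, a, rfl⟩
    exact ⟨⟨_, conj_mem_alg hZ h⁻¹ a.2⟩, AddMonoidHom.ext fun x => Subtype.ext (by
      show ρ h⁻¹ ((a : AddMonoid.End V) (ρ h⁻¹⁻¹ x)) = ρ h⁻¹ ((a : AddMonoid.End V) (ρ h x))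
      rw [inv_inv])⟩
  let φ : K ≃+* K :=
    { toFun := fun k => ⟨σ * k * σ', hmemK k⟩
      invFun := fun k => ⟨σ' * k * σ, hmemK' k⟩
      left_inv := fun k => Subtype.ext (by
        show σ' * (σ * k * σ') * σ = k
        simp only [mul_assoc]
        rw [hσ'σ, mul_one, ← mul_assoc, hσ'σ, one_mul])
      right_inv := fun k => Subtype.ext (by
        show σ * (σ' * k * σ) * σ' = k
        simp only [mul_assoc]
        rw [hσσ', mul_one, ← mul_assoc, hσσ', one_mul])
      map_mul' := fun a b => Subtype.ext (by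
        show σ * (a * b : AddMonoid.End U) * σ' = σ * a * σ' * (σ * b * σ')
        simp only [mul_assoc]
        rw [← mul_assoc σ' σ, hσ'σ, one_mul])
      map_add' := fun a b => Subtype.ext (by
        show σ * ((a : AddMonoid.End U) + b) * σ' = σ * a * σ' + σ * b * σ'
        rw [mul_add, add_mul]) }
  let φA : K ≃ₐ[ZMod 2] K := AlgEquiv.ofRingEquiv (f := φ) fun c =>
    RingHom.congr_fun (Subsingleton.elim (φ.toRingHom.comp (algebraMap (ZMod 2) K)) (algebraMap (ZMod 2) K)) c
  have hUpow : ∀ (i : ℕ) (x : U), ρ (h⁻¹ ^ i) (x : V) ∈ U := by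
    intro i x
    induction i with
    | zero => rw [pow_zero, rho_one]; exact x.2
    | succ i ih => rw [pow_succ', rho_mul]; exact hinvU _ ih
  have hφpow : ∀ (i : ℕ) (k : K) (x : U), ((((φA ^ i) k : K) : AddMonoid.End U) x : V) =
      ρ (h ^ i) (((k : AddMonoid.End U) ⟨ρ (h⁻¹ ^ i) x, hUpow i x⟩ : U) : V) := by
    intro i
    induction i with
    | zero =>
      intro k x
      show ((k : AddMonoid.End U) x : V) = ρ (h ^ 0) _
      rw [pow_zero h, rho_one]
      congr 2
      exact Subtype.ext (by show (x : V) = ρ (h⁻¹ ^ 0) x; rw [pow_zero, rho_one])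
    | succ i ih =>
      intro k x
      rw [show (φA ^ (i + 1)) k = φA ((φA ^ i) k) by rw [pow_succ']; rfl]
      show ρ h ((((φA ^ i) k : K) : AddMonoid.End U) (σ' x) : V) = _
      rw [ih, pow_succ' h, rho_mul]
      congr 4
      refine Subtype.ext ?_
      show ρ (h⁻¹ ^ i) (ρ h⁻¹ x) = ρ (h⁻¹ ^ (i + 1)) x
      rw [pow_succ, rho_mul]
  set ε := orderOf φA with hε
  have hεN : ε ∣ orderOf h := orderOf_dvd_of_pow_eq_one (AlgEquiv.ext fun k => by
    refine Subtype.ext (AddMonoidHom.ext fun x => Subtype.ext ?_)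
    refine (hφpow _ k x).trans ?_
    rw [pow_orderOf_eq_one, rho_one]
    show ((k : AddMonoid.End U) _ : V) = ((k : AddMonoid.End U) x : V)
    congr 2
    exact Subtype.ext (by
      show ρ (h⁻¹ ^ orderOf h) (x : V) = x
      rw [inv_pow, pow_orderOf_eq_one, inv_one, rho_one]))
  set d := Module.finrank (ZMod 2) K with hd
  have hεd : ε ∣ d := by
    rw [hd, ← IsGalois.card_aut_eq_finrank]
    exact _root_.orderOf_dvd_natCard φA
  have hKcard : Nat.card K = 2 ^ d := by
    rw [Module.natCard_eq_pow_finrank (K := ZMod 2), Nat.card_zmod]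
  have hd0 : 0 < d := Module.finrank_pos
  have hεle : ε ≤ d := Nat.le_of_dvd hd0 hεd
  -- elements below `e` commute with `h ^ ε`
  have hbelow : ∀ a ∈ alg ρ Z, Commute (a * e) (ρ (h ^ ε)) := by
    intro a ha
    refine AddMonoidHom.ext fun x => ?_
    show a (e (ρ (h ^ ε) x)) = ρ (h ^ ε) (a (e x))
    have h1 : e (ρ (h ^ ε) x) = ρ (h ^ ε) (e x) := by
      have := (heh.pow_right ε).eq
      rw [← map_pow] at this
      exact congrArg (fun p : AddMonoid.End V => p x) this
    rw [h1]
    have hxU : ρ (h ^ ε) (e x) ∈ U := by rw [← h1]; exact hUe _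
    let k0 : K := ⟨res ⟨a, ha⟩, ⟨a, ha⟩, rfl⟩
    have e1 : (φA ^ ε) k0 = k0 := by rw [hε, pow_orderOf_eq_one]; rfl
    have h2 := (congrArg (fun k : K => (((k : AddMonoid.End U) ⟨_, hxU⟩ : U) : V)) e1).symm.trans
      (hφpow ε k0 ⟨_, hxU⟩)
    refine h2.trans ?_
    congr 1
    show a (ρ (h⁻¹ ^ ε) (ρ (h ^ ε) (e x))) = a (e x)
    rw [inv_pow, rho_inv]
  have hT := hbelow _ (rho_mem_alg ρ Z hz)
  by_cases hε1 : h ^ ε = 1
  · -- the exceptional case: `|S₀| = 4`, a field of order eight
    exfalso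
    have hNε : orderOf h ∣ ε := orderOf_dvd_of_pow_eq_one hε1
    have hεpos : 0 < ε := orderOf_pos φA
    have h2n : d ≤ 2 * n := by
      have h1 : Nat.card K ≤ Nat.card U := by
        refine Nat.card_le_card_of_injective (fun k : K => (k : AddMonoid.End U) ⟨e x₀, hUe x₀⟩) fun k k' e' => ?_
        by_contra hne
        obtain ⟨a, ha⟩ := (k - k').2
        obtain ⟨b, hb⟩ := hinvK a fun h0 => hne (sub_eq_zero.1 (Subtype.ext (ha.symm.trans h0)))
        have h0 : res a ⟨e x₀, hUe x₀⟩ = 0 := by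
          rw [ha]
          show (k : AddMonoid.End U) _ - (k' : AddMonoid.End U) _ = 0
          exact sub_eq_zero.2 e'
        have h1 := congrArg (fun p : AddMonoid.End U => p ⟨e x₀, hUe x₀⟩) hb
        change res b (res a _) = _ at h1
        rw [h0, map_zero] at h1
        exact hx₀ (congrArg Subtype.val h1).symm
      have h2 := (h1.trans (Nat.card_le_card_of_injective (fun x : U => (x : V)) Subtype.val_injective)).trans B.card_V_le
      rw [hKcard, hn, ← pow_add, ← two_mul] at h2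
      exact (Nat.pow_le_pow_iff_right (by norm_num)).1 h2
    have hle : 2 ^ n - 1 ≤ 2 * n := by
      rw [← hN]; exact ((Nat.le_of_dvd hεpos hNε).trans hεle).trans h2n
    obtain rfl : n = 2 := by
      by_contra hne2
      obtain ⟨j, rfl⟩ : ∃ j, n = j + 3 := ⟨n - 3, by omega⟩
      have := Nat.lt_two_pow_self (n := j)
      have : 2 ^ (j + 3) = 8 * 2 ^ j := by rw [pow_add]; ring
      omega
    have hd3 : d = 3 := by
      have h3 : 3 ∣ d := by
        have := (hN ▸ hNε : 2 ^ 2 - 1 ∣ ε).trans hεd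
        simpa using this
      obtain ⟨c, hc⟩ := h3
      omega
    -- the sizes
    let f : S0 × R → V := fun p => p.1 + p.2
    have hf : Function.Bijective f := by
      refine ⟨fun p p' e' => ?_, fun x => ?_⟩
      · obtain ⟨e1, e2⟩ := B.eq_of_decomp p.1.2 p'.1.2 p.2.2 p'.2.2 e'
        exact Prod.ext (Subtype.ext e1) (Subtype.ext e2)
      · obtain ⟨s, hs, r, hr, rfl⟩ := B.decomp x
        exact ⟨(⟨s, hs⟩, ⟨r, hr⟩), rfl⟩
    have hVcard : Nat.card V = 4 * Nat.card R := by
      rw [← Nat.card_congr (Equiv.ofBijective f hf), Nat.card_prod, hn]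
      rfl
    let W : AddSubgroup V := AddMonoidHom.ker (e : V →+ V)
    let g : U × W → V := fun p => p.1 + p.2
    have hg : Function.Bijective g := by
      have hw0 : ∀ w : W, e (w : V) = 0 := fun w => w.2
      refine ⟨fun p p' e' => ?_, fun x => ?_⟩
      · have h1 := congrArg e e'
        simp only [g, map_add, hw0, add_zero] at h1
        rw [p.1.2, p'.1.2] at h1
        exact Prod.ext (Subtype.ext h1) (Subtype.ext (by simpa [g, h1] using e'))
      · refine ⟨(⟨e x, hUe x⟩, ⟨x - e x, ?_⟩), ?_⟩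
        · show e (x - e x) = 0
          rw [map_sub, hUe x, sub_self]
        · simp [g]
    have hUW : Nat.card V = Nat.card U * Nat.card W := by
      rw [← Nat.card_congr (Equiv.ofBijective g hg), Nat.card_prod]
    -- the orbit map of a non-zero vector of `U`
    have horb : ∀ v : U, v ≠ 0 → Function.Injective (fun k : K => (k : AddMonoid.End U) v) := by
      intro v hv k k' e'
      by_contra hne
      obtain ⟨a, ha⟩ := (k - k').2
      obtain ⟨b, hb⟩ := hinvK a fun h0 => hne (sub_eq_zero.1 (Subtype.ext (ha.symm.trans h0)))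
      have h0 : res a v = 0 := by
        rw [ha]
        exact sub_eq_zero.2 e'
      have h1 := congrArg (fun p : AddMonoid.End U => p v) hb
      change res b (res a v) = v at h1
      rw [h0, map_zero] at h1
      exact hv h1.symm
    set u0 : U := ⟨e x₀, hUe x₀⟩
    have hu0 : u0 ≠ 0 := fun h0 => hx₀ (congrArg Subtype.val h0)
    have hU8 : 8 ≤ Nat.card U := by
      have := Nat.card_le_card_of_injective _ (horb u0 hu0)
      rwa [hKcard, hd3] at this
    have hR4 : Nat.card R ∈ ({1, 2, 4} : Set ℕ) := by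
      have h1 : Nat.card R ∣ Nat.card V := ⟨4, by rw [hVcard, mul_comm]⟩
      have h2 : Nat.card R ≤ 4 := by have := B.small; rw [hn] at this; exact this
      have h3 : Nat.card R ≠ 3 := by
        intro h3
        have hp : IsPGroup 2 (Multiplicative R) := fun x => ⟨1, by
          apply Multiplicative.toAdd.injective
          rw [pow_one, pow_two, toAdd_mul, toAdd_one]
          exact Subtype.ext (B.two _)⟩
        obtain ⟨j, hj⟩ := IsPGroup.iff_card.1 hp
        rw [Nat.card_congr Multiplicative.toAdd, h3] at hj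
        rcases j with _ | _ | j
        · simp at hj
        · simp at hj
        · rw [pow_succ, pow_succ] at hj; omega
      have h4 := Nat.card_pos (α := R)
      simp only [Set.mem_insert_iff, Set.mem_singleton_iff]
      omega
    have hW1 : 1 ≤ Nat.card W := Nat.card_pos
    simp only [Set.mem_insert_iff, Set.mem_singleton_iff] at hR4
    rcases hR4 with hR | hR | hR
    · rw [hR, hUW] at hVcard
      have : 8 * 1 ≤ Nat.card U * Nat.card W := Nat.mul_le_mul hU8 hW1
      omega
    · exact hexc ⟨hn, hR⟩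
    rw [hR, hUW] at hVcard
    have hU : Nat.card U = 8 := by
      by_contra hU8'
      have hsurj : ¬ Function.Surjective (fun k : K => (k : AddMonoid.End U) u0) := fun hs => by
        have := Nat.card_le_card_of_surjective _ hs
        rw [hKcard, hd3] at this
        omega
      rw [Function.Surjective] at hsurj
      push Not at hsurj
      obtain ⟨w, hw⟩ := hsurj
      have hinj : Function.Injective
          (fun p : K × K => (p.1 : AddMonoid.End U) u0 + (p.2 : AddMonoid.End U) w) := by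
        rintro ⟨a, b⟩ ⟨a', b'⟩ e'
        have e'' : ((a - a' : K) : AddMonoid.End U) u0 + ((b - b' : K) : AddMonoid.End U) w = 0 := by
          show ((a : AddMonoid.End U) u0 - (a' : AddMonoid.End U) u0) +
            ((b : AddMonoid.End U) w - (b' : AddMonoid.End U) w) = 0
          rw [sub_add_sub_comm]
          exact sub_eq_zero.2 e'
        by_cases hb : b - b' = 0
        · rw [hb] at e''
          have ha : a - a' = 0 := horb u0 hu0 (by
            show ((a - a' : K) : AddMonoid.End U) u0 = ((0 : K) : AddMonoid.End U) u0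
            simpa using e'')
          exact Prod.ext (sub_eq_zero.1 ha) (sub_eq_zero.1 hb)
        · exfalso
          refine hw ((b - b')⁻¹ * -(a - a')) ?_
          show (((b - b')⁻¹ : K) : AddMonoid.End U) (((-(a - a') : K) : AddMonoid.End U) u0) = w
          have e3 : ((-(a - a') : K) : AddMonoid.End U) u0 = ((b - b' : K) : AddMonoid.End U) w := by
            show -(((a - a' : K) : AddMonoid.End U) u0) = _
            exact neg_eq_of_add_eq_zero_right e''
          rw [e3]
          show (((b - b')⁻¹ * (b - b') : K) : AddMonoid.End U) w = w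
          rw [inv_mul_cancel₀ hb]
          rfl
      have := Nat.card_le_card_of_injective _ hinj
      rw [Nat.card_prod, hKcard, hd3] at this
      have h1 : Nat.card U ≤ Nat.card U * Nat.card W := Nat.le_mul_of_pos_right _ Nat.card_pos
      omega
    have hW2 : Nat.card W = 2 := by rw [hU] at hVcard; omega
    obtain ⟨⟨w, hw⟩, hw0⟩ : ∃ w : W, w ≠ 0 := by
      haveI : Nontrivial W := Finite.one_lt_card_iff_nontrivial.1 (by omega)
      exact exists_ne 0
    have hw0' : w ≠ 0 := fun h0 => hw0 (Subtype.ext h0)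
    have honly : ∀ y ∈ W, y ≠ 0 → y = w := by
      intro y hy hy0
      obtain ⟨p, -, -, hall⟩ := Nat.card_eq_two_iff' (0 : W) |>.1 hW2 |>.exists.elim fun p hp =>
        (⟨p, hp, trivial, fun r hr => ((Nat.card_eq_two_iff' (0 : W)).1 hW2).unique hr hp⟩ :
          ∃ p : W, p ≠ 0 ∧ True ∧ ∀ r : W, r ≠ 0 → r = p)
      exact congrArg Subtype.val ((hall ⟨y, hy⟩ fun h0 => hy0 (congrArg Subtype.val h0)).trans
        (hall ⟨w, hw⟩ hw0).symm)
    have hwfix : ∀ y ∈ Z, ρ y w = w := fun y hy => by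
      refine honly _ ?_ fun h0 => hw0' (rho_injective ρ y (h0.trans (map_zero _).symm))
      show e (ρ y w) = 0
      have := congrArg (fun p : AddMonoid.End V => p w) (alg_commute hc he.mem (rho_mem_alg ρ Z hy)).eq
      exact this.trans ((congrArg (ρ y) (hw : e w = 0)).trans (map_zero _))
    obtain ⟨z', hz', hz'ne⟩ : ∃ y ∈ Z, ∃ x : U, ρ y (x : V) ≠ x := by
      by_contra hall
      push Not at hall
      have hbound : ∀ a : alg ρ Z, res a = 0 ∨ res a = 1 := by
        rintro ⟨a, ha⟩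
        induction ha using Subring.closure_induction with
        | mem a ha =>
          obtain ⟨y, hy, rfl⟩ := ha
          exact Or.inr (AddMonoidHom.ext fun x => Subtype.ext (hall y hy x))
        | zero => exact Or.inl rfl
        | one => exact Or.inr rfl
        | add a b ha hb ea eb =>
          rw [show (⟨a + b, add_mem ha hb⟩ : alg ρ Z) = ⟨a, ha⟩ + ⟨b, hb⟩ from rfl, map_add]
          rcases ea with ea | ea <;> rcases eb with eb | eb <;> rw [ea, eb]
          · exact Or.inl (add_zero 0)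
          · exact Or.inr (zero_add _)
          · exact Or.inr (add_zero _)
          · exact Or.inl (end_two (fun x => Subtype.ext (B.two x)) 1)
        | neg a ha ea =>
          have : (⟨-a, neg_mem ha⟩ : alg ρ Z) = ⟨a, ha⟩ := Subtype.ext (neg_eq_of_add_eq_zero_left (end_two B.two a))
          rwa [this]
        | mul a b ha hb ea eb =>
          rw [show (⟨a * b, mul_mem ha hb⟩ : alg ρ Z) = ⟨a, ha⟩ * ⟨b, hb⟩ from rfl, map_mul]
          rcases ea with ea | ea <;> rw [ea]
          · exact Or.inl (zero_mul _)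
          · rwa [one_mul]
      have : Nat.card K ≤ Nat.card Bool := Nat.card_le_card_of_surjective (fun b : Bool => if b then (1 : K) else 0) fun k => by
        obtain ⟨a, ha⟩ := k.2
        rcases hbound a with h' | h'
        · exact ⟨false, Subtype.ext (h'.symm.trans ha)⟩
        · exact ⟨true, Subtype.ext (h'.symm.trans ha)⟩
      rw [hKcard, hd3, Nat.card_eq_fintype_card, Fintype.card_bool] at this
      omega
    have hFU : ∀ x : U, ρ z' (x : V) = x → x = 0 := by
      intro x hx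
      by_contra hx0
      obtain ⟨y, hy⟩ := hz'ne
      refine hy ?_
      let kz : K := ⟨res ⟨ρ z', rho_mem_alg ρ Z hz'⟩, _, rfl⟩
      have hk : kz = 1 := horb x hx0 (Subtype.ext hx)
      exact congrArg (fun p : K => (((p : AddMonoid.End U) y : U) : V)) hk
    refine hw0' (hcent w fun a => honly _ ?_ fun h0 => hw0' (rho_injective ρ a (h0.trans (map_zero _).symm)))
    show e (ρ a w) = 0
    have hfix : ρ z' (ρ a w) = ρ a w := by
      have hmem : a⁻¹ * z' * a ∈ Z := by simpa using hZ.conj_mem z' hz' a⁻¹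
      calc ρ z' (ρ a w) = ρ (a * (a⁻¹ * z' * a)) w := by
            rw [← rho_mul]; congr 2; group
        _ = ρ a w := by rw [rho_mul, hwfix _ hmem]
    have h3 := congrArg (fun p : AddMonoid.End V => p (ρ a w)) (alg_commute hc he.mem (rho_mem_alg ρ Z hz')).eq
    change e (ρ z' (ρ a w)) = ρ z' (e (ρ a w)) at h3
    rw [hfix] at h3
    exact congrArg Subtype.val (hFU ⟨e (ρ a w), hUe _⟩ h3.symm)
  -- the generic case
  by_cases hzero : ∀ s ∈ S0, e s = 0
  · refine AddMonoidHom.ext fun x => ?_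
    obtain ⟨s, hs, r, hr, rfl⟩ := B.decomp x
    show ρ z (e (ρ h (s + r))) = ρ h (ρ z (e (s + r)))
    rw [map_add, B.fix r hr, map_add e, hzero _ (B.stable s hs), map_add e, hzero s hs, zero_add]
    exact (B.fix _ (B.map_R hε1 hT hr)).symm
  push Not at hzero
  obtain ⟨s, hs, hes⟩ := hzero
  have hemem : e s ∈ S0 := B.map_S0 hh1 (by rw [pow_one]; exact heh) hs
  have hdn : d ≤ n := by
    have h1 : Nat.card K ≤ Nat.card S0 := by
      refine Nat.card_le_card_of_injective (fun k : K => (⟨((k : AddMonoid.End U) ⟨e s, hUe s⟩ : V), ?_⟩ : S0))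
        fun k k' e' => ?_
      · obtain ⟨a, ha⟩ := k.2
        rw [← ha]
        show (a : AddMonoid.End V) (e s) ∈ S0
        exact B.map_S0 hε1 (hbelow a a.2) hs
      · by_contra hne
        obtain ⟨a, ha⟩ := (k - k').2
        obtain ⟨b, hb⟩ := hinvK a fun h0 => hne (sub_eq_zero.1 (Subtype.ext (ha.symm.trans h0)))
        have h0 : res a ⟨e s, hUe s⟩ = 0 := by
          rw [ha]
          refine sub_eq_zero.2 (Subtype.ext ?_)
          exact congrArg (fun p : S0 => (p : V)) e'
        have h1 := congrArg (fun p : AddMonoid.End U => p ⟨e s, hUe s⟩) hb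
        change res b (res a _) = _ at h1
        rw [h0, map_zero] at h1
        exact hes (congrArg Subtype.val h1).symm
    rw [hKcard, hn] at h1
    exact (Nat.pow_le_pow_iff_right (by norm_num)).1 h1
  exact B.commute_of_pow hn hn2 (hεle.trans hdn) hεN hT

/-- **A normal subgroup of prime exponent with commutative image is centralised by `h`.** -/
theorem normal_commute {Z : Subgroup A} (hZ : Z.Normal) {q : ℕ} (hq : q.Prime) (hq2 : q ≠ 2)
    (hzq : ∀ z ∈ Z, z ^ q = 1) (hc : ∀ a ∈ Z, ∀ b ∈ Z, Commute (ρ a) (ρ b))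
    (hcent : ∀ v : V, (∀ a : A, ρ a v = v) → v = 0) (hexc : ¬ (Nat.card S0 = 4 ∧ Nat.card R = 2))
    {z : A} (hz : z ∈ Z) : Commute (ρ z) (ρ h) := by
  classical
  suffices H : ∀ (m : ℕ) (f : AddMonoid.End V), f ∈ alg ρ Z → f * f = f → Nat.card {x : V // f x = x} ≤ m →
      Commute (ρ z * f) (ρ h) by
    have h1 := H _ 1 (one_mem _) (one_mul 1) le_rfl
    rwa [mul_one] at h1
  intro m
  induction m with
  | zero =>
    intro f _ _ hm
    haveI : Nonempty {x : V // f x = x} := ⟨⟨0, map_zero f⟩⟩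
    have := Nat.card_pos (α := {x : V // f x = x})
    omega
  | succ m ih =>
    intro f hf hff hm
    by_cases hf0 : f = 0
    · rw [hf0, mul_zero]; exact Commute.zero_left _
    by_cases hatm : ∀ g ∈ alg ρ Z, g * g = g → f * g = 0 ∨ f * g = f
    · exact B.atm_field hZ hq hq2 hzq hc hcent hexc ⟨hf, hff, hf0, hatm⟩ hz
    push Not at hatm
    obtain ⟨g, hg, hgg, hfg0, hfgf⟩ := hatm
    have key : ∀ g' ∈ alg ρ Z, g' * g' = g' → f * g' ≠ f → Commute (ρ z * (f * g')) (ρ h) := by
      intro g' hg' hgg' hne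
      have hcm := alg_commute hc hf hg'
      refine ih _ (mul_mem hf hg') (by rw [mul_assoc, ← mul_assoc g' f, ← hcm.eq, mul_assoc f g' g', hgg', ← mul_assoc, hff]) ?_
      have hsub : ∀ x, (f * g') x = x → f x = x := fun x hx => by
        have h1 : f (g' x) = x := hx
        conv_lhs => rw [← h1]
        exact (congrArg (fun p : AddMonoid.End V => p (g' x)) hff).trans h1
      let ι : {x : V // (f * g') x = x} → {x : V // f x = x} := fun x => ⟨x, hsub x x.2⟩
      have hι : Function.Injective ι := fun a b e' => Subtype.ext (congrArg (fun p : {x : V // f x = x} => (p : V)) e')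
      by_contra hlt
      have hbij := (Nat.bijective_iff_injective_and_card ι).2 ⟨hι, le_antisymm
        (Nat.card_le_card_of_injective ι hι) (by omega)⟩
      refine hne (AddMonoidHom.ext fun x => ?_)
      obtain ⟨⟨y, hy⟩, hy'⟩ := hbij.2 ⟨f x, congrArg (fun p : AddMonoid.End V => p x) hff⟩
      have hyx : y = f x := congrArg (fun p : {x : V // f x = x} => (p : V)) hy'
      calc (f * g') x = (f * g') (f x) := by
            show f (g' x) = f (g' (f x))
            have h1 := congrArg (fun p : AddMonoid.End V => p x) hcm.eq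
            change f (g' x) = g' (f x) at h1
            rw [← h1]
            exact (congrArg (fun p : AddMonoid.End V => p (g' x)) hff).symm
        _ = f x := by rw [← hyx]; exact hy
    have h1 := key g hg hgg hfgf
    have h2 := key (1 + g) (add_mem (one_mem _) hg)
      (by rw [mul_add, mul_one, add_mul, one_mul, hgg, add_assoc, end_two B.two, add_zero]) (fun e' => hfg0 (by
        rw [mul_add, mul_one] at e'
        exact add_eq_left.1 e'))
    have h3 := h1.add_left h2
    rwa [← mul_add, ← mul_add, add_comm g, add_assoc, end_two B.two, add_zero, mul_one] at h3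

end Blk

end Cfsg.Agent.Walter
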