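import Cfsg.Agent.Lib.Walter.Rigid

/-!
# Systems of blocks

An irreducible group `A` of odd order on the elementary abelian 2-group `V` and a relation `Mem x S R` ("`x` lies under a
block `(S, R)`"). Either there is no block, or there is a largest block with `|S| = 4`, `|R| = 2`, or the translates of a
largest block decompose `V` into at least three summands. In the last case every block fixes the coordinates of the
vectors under it.
-/

set_option autoImplicit false
set_option linter.style.haveILetI false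
set_option linter.unusedSectionVars false

namespace Cfsg.Agent.Walter

universe v w

variable {V : Type v} [AddCommGroup V] {A : Type w} [Group A]

/-- The translate of a subgroup. -/
def tr (ρ : A →* AddMonoid.End V) (a : A) (U : AddSubgroup V) : AddSubgroup V := U.map (ρ a : V →+ V)

section Translate

variable (ρ : A →* AddMonoid.End V)

theorem mem_tr {a : A} {U : AddSubgroup V} {v : V} : v ∈ tr ρ a U ↔ ρ a⁻¹ v ∈ U :=
  ⟨fun ⟨u, hu, e⟩ => by rw [← e]; exact (rho_inv ρ a u).symm ▸ hu, fun h => ⟨_, h, rho_inv' ρ a v⟩⟩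

theorem apply_mem_tr {a : A} {U : AddSubgroup V} {v : V} (h : v ∈ U) : ρ a v ∈ tr ρ a U := ⟨v, h, rfl⟩

theorem tr_tr (a b : A) (U : AddSubgroup V) : tr ρ a (tr ρ b U) = tr ρ (a * b) U := by
  ext v
  rw [mem_tr, mem_tr, mem_tr, ← rho_mul, mul_inv_rev]

theorem tr_one (U : AddSubgroup V) : tr ρ 1 U = U := by
  ext v
  rw [mem_tr, inv_one, rho_one]

theorem tr_injective (a : A) : Function.Injective (tr ρ a) := fun U W e => by
  have h := congrArg (tr ρ a⁻¹) e
  rwa [tr_tr, tr_tr, inv_mul_cancel, tr_one, tr_one] at h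

theorem card_tr (a : A) (U : AddSubgroup V) : Nat.card (tr ρ a U) = Nat.card U :=
  (Nat.card_congr (AddSubgroup.equivMapOfInjective U (ρ a : V →+ V) (rho_injective ρ a)).toEquiv).symm

/-- The elements preserving a subgroup. -/
def trStab (U : AddSubgroup V) : Subgroup A where
  carrier := {a | tr ρ a U = U}
  one_mem' := tr_one ρ U
  mul_mem' := fun {a b} ha hb => by
    show tr ρ (a * b) U = U
    rw [← tr_tr, hb, ha]
  inv_mem' := fun {a} ha => by
    show tr ρ a⁻¹ U = U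
    conv_lhs => rw [← ha]
    rw [tr_tr, inv_mul_cancel, tr_one]

end Translate

/-- The axioms of a system of blocks. -/
structure BlockSys (ρ : A →* AddMonoid.End V) (Mem : V → AddSubgroup V → AddSubgroup V → Prop) : Prop where
  ne_zero : ∀ {x : V} {S R : AddSubgroup V}, Mem x S R → x ≠ 0
  mem : ∀ {x : V} {S R : AddSubgroup V}, Mem x S R → x ∈ R
  sing : ∀ {x : V} {S R : AddSubgroup V}, Mem x S R → ∃ h, Sing ρ h S R
  smul : ∀ {x : V} {S R : AddSubgroup V}, Mem x S R → ∀ a : A, Mem (ρ a x) (tr ρ a S) (tr ρ a R)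
  orth : ∀ {x : V} {S R S' R' : AddSubgroup V}, Mem x S R → Mem x S' R' → (S = S' ∧ R = R') ∨ (S ≤ R' ∧ S' ≤ R)
  lift : ∀ {x : V} {S R : AddSubgroup V}, Mem x S R → ∀ r ∈ R, r ≠ 0 → ∃ S' R', Mem r S' R' ∧ S ≤ S' ∧ R' ≤ R
  irr : ∀ U : AddSubgroup V, (∀ a : A, ∀ u ∈ U, ρ a u ∈ U) → U = ⊥ ∨ U = ⊤

/-- The translates of `(S, R)` decompose `V` into at least three summands, each a block under the vectors that have
coordinate zero in it. -/
structure BlockConf (ρ : A →* AddMonoid.End V) (Mem : V → AddSubgroup V → AddSubgroup V → Prop)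
    (S R : AddSubgroup V) : Prop where
  sing : ∃ h, Sing ρ h S R
  top : ∀ (y : V) (S' R' : AddSubgroup V), Mem y S' R' → Nat.card S' ≤ Nat.card S
  mem : ∀ (a : A), ∀ w ∈ tr ρ a R, w ≠ 0 → Mem w (tr ρ a S) (tr ρ a R)
  pair : ∀ a b : A, (tr ρ a S = tr ρ b S ∧ tr ρ a R = tr ρ b R) ∨ tr ρ a S ≤ tr ρ b R
  span : ⨆ a : A, tr ρ a S = ⊤
  meet : ⨅ a : A, tr ρ a R = ⊥
  moved : ∃ a : A, tr ρ a S ≠ S
  third : ∀ a b : A, tr ρ a S ≠ tr ρ b S → ∃ c, tr ρ c S ≠ tr ρ a S ∧ tr ρ c S ≠ tr ρ b S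

variable [Finite V] [Finite A] {ρ : A →* AddMonoid.End V} {Mem : V → AddSubgroup V → AddSubgroup V → Prop}

namespace Sing

variable {h : A} {S R : AddSubgroup V} (B : Sing ρ h S R)
include B

theorem card_eq : Nat.card V = Nat.card S * Nat.card R := by
  rw [← Nat.card_prod]
  refine (Nat.card_eq_of_bijective (fun p : S × R => (p.1 : V) + p.2) ⟨?_, ?_⟩).symm
  · rintro ⟨⟨s, hs⟩, r, hr⟩ ⟨⟨s', hs'⟩, r', hr'⟩ e
    obtain ⟨e1, e2⟩ := B.eq_of_decomp hs hs' hr hr' e
    exact Prod.ext (Subtype.ext e1) (Subtype.ext e2)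
  · intro x
    obtain ⟨s, hs, r, hr, rfl⟩ := B.decomp x
    exact ⟨(⟨s, hs⟩, ⟨r, hr⟩), rfl⟩

theorem ne_bot : S ≠ ⊥ := by
  intro e
  have := B.big
  rw [e, AddSubgroup.card_bot] at this
  omega

theorem not_le : ¬ S ≤ R := fun hle => B.ne_bot (le_bot_iff.1 (B.disj ▸ le_inf le_rfl hle))

theorem ne_one : h ^ 1 ≠ 1 := by
  rw [pow_one]
  intro e
  have h1 := B.ord
  have := B.big
  rw [e, orderOf_one] at h1
  omega

end Sing

namespace BlockSys

variable (B : BlockSys ρ Mem)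
include B

/-- A largest block lies under every non-zero vector of its fixed part. -/
theorem pump {x : V} {S R : AddSubgroup V} (hM : Mem x S R)
    (htop : ∀ (y : V) (S' R' : AddSubgroup V), Mem y S' R' → Nat.card S' ≤ Nat.card S) {r : V} (hr : r ∈ R)
    (hr0 : r ≠ 0) : Mem r S R := by
  obtain ⟨S2, R2, hM2, h1, h2⟩ := B.lift hM r hr hr0
  obtain ⟨h, hS⟩ := B.sing hM
  obtain ⟨h', hS'⟩ := B.sing hM2
  have e1 : S = S2 := AddSubgroup.eq_of_le_of_card_ge h1 (htop _ _ _ hM2)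
  have e2 : R2 = R := by
    refine AddSubgroup.eq_of_le_of_card_ge h2 (le_of_eq (Nat.eq_of_mul_eq_mul_left (Nat.card_pos (α := S)) ?_))
    rw [← hS.card_eq]
    subst e1
    exact hS'.card_eq
  subst e1 e2
  exact hM2

/-- **The three outcomes.** -/
theorem cases : (∀ x S R, ¬ Mem x S R) ∨
    (∃ (x : V) (S R : AddSubgroup V), Mem x S R ∧
      (∀ (y : V) (S' R' : AddSubgroup V), Mem y S' R' → Nat.card S' ≤ Nat.card S) ∧
      Nat.card S = 4 ∧ Nat.card R = 2) ∨
    ∃ S R, BlockConf ρ Mem S R := by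
  classical
  by_cases hnone : ∀ x S R, ¬ Mem x S R
  · exact Or.inl hnone
  refine Or.inr ?_
  push Not at hnone
  obtain ⟨x0, S0, R0, h0⟩ := hnone
  haveI : Nonempty {p : V × AddSubgroup V × AddSubgroup V // Mem p.1 p.2.1 p.2.2} := ⟨⟨(x0, S0, R0), h0⟩⟩
  obtain ⟨⟨⟨x, S, R⟩, hM⟩, hmax⟩ := Finite.exists_max
    fun p : {p : V × AddSubgroup V × AddSubgroup V // Mem p.1 p.2.1 p.2.2} => Nat.card p.1.2.1
  change Mem x S R at hM
  have htop : ∀ (y : V) (S' R' : AddSubgroup V), Mem y S' R' → Nat.card S' ≤ Nat.card S :=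
    fun y S' R' hy => hmax ⟨(y, S', R'), hy⟩
  obtain ⟨h, hS⟩ := B.sing hM
  have hx0 := B.ne_zero hM
  have hxR := B.mem hM
  have hRbot : R ≠ ⊥ := fun e => hx0 (by rw [e] at hxR; exact hxR)
  have hmem : ∀ (a : A), ∀ w ∈ tr ρ a R, w ≠ 0 → Mem w (tr ρ a S) (tr ρ a R) := by
    rintro a _ ⟨r, hr, rfl⟩ hw
    exact B.smul (B.pump hM htop hr fun e => hw (by rw [e]; exact map_zero _)) a
  have hcent : ∀ v : V, (∀ a : A, ρ a v = v) → v = 0 := by
    intro v hv
    let U : AddSubgroup V :=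
      { carrier := {u | ∀ a : A, ρ a u = u}
        zero_mem' := fun a => map_zero _
        add_mem' := fun {u u'} hu hu' a => by rw [map_add, hu, hu']
        neg_mem' := fun {u} hu a => by rw [map_neg, hu] }
    rcases B.irr U fun a u hu => by rw [hu a]; exact hu with e | e
    · have : v ∈ U := hv
      rw [e] at this
      exact this
    · refine absurd (B.sing hM).choose_spec.ne_one fun hne => hne ?_
      refine (B.sing hM).choose_spec.inj (AddMonoidHom.ext fun u => ?_)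
      have : u ∈ U := e ▸ AddSubgroup.mem_top u
      exact (this _).trans (rho_one ρ u).symm
  by_cases hsmall : Nat.card R ≤ Nat.card S
  · refine Or.inl ⟨x, S, R, hM, htop, ?_⟩
    by_contra hexc
    have Bk : Blk ρ h S R := { toSing := hS, small := hsmall }
    have hTI : ∀ a : A, ∀ r ∈ R, r ≠ 0 → ρ a r ∈ R → Keeps ρ S R a := by
      intro a r hr hr0 har
      have har0 : ρ a r ≠ 0 := fun e => hr0 (rho_injective ρ a (e.trans (map_zero _).symm))
      rcases B.orth (B.pump hM htop har har0) (hmem a _ (apply_mem_tr ρ hr) har0) with ⟨eS, eR⟩ | ⟨h1, h2⟩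
      · exact ⟨fun r' hr' => eR ▸ apply_mem_tr ρ hr', fun s hs => eS ▸ apply_mem_tr ρ hs⟩
      exfalso
      have e1 : S = tr ρ a R := AddSubgroup.eq_of_le_of_card_ge h1 (by rw [card_tr]; exact hsmall)
      have e2 : tr ρ a S = R := AddSubgroup.eq_of_le_of_card_ge h2 (by rw [card_tr]; exact hsmall)
      have ha : a ∈ trStab ρ S := mem_of_sq_mem hS.odd (K := trStab ρ S) (show tr ρ (a * a) S = S by
        rw [← tr_tr, e2, ← e1])
      exact hS.not_le ((show tr ρ a S = S from ha).symm.trans e2).le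
    have hkeep := Bk.rigid hRbot hTI hcent hexc
    rcases B.irr S (fun a => (hkeep a).2) with e | e
    · exact hS.ne_bot e
    · refine hRbot (le_bot_iff.1 ?_)
      rw [← hS.disj, e, top_inf_eq]
  refine Or.inr ⟨S, R, ?_⟩
  have hmeet : ∀ a b : A, ∃ w, w ≠ 0 ∧ w ∈ tr ρ a R ∧ w ∈ tr ρ b R := by
    intro a b
    by_contra hno
    push Not at hno
    have hinj : Function.Injective fun p : R × R => ρ a (p.1 : V) - ρ b (p.2 : V) := by
      rintro ⟨⟨r, hr⟩, r', hr'⟩ ⟨⟨u, hu⟩, u', hu'⟩ e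
      have e' : ρ a (r - u) = ρ b (r' - u') := by
        rw [map_sub, map_sub, sub_eq_sub_iff_sub_eq_sub]
        exact e
      have hz : ρ a (r - u) = 0 := by
        by_contra hne
        exact hno _ hne (apply_mem_tr ρ (sub_mem hr hu)) (e' ▸ apply_mem_tr ρ (sub_mem hr' hu'))
      have h1 : r = u := sub_eq_zero.1 (rho_injective ρ a (hz.trans (map_zero _).symm))
      have h2 : r' = u' := sub_eq_zero.1 (rho_injective ρ b ((e'.symm.trans hz).trans (map_zero _).symm))
      exact Prod.ext (Subtype.ext h1) (Subtype.ext h2)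
    have h1 := Nat.card_le_card_of_injective _ hinj
    rw [Nat.card_prod, hS.card_eq] at h1
    exact hsmall (Nat.le_of_mul_le_mul_right h1 Nat.card_pos)
  have hpair : ∀ a b : A, (tr ρ a S = tr ρ b S ∧ tr ρ a R = tr ρ b R) ∨ tr ρ a S ≤ tr ρ b R := by
    intro a b
    obtain ⟨w, hw, hwa, hwb⟩ := hmeet a b
    exact (B.orth (hmem a w hwa hw) (hmem b w hwb hw)).imp id And.left
  refine ⟨⟨h, hS⟩, htop, hmem, hpair, ?_, ?_, ?_, ?_⟩
  · have hle : S ≤ ⨆ a : A, tr ρ a S := le_iSup_of_le 1 (tr_one ρ S).ge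
    refine (B.irr _ fun g u hu => ?_).resolve_left fun e => hS.ne_bot (le_bot_iff.1 (e ▸ hle))
    refine (iSup_le fun a v hv => ?_ : (⨆ a : A, tr ρ a S) ≤
      AddSubgroup.comap (ρ g : V →+ V) (⨆ a : A, tr ρ a S)) hu
    exact AddSubgroup.mem_iSup_of_mem (g * a) (tr_tr ρ g a S ▸ apply_mem_tr ρ hv)
  · refine (B.irr _ fun g u hu => ?_).resolve_right fun e => ?_
    · refine AddSubgroup.mem_iInf.2 fun a => ?_
      have h1 := (mem_tr ρ).1 (AddSubgroup.mem_iInf.1 hu (g⁻¹ * a))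
      rw [mul_inv_rev, inv_inv, rho_mul] at h1
      exact (mem_tr ρ).2 h1
    · have h1 : (⊤ : AddSubgroup V) ≤ R := e ▸ (iInf_le _ 1).trans (tr_one ρ R).le
      exact hS.not_le (le_trans le_top h1)
  · by_contra hall
    push Not at hall
    rcases B.irr S (fun a u hu => by have h1 := apply_mem_tr ρ (a := a) hu; rwa [hall a] at h1) with e | e
    · exact hS.ne_bot e
    · exact hRbot (le_bot_iff.1 (hS.disj ▸ e ▸ (top_inf_eq R).ge))
  · intro a b hab
    by_contra hno
    push Not at hno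
    set g := b * a⁻¹ with hg
    have hga : tr ρ g (tr ρ a S) = tr ρ b S := by rw [tr_tr, hg, inv_mul_cancel_right]
    have hgb : tr ρ g (tr ρ b S) = tr ρ a S := by
      by_contra hne
      have h1 : tr ρ g (tr ρ b S) = tr ρ b S := by
        rw [tr_tr] at hne ⊢
        exact hno _ hne
      exact hab (tr_injective ρ g (hga.trans h1.symm))
    have h1 : g ∈ trStab ρ (tr ρ a S) := mem_of_sq_mem hS.odd (K := trStab ρ _) (show tr ρ (g * g) (tr ρ a S) = _ by
      rw [← tr_tr, hga, hgb])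
    exact hab (((show tr ρ g (tr ρ a S) = tr ρ a S from h1).symm).trans hga)

end BlockSys

/-- `s` is the coordinate of `x` in the translate by `a`. -/
def IsCoord (ρ : A →* AddMonoid.End V) (S R : AddSubgroup V) (a : A) (x s : V) : Prop :=
  s ∈ tr ρ a S ∧ x - s ∈ tr ρ a R

namespace BlockConf

variable {S R : AddSubgroup V} (C : BlockConf ρ Mem S R)
include C

theorem tr_disj {a : A} {v : V} (h1 : v ∈ tr ρ a S) (h2 : v ∈ tr ρ a R) : v = 0 := by
  obtain ⟨h, hS⟩ := C.sing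
  exact rho_injective ρ a⁻¹ ((hS.eq_zero ((mem_tr ρ).1 h1) ((mem_tr ρ).1 h2)).trans (map_zero _).symm)

theorem pair_ne {a b : A} (hne : tr ρ a S ≠ tr ρ b S) : tr ρ a S ≤ tr ρ b R :=
  (C.pair a b).resolve_left fun h => hne h.1

theorem pair_eq {a b : A} (he : tr ρ a S = tr ρ b S) : tr ρ a R = tr ρ b R := by
  obtain ⟨h, hS⟩ := C.sing
  refine ((C.pair a b).resolve_right fun hle => hS.not_le ?_).2
  intro s hs
  have h1 := (mem_tr ρ).1 (hle (he.symm ▸ apply_mem_tr ρ (a := b) hs))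
  rwa [rho_inv] at h1

theorem exists_coord (a : A) (x : V) : ∃ s, IsCoord ρ S R a x s := by
  obtain ⟨h, hS⟩ := C.sing
  obtain ⟨s, hs, r, hr, e⟩ := hS.decomp (ρ a⁻¹ x)
  refine ⟨ρ a s, apply_mem_tr ρ hs, ?_⟩
  have : x - ρ a s = ρ a r := by
    rw [sub_eq_iff_eq_add', ← map_add, ← e, rho_inv']
  rw [this]
  exact apply_mem_tr ρ hr

theorem coord_unique {a b : A} (he : tr ρ a S = tr ρ b S) {x s s' : V} (h : IsCoord ρ S R a x s)
    (h' : IsCoord ρ S R b x s') : s = s' := by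
  refine sub_eq_zero.1 (C.tr_disj (a := b) (sub_mem (he ▸ h.1) h'.1) ?_)
  have h1 := sub_mem h'.2 (C.pair_eq he ▸ h.2)
  rwa [sub_sub_sub_cancel_left] at h1

/-- A non-zero vector has a non-zero coordinate. -/
theorem exists_coord_ne {x : V} (hx : x ≠ 0) : ∃ a s, IsCoord ρ S R a x s ∧ s ≠ 0 := by
  by_contra hno
  push Not at hno
  refine hx ?_
  have : x ∈ ⨅ a : A, tr ρ a R := AddSubgroup.mem_iInf.2 fun a => by
    obtain ⟨s, hs⟩ := C.exists_coord a x
    have h1 := hs.2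
    rwa [hno a s hs, sub_zero] at h1
  rw [C.meet] at this
  exact this

theorem coord_apply {a : A} {x s : V} (hs : IsCoord ρ S R a x s) (g : A) :
    IsCoord ρ S R (g * a) (ρ g x) (ρ g s) := by
  refine ⟨?_, ?_⟩
  · rw [← tr_tr]
    exact apply_mem_tr ρ hs.1
  · rw [← map_sub, ← tr_tr]
    exact apply_mem_tr ρ hs.2

/-- **Every block fixes the coordinates of the vectors under it.** -/
theorem coord_fixed {h' : A} {S' R' : AddSubgroup V} (hS' : Sing ρ h' S' R') {x : V} (hx : x ∈ R') {a : A} {s : V}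
    (hs : IsCoord ρ S R a x s) : s ∈ R' := by
  classical
  by_contra hsR
  obtain ⟨h, hS⟩ := C.sing
  have hs0 : s ≠ 0 := fun e => hsR (e ▸ zero_mem R')
  have hl : ∀ l : ℕ, IsCoord ρ S R (h' ^ l * a) x (ρ (h' ^ l) s) := fun l => by
    have h1 := C.coord_apply hs (h' ^ l)
    rwa [hS'.pow_fix l hx] at h1
  have hdist : ∀ l : ℕ, h' ^ l ≠ 1 → tr ρ (h' ^ l * a) S ≠ tr ρ a S := fun l hl1 he =>
    hsR ((hS'.fixed_iff hl1 s).1 (C.coord_unique he (hl l) hs))
  set N := orderOf h' with hN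
  have hN3 : 3 ≤ N := by have := hS'.ord; have := hS'.big; omega
  have hne : ∀ i j : ℕ, i < j → j < N → tr ρ (h' ^ i * a) S ≠ tr ρ (h' ^ j * a) S := by
    intro i j hij hjN he
    refine hdist (j - i) (pow_ne_one_of_lt_orderOf (by omega) (by omega)) ?_
    have h1 := congrArg (tr ρ (h' ^ i)⁻¹) he
    rw [tr_tr, tr_tr, ← mul_assoc, ← mul_assoc, inv_mul_cancel, one_mul] at h1
    rw [h1]
    congr 2
    rw [eq_inv_mul_iff_mul_eq, ← pow_add]
    congr 1
    omega
  let pt : Fin (N - 1) → A := fun j => h' ^ ((j : ℕ) + 1) * a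
  let f : (Fin (N - 1) → S) →+ V :=
    { toFun := fun u => ∑ j, ρ (pt j) (u j : V)
      map_zero' := Finset.sum_eq_zero fun j _ => map_zero _
      map_add' := fun u u' => by
        rw [← Finset.sum_add_distrib]
        exact Finset.sum_congr rfl fun j _ => map_add _ _ _ }
  have hker : ∀ u, f u ∈ R' → u = 0 := by
    intro u hu
    have h0 : IsCoord ρ S R a (f u) 0 := by
      refine ⟨zero_mem _, ?_⟩
      rw [sub_zero]
      show (∑ j, ρ (pt j) (u j : V)) ∈ _
      refine AddSubgroup.sum_mem _ fun j _ => C.pair_ne ?_ (apply_mem_tr ρ (u j).2)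
      have h1 := hne 0 ((j : ℕ) + 1) (by omega) (by have := j.2; omega)
      rw [pow_zero, one_mul] at h1
      exact h1.symm
    funext j
    have h1 : IsCoord ρ S R (pt j) (f u) (ρ (pt j) (u j : V)) := by
      refine ⟨apply_mem_tr ρ (u j).2, ?_⟩
      show (∑ i, ρ (pt i) (u i : V)) - _ ∈ _
      rw [← Finset.sum_erase_eq_sub (Finset.mem_univ j)]
      refine AddSubgroup.sum_mem _ fun i hi => C.pair_ne ?_ (apply_mem_tr ρ (u i).2)
      have hij : (i : ℕ) ≠ j := fun e => (Finset.mem_erase.1 hi).1 (Fin.ext e)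
      rcases lt_or_gt_of_ne hij with hlt | hlt
      · exact hne _ _ (by omega) (by have := j.2; omega)
      · exact (hne _ _ (by omega) (by have := i.2; omega)).symm
    have h2 := C.coord_apply h0 (h' ^ ((j : ℕ) + 1))
    rw [hS'.pow_fix _ hu, map_zero] at h2
    exact Subtype.ext (rho_injective ρ (pt j) ((C.coord_unique rfl h1 h2).trans (map_zero _).symm))
  choose σ hσ ω hω e using hS'.decomp
  have hinj : Function.Injective fun u => (⟨σ (f u), hσ (f u)⟩ : S') := by
    intro u u' he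
    refine sub_eq_zero.1 (hker _ ?_)
    rw [map_sub, e (f u), e (f u'), show σ (f u) = σ (f u') from congrArg Subtype.val he, add_sub_add_left_eq_sub]
    exact sub_mem (hω _) (hω _)
  have h1 := Nat.card_le_card_of_injective _ hinj
  rw [Nat.card_fun, Nat.card_fin, ← hS'.ord, ← hN] at h1
  have h2 : 4 ^ (N - 1) ≤ N + 1 := (Nat.pow_le_pow_left hS.big _).trans h1
  obtain ⟨m, hm⟩ : ∃ m, N = m + 3 := ⟨N - 3, by omega⟩
  rw [hm] at h2
  have h3 : m < 4 ^ m := Nat.lt_pow_self (by norm_num)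
  rw [show m + 3 - 1 = m + 2 by omega, pow_add] at h2
  omega

/-- **Every block lives in one translate.** -/
theorem support (B : BlockSys ρ Mem) {x : V} {S' R' : AddSubgroup V} (hM : Mem x S' R') :
    ∃ a : A, S' ≤ tr ρ a S ∧ tr ρ a R ≤ R' := by
  obtain ⟨h', hS'⟩ := B.sing hM
  obtain ⟨a, s, hs, hs0⟩ := C.exists_coord_ne (B.ne_zero hM)
  obtain ⟨S2, R2, hM2, h1, h2⟩ := B.lift hM s (C.coord_fixed hS' (B.mem hM) hs) hs0
  by_cases hb : ∃ b, tr ρ b S ≠ tr ρ a S ∧ tr ρ b S = S2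
  · obtain ⟨b, hne, rfl⟩ := hb
    refine ⟨b, h1, ?_⟩
    rcases B.orth hM2 (C.mem b s (C.pair_ne hne.symm hs.1) hs0) with ⟨-, e⟩ | ⟨hle, -⟩
    · exact e ▸ h2
    · refine absurd (fun v hv => ?_) (C.sing.choose_spec.not_le)
      have h3 := (mem_tr ρ).1 (hle (apply_mem_tr ρ (a := b) hv))
      rwa [rho_inv] at h3
  push Not at hb
  have horth : ∀ b, tr ρ b S ≠ tr ρ a S → S2 ≤ tr ρ b R ∧ tr ρ b S ≤ R2 := fun b hne =>
    (B.orth hM2 (C.mem b s (C.pair_ne hne.symm hs.1) hs0)).resolve_left fun e => hb b hne e.1.symm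
  refine ⟨a, fun v hv => ?_, fun v hv => ?_⟩
  · obtain ⟨c, hc⟩ := C.exists_coord a v
    have h0 : v - c ∈ ⨅ b : A, tr ρ b R := AddSubgroup.mem_iInf.2 fun b => by
      by_cases hne : tr ρ b S = tr ρ a S
      · exact C.pair_eq hne ▸ hc.2
      · exact sub_mem ((horth b hne).1 (h1 hv)) (C.pair_ne (Ne.symm hne) hc.1)
    rw [C.meet, AddSubgroup.mem_bot, sub_eq_zero] at h0
    exact h0 ▸ hc.1
  · have hsup : (⨆ b : A, tr ρ b S) ≤ tr ρ a S ⊔ (R2 ⊓ tr ρ a R) := iSup_le fun b => by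
      by_cases hne : tr ρ b S = tr ρ a S
      · exact hne ▸ le_sup_left
      · exact le_trans (le_inf (horth b hne).2 (C.pair_ne hne)) le_sup_right
    rw [C.span] at hsup
    obtain ⟨c, hc, w, hw, e⟩ := AddSubgroup.mem_sup.1 (hsup (AddSubgroup.mem_top v))
    obtain ⟨hw1, hw2⟩ := AddSubgroup.mem_inf.1 hw
    have hcR : c ∈ tr ρ a R := by
      have h3 := sub_mem hv hw2
      rwa [← e, add_sub_cancel_right] at h3
    rw [C.tr_disj hc hcR, zero_add] at e
    exact h2 (e ▸ hw1)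

end BlockConf

end Cfsg.Agent.Walter
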