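import Cfsg.Agent.Lib.Walter.GLift
import Cfsg.Agent.Lib.Walter.Core.Irred

/-!
# The three cases of a minimal simple group with abelian Sylow 2-subgroups

All involution centralisers are solvable, or the Sylow 2-subgroups are elementary of order 8 with no solvable involution
centraliser, or `Ω₁(S)` decomposes into blocks.
-/

set_option autoImplicit false
set_option linter.style.haveILetI false
set_option linter.unusedSectionVars false

open scoped Pointwise

namespace Cfsg.Agent.Walter

open Subgroup Cfsg.Agent.Solv.AbelianTwo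

universe u

variable {G : Type u} [Group G] [Finite G] (S : Sylow 2 G) [hSc : IsMulCommutative ↥(S : Subgroup G)]

theorem blockSys (hG : MinHyp G) : BlockSys (rho S) (Mem S) where
  ne_zero h := h.1
  mem := fun {x T R} h => by
    obtain ⟨hx, J, hJ, -, rfl⟩ := h
    refine mem_centralizer_iff.2 fun y _ => ?_
    obtain ⟨c, rfl⟩ := QuotientGroup.mk'_surjective _ y
    exact (show Commute c (Subgroup.inclusion (S_le_cent S (Additive.toMul x)) ⟨_, (Additive.toMul x).2.1⟩) from
      Subtype.ext (mem_centralizer_singleton_iff.1 c.2)).map (QuotientGroup.mk' _)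
  sing h := by
    obtain ⟨hx, J, hJ, rfl, rfl⟩ := h
    exact sing_of_component S hG (toMul_ne_one S hx) hJ
  smul h a := mem_smul S h a
  orth h h' := mem_orth S h h'
  lift h r hr hr0 := mem_lift S hG h r hr hr0
  irr U hU := by
    haveI := hG.simple
    rcases irreducible hG.nonab hG.ab S ((AddSubgroup.toSubgroup' U).map (om S).subtype)
      (by rintro _ ⟨x, -, rfl⟩; exact ⟨x.2.1, (pow_two (x : G)).trans x.2.2⟩)
      (by
        rintro g hg _ ⟨x, hx, rfl⟩
        exact ⟨thetaS S ⟨g, hg⟩ x, hU ⟨thetaS S ⟨g, hg⟩, _, rfl⟩ _ hx, rfl⟩) with e | e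
    · refine Or.inl (eq_bot_iff.2 fun v hv => AddSubgroup.mem_bot.2 ?_)
      exact Additive.toMul.injective (Subtype.ext ((Subgroup.eq_bot_iff_forall _).1 e _ ⟨Additive.toMul v, hv, rfl⟩))
    · refine Or.inr (eq_top_iff.2 fun v _ => ?_)
      obtain ⟨w, hw, hwv⟩ := e _ (Additive.toMul v).2.1 ((pow_two _).trans (Additive.toMul v).2.2)
      rw [show v = Additive.ofMul w from Additive.toMul.injective (Subtype.ext hwv.symm)]
      exact hw

/-- Every involution is conjugate into `Ω₁(S)`. -/
theorem exists_conj_om {t : G} (ht : t * t = 1) : ∃ g : G, g * t * g⁻¹ ∈ om S := by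
  haveI : Fact (Nat.Prime 2) := ⟨Nat.prime_two⟩
  have hp : IsPGroup 2 (zpowers t) := IsPGroup.iff_card.2 (by
    rw [Nat.card_zpowers]
    have h1 : t ^ 2 ^ 1 = 1 := by rw [pow_one, pow_two, ht]
    obtain ⟨i, -, hi⟩ := (Nat.dvd_prime_pow Nat.prime_two).1 (orderOf_dvd_of_pow_eq_one h1)
    exact ⟨i, hi⟩)
  obtain ⟨T, hT⟩ := hp.exists_le_sylow
  obtain ⟨g, hg⟩ := MulAction.exists_smul_eq G T S
  refine ⟨g, ?_, by rw [show g * t * g⁻¹ * (g * t * g⁻¹) = g * (t * t) * g⁻¹ by group, ht, mul_one, mul_inv_cancel]⟩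
  rw [← hg]
  exact ⟨t, hT (mem_zpowers t), rfl⟩

theorem solvable_conj {t g : G} (h : Group.IsSolvable ↥(centralizer ({g * t * g⁻¹} : Set G))) :
    Group.IsSolvable ↥(centralizer ({t} : Set G)) := by
  haveI := h
  let f : ↥(centralizer ({t} : Set G)) →* ↥(centralizer ({g * t * g⁻¹} : Set G)) :=
    { toFun := fun c => ⟨g * c * g⁻¹, mem_centralizer_singleton_iff.2 (by
        have hc : (c : G) * t = t * c := mem_centralizer_singleton_iff.1 c.2
        calc g * (c : G) * g⁻¹ * (g * t * g⁻¹) = g * ((c : G) * t) * g⁻¹ := by group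
          _ = g * (t * c) * g⁻¹ := by rw [hc]
          _ = g * t * g⁻¹ * (g * (c : G) * g⁻¹) := by group)⟩
      map_one' := Subtype.ext (by simp)
      map_mul' := fun a b => Subtype.ext (by simp [mul_assoc]) }
  refine Group.isSolvable_of_isSolvable_injective (f := f) fun a b e => Subtype.ext ?_
  exact mul_left_cancel (mul_right_cancel (congrArg Subtype.val e))

/-- Without a component the centraliser is solvable. -/
theorem solvable_of_no_component (hG : MinHyp G) (x : G) (h : ∀ J : Subgroup (Cq x), ¬ Cfsg.IsComponent J) :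
    Group.IsSolvable ↥(centralizer ({x} : Set G)) := by
  have hF := coreFree_cq hG x
  haveI := gfit_normal' (X := Cq x)
  haveI hq : Group.IsSolvable (Cq x ⧸ Cfsg.generalizedFittingSubgroup (Cq x)) :=
    Bender.AbelianSolvable.odd_solvable' hF.gfit_odd_index
  have hle : Cfsg.generalizedFittingSubgroup (Cq x) ≤ Cfsg.fittingSubgroup (Cq x) :=
    sup_le (sSup_le fun J hJ => absurd hJ (h J)) le_rfl
  haveI : Group.IsNilpotent (Cfsg.fittingSubgroup (Cq x)) := Solv.fittingSubgroup_nilpotent
  haveI : Group.IsSolvable (Cfsg.generalizedFittingSubgroup (Cq x)) :=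
    Group.isSolvable_of_isSolvable_injective (f := Subgroup.inclusion hle) (Subgroup.inclusion_injective hle)
  haveI : Group.IsSolvable (Cq x) :=
    solvable_of_ker_le_range (Cfsg.generalizedFittingSubgroup (Cq x)).subtype
      (QuotientGroup.mk' (Cfsg.generalizedFittingSubgroup (Cq x))) (by rw [QuotientGroup.ker_mk', Subgroup.range_subtype])
  haveI : Group.IsSolvable ↥(Cfsg.oddCore ↥(centralizer ({x} : Set G))) :=
    Bender.AbelianSolvable.odd_solvable' (Nat.coprime_two_right.1 (Fusion.card_pPrimeCore_coprime 2 _))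
  exact solvable_of_ker_le_range (Cfsg.oddCore ↥(centralizer ({x} : Set G))).subtype
    (QuotientGroup.mk' (Cfsg.oddCore ↥(centralizer ({x} : Set G)))) (by rw [QuotientGroup.ker_mk', Subgroup.range_subtype])

theorem not_solvable_of_component (hG : MinHyp G) {x : G} {J : Subgroup (Cq x)} (hJ : Cfsg.IsComponent J) :
    ¬ Group.IsSolvable ↥(centralizer ({x} : Set G)) := fun hs => by
  haveI := hs
  haveI : Group.IsSolvable (Cq x) := Group.isSolvable_of_surjective (QuotientGroup.mk'_surjective _)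
  haveI := (coreFree_cq hG x).comp_simple hJ
  exact CoreFree.comp_nonab hJ ⟨⟨IsSimpleGroup.comm_iff_isSolvable.2 inferInstance⟩⟩

/-- The case of a largest block with four and two. -/
theorem rankThree_of_small (hG : MinHyp G) {x : VV S} {T R : AddSubgroup (VV S)} (hM : Mem S x T R)
    (hT : Nat.card T = 4) (hR : Nat.card R = 2) : RankThree G := by
  classical
  haveI : Fact (Nat.Prime 3) := ⟨Nat.prime_three⟩
  haveI : Fact (Nat.Prime 2) := ⟨Nat.prime_two⟩
  have B := blockSys S hG
  obtain ⟨h, hS⟩ := B.sing hM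
  have hx0 := hM.1
  have hxR := B.mem hM
  have hV : Nat.card (VV S) = 8 := by rw [hS.card_eq, hT, hR]
  have hh : orderOf h = 3 := by have := hS.ord; omega
  letI : MulAction ↥(AA S) (VV S) :=
    { smul := fun a v => rho S a v
      one_smul := fun v => rho_one (rho S) v
      mul_smul := fun a b v => rho_mul (rho S) a b v }
  have hfixh : rho S h x = x := hS.fix x hxR
  set O : Set (VV S) := MulAction.orbit ↥(AA S) x with hO
  have hxO : x ∈ O := MulAction.mem_orbit_self x
  have h0O : (0 : VV S) ∉ O := fun ⟨a, e⟩ => hx0 (rho_injective (rho S) a (e.trans (map_zero _).symm))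
  have hOodd : Odd O.ncard := by
    rw [← MulAction.index_stabilizer]
    exact (AA_odd S).of_dvd_nat (Subgroup.index_dvd_card _)
  have hmod : O.ncard % 3 = 1 := by
    haveI : Finite (MulAction.orbit ↥(AA S) x) := Set.toFinite _
    have hP : IsPGroup 3 (zpowers h) := IsPGroup.of_card (n := 1) (by rw [Nat.card_zpowers, hh, pow_one])
    letI : MulAction (zpowers h) (MulAction.orbit ↥(AA S) x) := MulAction.compHom _ (zpowers h).subtype
    have h1 := hP.card_modEq_card_fixedPoints (MulAction.orbit ↥(AA S) x)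
    have h2 : Nat.card (MulAction.fixedPoints (zpowers h) (MulAction.orbit ↥(AA S) x)) = 1 := by
      refine Nat.card_eq_one_iff_unique.2 ⟨⟨?_⟩, ⟨⟨⟨x, hxO⟩, ?_⟩⟩⟩
      · have key : ∀ y : MulAction.fixedPoints (zpowers h) (MulAction.orbit ↥(AA S) x),
            ((y : MulAction.orbit ↥(AA S) x) : VV S) = x := by
          intro y
          have hy : rho S h ((y : MulAction.orbit ↥(AA S) x) : VV S) = ((y : MulAction.orbit ↥(AA S) x) : VV S) :=
            congrArg Subtype.val (y.2 ⟨h, mem_zpowers h⟩)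
          have hyR : ((y : MulAction.orbit ↥(AA S) x) : VV S) ∈ R :=
            (hS.fixed_iff (i := 1) hS.ne_one _).1 (by rw [pow_one]; exact hy)
          have hne : ((y : MulAction.orbit ↥(AA S) x) : VV S) ≠ 0 := fun e =>
            h0O (by rw [← e]; exact (y : MulAction.orbit ↥(AA S) x).2)
          have huniq := (Nat.card_eq_two_iff' (0 : R)).1 hR
          exact congrArg Subtype.val (huniq.unique (y₁ := ⟨_, hyR⟩) (y₂ := ⟨x, hxR⟩)
            (fun e => hne (congrArg Subtype.val e)) fun e => hx0 (congrArg Subtype.val e))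
        exact fun y z => Subtype.ext (Subtype.ext ((key y).trans (key z).symm))
      · rintro ⟨k, hk⟩
        obtain ⟨i, rfl⟩ := mem_powers_iff_mem_zpowers.2 hk
        exact Subtype.ext (hS.pow_fix i hxR)
    rw [h2] at h1
    rw [← Nat.card_coe_set_eq]
    exact h1
  have hOne : O.ncard ≠ 1 := by
    intro e
    obtain ⟨z, hz⟩ := Set.ncard_eq_one.1 e
    have hfix : ∀ a : ↥(AA S), rho S a x = x := fun a => by
      have h1 : rho S a x ∈ O := ⟨a, rfl⟩
      have h2 := hxO
      rw [hz] at h1 h2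
      rw [Set.mem_singleton_iff.1 h1, Set.mem_singleton_iff.1 h2]
    let U : AddSubgroup (VV S) :=
      { carrier := {0, x}
        zero_mem' := Or.inl rfl
        add_mem' := by
          rintro a b (rfl | rfl) (rfl | rfl)
          · exact Or.inl (add_zero 0)
          · exact Or.inr (zero_add _)
          · exact Or.inr (add_zero _)
          · exact Or.inl (VV_two S _)
        neg_mem' := by
          rintro a (rfl | rfl)
          · exact Or.inl neg_zero
          · exact Or.inr (neg_eq_of_add_eq_zero_left (VV_two S _)) }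
    rcases B.irr U (by
      rintro a u (rfl | rfl)
      · exact Or.inl (map_zero _)
      · exact Or.inr (hfix a)) with e' | e'
    · have h1 : x ∈ U := Or.inr rfl
      rw [e'] at h1
      exact hx0 h1
    · have h1 : Nat.card U = 8 := by rw [e', AddSubgroup.card_top, hV]
      have h2 : Nat.card U ≤ 2 := by
        show Nat.card ({0, x} : Set (VV S)) ≤ 2
        rw [Nat.card_coe_set_eq]
        exact (Set.ncard_insert_le _ _).trans (by simp)
      omega
  have hOle : O.ncard ≤ 7 := by
    have h1 : O ⊆ (Set.univ : Set (VV S)) \ {0} := fun v hv => ⟨trivial, fun e => h0O ((show v = 0 from e) ▸ hv)⟩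
    have h2 := Set.ncard_le_ncard h1
    rwa [Set.ncard_diff_singleton_of_mem (Set.mem_univ _), Set.ncard_univ, hV] at h2
  have hOall : ∀ v : VV S, v ≠ 0 → ∃ a, rho S a x = v := by
    intro v hv
    have h7 : O.ncard = 7 := by
      obtain ⟨k, hk⟩ := hOodd
      omega
    have h1 : O = (Set.univ : Set (VV S)) \ {0} := Set.eq_of_subset_of_ncard_le
      (fun v hv => ⟨trivial, fun e => h0O ((show v = 0 from e) ▸ hv)⟩)
      (by rw [Set.ncard_diff_singleton_of_mem (Set.mem_univ _), Set.ncard_univ, hV, h7])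
    have h2 : v ∈ O := h1 ▸ ⟨trivial, hv⟩
    exact h2
  obtain ⟨hx, J, hJ, hTJ, -⟩ := hM
  set x0 : ↥(om S) := Additive.toMul x
  have hF := coreFree_cq hG (x0 : G)
  -- `S` is elementary
  have hsq : ∀ s ∈ (S : Subgroup G), s * s = 1 := by
    have h4 : ∀ s ∈ (S : Subgroup G), s * s * (s * s) = 1 → s * s = 1 := by
      intro s hs hs4
      by_contra hne
      let z : VV S := Additive.ofMul ⟨s * s, mul_mem hs hs, hs4⟩
      have hz : z ≠ 0 := fun e => hne (congrArg (fun w : VV S => ((Additive.toMul w : ↥(om S)) : G)) e)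
      obtain ⟨v, hvT, hv0⟩ : ∃ v ∈ T, v ≠ 0 := by
        haveI : Nontrivial T := Finite.one_lt_card_iff_nontrivial.1 (by omega)
        obtain ⟨v, hv⟩ := exists_ne (0 : T)
        exact ⟨v, v.2, fun e => hv (Subtype.ext e)⟩
      obtain ⟨a1, ha1⟩ := hOall z hz
      obtain ⟨a2, ha2⟩ := hOall v hv0
      set b := a2 * a1⁻¹ with hb
      have hbv : rho S b z = v := by rw [← ha1, hb, rho_mul, rho_inv, ha2]
      obtain ⟨g, hg⟩ := b.2
      set s' : G := (g : G) * s * (g : G)⁻¹ with hs'
      have hs'S : s' ∈ (S : Subgroup G) := (mem_normalizer_iff.1 g.2 s).1 hs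
      have hs'2 : s' * s' = ((Additive.toMul v : ↥(om S)) : G) := by
        rw [← hbv, rho_apply, ← hg]
        show s' * s' = (g : G) * (s * s) * (g : G)⁻¹
        rw [hs']
        group
      have hiv : iS S x0 ⟨s', hs'S⟩ * iS S x0 ⟨s', hs'S⟩ = iota S x0 (Additive.toMul v) := by
        rw [← map_mul]
        exact congrArg (iS S x0) (Subtype.ext hs'2)
      obtain ⟨w, hw, hc⟩ := hF.split hJ (SX S x0) ((mem_SX S).2 ⟨_, rfl⟩ :
        iS S x0 ⟨s', hs'S⟩ ∈ (SX S x0 : Subgroup (Cq (x0 : G))))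
      set y := iS S x0 ⟨s', hs'S⟩
      set c := w⁻¹ * y with hcdef
      have hcyc : w * w = 1 := by
        obtain ⟨P, hP⟩ := (CoreFree.comp_sylIn hJ (SX S x0)).exists_sylow_subgroupOf
        haveI := hF.comp_simple hJ
        have hK : KType J := (shape_of hG.below (card_cq_lt hG (toMul_ne_one S hx)) hF).1 J hJ
        have h1 := (cyc_of_ktype (of_injective hF.ab J.subtype J.subtype_injective) hK P).sq ⟨w, hw.2⟩
          (hP ▸ mem_subgroupOf.2 hw)
        exact congrArg Subtype.val h1
      have hvJ : iota S x0 (Additive.toMul v) ∈ J := by rw [hTJ] at hvT; exact hvT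
      have hyy : y * y = c * c := by
        rw [show y = w * c by rw [hcdef, mul_inv_cancel_left]]
        calc w * c * (w * c) = w * (c * w) * c := by group
          _ = w * (w * c) * c := by rw [hc w hw.2]
          _ = w * w * (c * c) := by group
          _ = c * c := by rw [hcyc, one_mul]
      have hcen : (⟨_, hvJ⟩ : J) ∈ Subgroup.center J := Subgroup.mem_center_iff.2 fun u => Subtype.ext (by
        show (u : Cq (x0 : G)) * iota S x0 (Additive.toMul v) = iota S x0 (Additive.toMul v) * u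
        rw [← hiv, hyy]
        exact (((show Commute c u from hc u u.2).mul_left (show Commute c u from hc u u.2))).eq.symm)
      rw [hF.comp_center hJ, Subgroup.mem_bot] at hcen
      exact hv0 (Additive.toMul.injective (iota_injective S x0 ((congrArg Subtype.val hcen).trans (map_one _).symm)))
    have hind : ∀ (k : ℕ), ∀ s ∈ (S : Subgroup G), s ^ 2 ^ k = 1 → s * s = 1 := by
      intro k
      induction k with
      | zero => intro s _ e; rw [pow_zero, pow_one] at e; rw [e, one_mul]
      | succ k ih =>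
        intro s hs e
        refine h4 s hs (ih (s * s) (mul_mem hs hs) ?_)
        rw [← pow_two, ← pow_mul, ← pow_succ']
        exact e
    intro s hs
    obtain ⟨k, hk⟩ := S.isPGroup' ⟨s, hs⟩
    exact hind k s hs (congrArg Subtype.val hk)
  have hom : om S = (S : Subgroup G) := le_antisymm (fun _ h => h.1) fun s hs => ⟨hs, hsq s hs⟩
  refine ⟨fun P => ?_, fun t ht hsol => ?_⟩
  · have hcard : Nat.card (S : Subgroup G) = 8 := by
      rw [← hom, ← Nat.card_congr (Additive.toMul (α := ↥(om S))), hV]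
    refine ⟨(Nat.card_congr (P.equiv S).toEquiv).trans hcard, fun y hy => ?_⟩
    have h1 := hsq _ (P.equiv S ⟨y, hy⟩).2
    rw [pow_two]
    have h2 : (⟨y, hy⟩ : (P : Subgroup G)) * ⟨y, hy⟩ = 1 := (P.equiv S).injective (by
      rw [map_mul, map_one]; exact Subtype.ext h1)
    exact congrArg Subtype.val h2
  · have ht2 : t * t = 1 := by rw [← pow_two, ← ht, pow_orderOf_eq_one]
    obtain ⟨g, hg⟩ := exists_conj_om S ht2
    let z : VV S := Additive.ofMul ⟨g * t * g⁻¹, hg⟩
    have hz : z ≠ 0 := fun e => by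
      have h1 : g * t * g⁻¹ = 1 := congrArg (fun w : VV S => ((Additive.toMul w : ↥(om S)) : G)) e
      rw [conj_eq_one_iff] at h1
      rw [h1, orderOf_one] at ht
      omega
    obtain ⟨a, ha⟩ := hOall z hz
    obtain ⟨-, J', hJ', -, -⟩ := ha ▸ B.smul ⟨hx, J, hJ, hTJ, rfl⟩ a
    refine not_solvable_of_component hG hJ' ?_
    show Group.IsSolvable ↥(centralizer ({g * t * g⁻¹} : Set G))
    have := solvable_conj (t := g * t * g⁻¹) (g := g⁻¹) (by
      rw [show g⁻¹ * (g * t * g⁻¹) * g⁻¹⁻¹ = t by group]; exact hsol)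
    exact this

/-- A translate as a subgroup of `G`. -/
def toG (U : AddSubgroup (VV S)) : Subgroup G := (AddSubgroup.toSubgroup' U).map (om S).subtype

theorem mem_toG {U : AddSubgroup (VV S)} {v : ↥(om S)} : (v : G) ∈ toG S U ↔ Additive.ofMul v ∈ U :=
  Subgroup.mem_map_iff_mem (Subgroup.subtype_injective _)

theorem toG_le (U : AddSubgroup (VV S)) : toG S U ≤ om S := Subgroup.map_subtype_le _

theorem toG_injective : Function.Injective (toG S) := fun U W e => by
  ext v
  have h1 := mem_toG S (U := U) (v := Additive.toMul v)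
  rw [e, mem_toG] at h1
  exact h1.symm

theorem toG_mono {U W : AddSubgroup (VV S)} (h : U ≤ W) : toG S U ≤ toG S W :=
  Subgroup.map_mono fun _ hx => h hx

/-- The case of blocks. -/
theorem blocks_of_conf (hG : MinHyp G) {T R : AddSubgroup (VV S)} (C : BlockConf (rho S) (Mem S) T R) :
    ∃ (A : Subgroup G) (B : Finset (Subgroup G)), Blocks A B := by
  classical
  haveI : Fintype ↥(AA S) := Fintype.ofFinite _
  haveI : Fact (Nat.Prime 2) := ⟨Nat.prime_two⟩
  have B0 := blockSys S hG
  set B : Finset (Subgroup G) := Finset.univ.image fun a : ↥(AA S) => toG S (tr (rho S) a T) with hB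
  have hmemB : ∀ {U : Subgroup G}, U ∈ B ↔ ∃ a, toG S (tr (rho S) a T) = U := by simp [hB]
  have hothers : ∀ a : ↥(AA S), (⨆ U ∈ B, ⨆ _ : U ≠ toG S (tr (rho S) a T), U) ≤ toG S (tr (rho S) a R) := by
    intro a
    refine iSup₂_le fun U hU => iSup_le fun hne => ?_
    obtain ⟨b, rfl⟩ := hmemB.1 hU
    exact toG_mono S (C.pair_ne fun e => hne (congrArg (toG S) e))
  have hfix : ∀ (c : ↥(om S)) (U : AddSubgroup (VV S)) (J : Subgroup (Cq (c : G))),
      U ≤ Subgroup.toAddSubgroup ((centralizer (J : Set (Cq (c : G)))).comap (iota S c)) →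
      FixesMod (c : G) (toG S U) J := by
    intro c U J hle t ht j hj
    obtain ⟨v, hv, hvt⟩ := ht
    have h1 : (t : ↥(centralizer ({(c : G)} : Set G))) = Subgroup.inclusion (S_le_cent S c) ⟨v, v.2.1⟩ :=
      Subtype.ext hvt.symm
    rw [h1]
    exact (mem_centralizer_iff.1 (hle (x := Additive.ofMul v) hv) j hj).symm
  refine ⟨om S, B, ?_, fun x hx => (pow_two x).trans hx.2, ?_, ?_, ?_, ?_, ?_, ?_, ?_⟩
  · exact ⟨S, fun _ h => h.1, fun x hx h2 => ⟨hx, (pow_two x).symm.trans h2⟩⟩
  · obtain ⟨a, ha⟩ := C.moved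
    obtain ⟨c, hc1, hc2⟩ := C.third a 1 (by rwa [tr_one])
    have hsub : ({toG S (tr (rho S) a T), toG S (tr (rho S) 1 T), toG S (tr (rho S) c T)} : Finset (Subgroup G)) ⊆ B := by
      intro U hU
      simp only [Finset.mem_insert, Finset.mem_singleton] at hU
      rcases hU with rfl | rfl | rfl <;> exact hmemB.2 ⟨_, rfl⟩
    refine le_trans (le_of_eq ?_) (Finset.card_le_card hsub)
    rw [Finset.card_insert_of_notMem, Finset.card_pair]
    · exact fun e => hc2 (toG_injective S e).symm
    · simp only [Finset.mem_insert, Finset.mem_singleton, not_or]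
      exact ⟨fun e => ha ((toG_injective S e).trans (tr_one _ T)), fun e => hc1 (toG_injective S e).symm⟩
  · refine le_antisymm (fun x hx => ?_) (iSup₂_le fun U hU => ?_)
    · have h1 : (⨆ a : ↥(AA S), tr (rho S) a T) ≤ Subgroup.toAddSubgroup
          ((⨆ U ∈ B, U).comap (om S).subtype) := iSup_le fun a v hv =>
        (le_iSup₂_of_le (f := fun U _ => U) (toG S (tr (rho S) a T)) (hmemB.2 ⟨a, rfl⟩) le_rfl :
          toG S (tr (rho S) a T) ≤ ⨆ U ∈ B, U) ((mem_toG S (v := Additive.toMul v)).2 hv)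
      rw [C.span] at h1
      exact h1 (AddSubgroup.mem_top (Additive.ofMul (⟨x, hx⟩ : ↥(om S))))
    · obtain ⟨a, rfl⟩ := hmemB.1 hU
      exact toG_le S _
  · intro U hU
    obtain ⟨a, rfl⟩ := hmemB.1 hU
    refine (Subgroup.eq_bot_iff_forall _).2 fun y hy => ?_
    have h2 := hothers a hy.2
    obtain ⟨v, hv, rfl⟩ := hy.1
    exact congrArg (fun w : VV S => ((Additive.toMul w : ↥(om S)) : G))
      (C.tr_disj (v := Additive.ofMul v) hv ((mem_toG S).1 h2))
  · intro U hU
    obtain ⟨a, rfl⟩ := hmemB.1 hU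
    obtain ⟨h, hS⟩ := C.sing
    have e : Nat.card (toG S (tr (rho S) a T)) = Nat.card T := by
      rw [toG, Subgroup.card_map_of_injective (Subgroup.subtype_injective _)]
      exact (Nat.card_congr (Equiv.subtypeEquiv Additive.ofMul fun _ => Iff.rfl)).trans (card_tr (rho S) a T)
    rw [e]
    exact hS.big
  · intro g hg U hU
    obtain ⟨a, rfl⟩ := hmemB.1 hU
    set A := om S
    have h1 : (S : Subgroup G) ≤ centralizer (A : Set G) := fun s hs => mem_centralizer_iff.2 fun y hy =>
      comm_S S hy.1 hs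
    have h2 : ((g • S : Sylow 2 G) : Subgroup G) ≤ centralizer (A : Set G) := by
      rintro _ ⟨s, hs, rfl⟩
      refine mem_centralizer_iff.2 fun y hy => ?_
      have hy' : g⁻¹ * y * g ∈ A := (mem_normalizer_iff.1 hg _).2 (by
        rwa [show g * (g⁻¹ * y * g) * g⁻¹ = y by group])
      show y * (g * s * g⁻¹) = g * s * g⁻¹ * y
      calc y * (g * s * g⁻¹) = g * ((g⁻¹ * y * g) * s) * g⁻¹ := by group
        _ = g * (s * (g⁻¹ * y * g)) * g⁻¹ := by rw [comm_S S hy'.1 hs]
        _ = _ := by group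
    obtain ⟨c, hc⟩ := MulAction.exists_smul_eq (centralizer (A : Set G)) ((g • S).subtype h2) (S.subtype h1)
    simp_rw [Sylow.smul_subtype, Subgroup.smul_def, smul_smul] at hc
    have hn : (c : G) * g ∈ normalizer ((S : Subgroup G) : Set G) :=
      Sylow.smul_eq_iff_mem_normalizer.1 (Sylow.subtype_injective hc)
    let n : ↥(AA S) := ⟨thetaS S ⟨_, hn⟩, _, rfl⟩
    have hact : ∀ v : ↥(om S), (c : G) * g * v * ((c : G) * g)⁻¹ = g * v * g⁻¹ := fun v => by
      have h3 : (c : G) * (g * v * g⁻¹) = g * v * g⁻¹ * c :=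
        (mem_centralizer_iff.1 c.2 _ ((mem_normalizer_iff.1 hg _).1 v.2)).symm
      calc (c : G) * g * v * ((c : G) * g)⁻¹ = (c : G) * (g * v * g⁻¹) * (c : G)⁻¹ := by group
        _ = g * v * g⁻¹ := by rw [h3, mul_inv_cancel_right]
    refine hmemB.2 ⟨n * a, ?_⟩
    rw [← tr_tr]
    ext y
    constructor
    · rintro ⟨w, hw, rfl⟩
      obtain ⟨v, hv, e⟩ := hw
      refine ⟨((Additive.toMul v : ↥(om S)) : G), ⟨Additive.toMul v, hv, rfl⟩, ?_⟩
      show g * ((Additive.toMul v : ↥(om S)) : G) * g⁻¹ = (w : G)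
      rw [← hact]
      exact congrArg (fun u : VV S => ((Additive.toMul u : ↥(om S)) : G)) e
    · rintro ⟨z, ⟨v, hv, rfl⟩, rfl⟩
      refine ⟨thetaS S ⟨_, hn⟩ v, ⟨Additive.ofMul v, hv, rfl⟩, ?_⟩
      exact hact v
  · intro c hc hc1 J hJ
    set x : VV S := Additive.ofMul ⟨c, hc⟩
    have hx : x ≠ 0 := fun e => hc1 (congrArg (fun w : VV S => ((Additive.toMul w : ↥(om S)) : G)) e)
    have hM : Mem S x (Subgroup.toAddSubgroup (J.comap (iota S ⟨c, hc⟩)))
        (Subgroup.toAddSubgroup ((centralizer (J : Set (Cq c))).comap (iota S ⟨c, hc⟩))) := ⟨hx, J, hJ, rfl, rfl⟩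
    obtain ⟨a, h1, h2⟩ := C.support B0 hM
    refine ⟨_, hmemB.2 ⟨a, rfl⟩, fun hfx => ?_, fun U hU hne => ?_⟩
    · obtain ⟨h, hS'⟩ := B0.sing hM
      refine hS'.not_le fun v hv => mem_centralizer_iff.2 fun j hj => ?_
      exact (hfx (Subgroup.inclusion (S_le_cent S ⟨c, hc⟩) ⟨_, (Additive.toMul v).2.1⟩)
        ((mem_toG S (v := Additive.toMul v)).2 (h1 hv)) j hj).eq.symm
    · obtain ⟨b, rfl⟩ := hmemB.1 hU
      exact hfix ⟨c, hc⟩ _ J (le_trans (C.pair_ne fun e => hne (congrArg (toG S) e)) h2)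
  · intro U hU c hc hc1
    obtain ⟨a, rfl⟩ := hmemB.1 hU
    have hcR := hothers a hc
    obtain ⟨v, hv, rfl⟩ := hcR
    have hv0 : Additive.ofMul v ≠ (0 : VV S) := fun e =>
      hc1 (congrArg (fun w : VV S => ((Additive.toMul w : ↥(om S)) : G)) e)
    obtain ⟨-, J, hJ, e1, e2⟩ := C.mem a _ hv hv0
    refine ⟨J, ⟨hJ, fun hfx => ?_⟩, fun J' hJ' => ?_⟩
    · obtain ⟨h, hS'⟩ := B0.sing (C.mem a _ hv hv0)
      refine hS'.not_le fun w hw => ?_
      rw [e2]
      refine mem_centralizer_iff.2 fun j hj => ?_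
      exact (hfx (Subgroup.inclusion (S_le_cent S v) ⟨_, (Additive.toMul w).2.1⟩)
        ((mem_toG S (v := Additive.toMul w)).2 hw) j hj).eq.symm
    · by_contra hne
      refine hJ'.2 (hfix v _ J' ?_)
      rw [e1]
      intro w hw
      exact Subgroup.commutator_eq_bot_iff_le_centralizer.1 (Solv.components_commute hJ hJ'.1 (Ne.symm hne)) hw

omit hSc in
/-- **The three cases.** -/
theorem cases_of_minHyp (hG : MinHyp G) :
    (∀ t : G, orderOf t = 2 → Group.IsSolvable ↥(centralizer ({t} : Set G))) ∨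
      (∃ (A : Subgroup G) (B : Finset (Subgroup G)), Blocks A B) ∨ RankThree G := by
  obtain ⟨S⟩ := (inferInstance : Nonempty (Sylow 2 G))
  haveI := hG.ab S
  rcases (blockSys S hG).cases with hnone | ⟨x, T, R, hM, -, hT, hR⟩ | ⟨T, R, C⟩
  · refine Or.inl fun t ht => ?_
    have ht2 : t * t = 1 := by rw [← pow_two, ← ht, pow_orderOf_eq_one]
    obtain ⟨g, hg⟩ := exists_conj_om S ht2
    refine solvable_conj (g := g) (solvable_of_no_component hG _ fun J hJ => ?_)
    exact hnone (Additive.ofMul ⟨_, hg⟩) _ _ ⟨fun e => by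
      have h1 : g * t * g⁻¹ = 1 := congrArg (fun w : VV S => ((Additive.toMul w : ↥(om S)) : G)) e
      rw [conj_eq_one_iff] at h1
      rw [h1, orderOf_one] at ht
      omega, J, hJ, rfl, rfl⟩
  · exact Or.inr (Or.inr (rankThree_of_small S hG hM hT hR))
  · exact Or.inr (Or.inl (blocks_of_conf S hG C))

end Cfsg.Agent.Walter
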