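import Cfsg.Agent.Lib.Walter.BlockSysG

/-!
# A block lies in a block under every vector of its fixed part

`P` is the last derived term of the preimage of the component `J` of `C(x)/O` in `C(x, r)`. Its image in `C(r)/O` lies
in one component `K`: the projection of the image to a component is centralised by `x`, so it lifts to `C(x, r)`, hence
normalises the image, hence lies in it.
-/

set_option autoImplicit false
set_option linter.style.haveILetI false
set_option linter.unusedSectionVars false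

open scoped commutatorElement

namespace Cfsg.Agent.Walter

open Subgroup Cfsg.Agent.Solv.AbelianTwo

universe u v w

/-- The last derived term. -/
theorem exists_perfect_core {D : Type u} [Group D] [Finite D] (H : Subgroup D) :
    ∃ P ≤ H, ⁅P, P⁆ = P ∧ (∀ g : D, H.map (MulAut.conj g).toMonoidHom = H → ∀ p ∈ P, g * p * g⁻¹ ∈ P) ∧
      ∀ {Y : Type v} [Group Y] (f : D →* Y), ⁅H.map f, H.map f⁆ = H.map f → P.map f = H.map f := by
  classical
  let F : ℕ → Subgroup D := fun n => (fun K : Subgroup D => ⁅K, K⁆)^[n] H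
  have hsucc : ∀ n, F (n + 1) = ⁅F n, F n⁆ := fun n => Function.iterate_succ_apply' _ n H
  have hanti : ∀ n, F (n + 1) ≤ F n := fun n => (hsucc n).trans_le (Subgroup.commutator_le_self _)
  obtain ⟨n, hn⟩ : ∃ n, F (n + 1) = F n := by
    by_contra hno
    push Not at hno
    have hlt : ∀ n, Nat.card (F n) + n ≤ Nat.card (F 0) := by
      intro n
      induction n with
      | zero => rfl
      | succ n ih =>
        have := Set.Finite.card_lt_card (Set.toFinite (F n : Set D))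
          (SetLike.coe_ssubset_coe.2 (lt_of_le_of_ne (hanti n) (hno n)))
        change Nat.card (F (n + 1)) < Nat.card (F n) at this
        omega
    have h1 := hlt (Nat.card (F 0) + 1)
    omega
  have hle : ∀ m, F m ≤ H := by
    intro m
    induction m with
    | zero => exact le_rfl
    | succ m ih => exact (hanti m).trans ih
  refine ⟨F n, hle n, (hsucc n).symm.trans hn, fun g hg p hp => ?_, fun f hf => ?_⟩
  · have h : ∀ m, (F m).map (MulAut.conj g).toMonoidHom = F m := by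
      intro m
      induction m with
      | zero => exact hg
      | succ m ih => rw [hsucc, Subgroup.map_commutator, ih]
    rw [← h n]
    exact ⟨p, hp, rfl⟩
  · have h : ∀ m, (F m).map f = H.map f := by
      intro m
      induction m with
      | zero => rfl
      | succ m ih => rw [hsucc, Subgroup.map_commutator, ih, hf]
    exact h n

/-- An element of odd order whose square lies in a subgroup lies in it. -/
theorem mem_of_sq_odd {D : Type u} [Group D] {P : Subgroup D} {k : D} (hodd : Odd (orderOf k)) (h : k * k ∈ P) :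
    k ∈ P := by
  obtain ⟨j, hj⟩ := hodd
  have e : (k * k) ^ (j + 1) = k := by
    rw [← pow_two, ← pow_mul, show 2 * (j + 1) = 2 * j + 1 + 1 by ring, ← hj, pow_succ, pow_orderOf_eq_one, one_mul]
  rw [← e]
  exact pow_mem h _

/-- What commutes modulo a normal subgroup of odd order with an involution lifts to its centraliser. -/
theorem lift_commute {C : Type u} [Group C] [Finite C] {N : Subgroup C} [N.Normal] (hN : Odd (Nat.card N)) {r : C}
    (hr : r * r = 1) {y : C ⧸ N} (hy : Commute y (QuotientGroup.mk' N r)) :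
    ∃ c, Commute c r ∧ QuotientGroup.mk' N c = y := by
  obtain ⟨c, rfl⟩ := QuotientGroup.mk'_surjective N y
  set u := c * r * c⁻¹ with hu
  set p := u * r with hp
  have hpN : p ∈ N := by
    rw [← QuotientGroup.eq_one_iff, ← QuotientGroup.mk'_apply, hp, hu, map_mul, map_mul, map_mul, hy.eq, map_inv,
      mul_inv_cancel_right, ← map_mul, hr, map_one]
  obtain ⟨j, hj⟩ : Odd (orderOf p) := hN.of_dvd_nat ((Subgroup.orderOf_mk p hpN) ▸ orderOf_dvd_natCard _)
  set w := p ^ (j + 1) with hw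
  have hrinv : r⁻¹ = r := inv_eq_of_mul_eq_one_right hr
  have hrp : r * p * r⁻¹ = p⁻¹ := by
    rw [eq_inv_iff_mul_eq_one, hp, hu, hrinv]
    calc r * (c * r * c⁻¹ * r) * r * (c * r * c⁻¹ * r)
        = r * c * r * c⁻¹ * (r * r) * c * r * c⁻¹ * r := by group
      _ = r * c * (r * r) * c⁻¹ * r := by conv_lhs => rw [hr]
                                          group
      _ = 1 := by rw [hr, mul_one, mul_inv_cancel_right, hr]
  have hrw : r * w⁻¹ * r⁻¹ = w := by
    rw [hw, ← inv_pow, ← conj_pow, show r * p⁻¹ * r⁻¹ = (r * p * r⁻¹)⁻¹ by group, hrp, inv_inv]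
  have key : w * r * w⁻¹ = u := by
    calc w * r * w⁻¹ = w * (r * w⁻¹ * r⁻¹) * r := by group
      _ = p ^ (j + 1 + (j + 1)) * r := by rw [hrw, hw, ← pow_add]
      _ = p * r := by rw [show j + 1 + (j + 1) = orderOf p + 1 by omega, pow_succ, pow_orderOf_eq_one, one_mul]
      _ = u := by rw [hp, mul_assoc, hr, mul_one]
  refine ⟨w⁻¹ * c, ?_, ?_⟩
  · show w⁻¹ * c * r = r * (w⁻¹ * c)
    calc w⁻¹ * c * r = w⁻¹ * u * c := by rw [hu]; group
      _ = w⁻¹ * (w * r * w⁻¹) * c := by rw [key]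
      _ = r * (w⁻¹ * c) := by group
  · rw [map_mul, map_inv, show QuotientGroup.mk' N w = 1 from (QuotientGroup.eq_one_iff w).2 (pow_mem hpN _), inv_one,
      one_mul]

section Core

variable {D : Type u} {X : Type v} {Q : Type w} [Group D] [Group X] [Group Q] [Finite D] [Finite X] [Finite Q]

/-- The group theoretic core of the lifting. -/
theorem lift_component (hX : CoreFree X) (hQ : CoreFree Q) (fx : D →* X) (fr : D →* Q) (hkx : Odd (Nat.card fx.ker))
    (hkr : Odd (Nat.card fr.ker)) {J : Subgroup X} (hJ : Cfsg.IsComponent J) (hJD : J ≤ fx.range) {xq : Q}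
    (T : Sylow 2 Q) (hxT : xq ∈ (T : Subgroup Q)) (hcx : ∀ d, Commute (fr d) xq)
    (hlift : ∀ y : Q, Commute y xq → y ∈ fr.range) :
    ∃ K : Subgroup Q, Cfsg.IsComponent K ∧ (∀ v : D, v * v = 1 → fx v ∈ J → fr v ∈ K) ∧
      ∀ v : D, v * v = 1 → fr v ∈ centralizer (K : Set Q) → fx v ∈ centralizer (J : Set X) := by
  classical
  haveI : Fact (Nat.Prime 2) := ⟨Nat.prime_two⟩
  haveI hJs := hX.comp_simple hJ
  have hJperf : ⁅J, J⁆ = J := CoreFree.comp_perfect hJ
  have hJodd : ¬ Odd (Nat.card J) := fun ho => by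
    haveI := Bender.AbelianSolvable.odd_solvable' ho
    exact CoreFree.comp_nonab hJ ⟨⟨IsSimpleGroup.comm_iff_isSolvable.2 inferInstance⟩⟩
  set DJ := J.comap fx with hDJ
  have hmapDJ : DJ.map fx = J := by rw [hDJ, Subgroup.map_comap_eq, inf_eq_right.2 hJD]
  obtain ⟨P, hPle, hPperf, hPnorm, hPmap⟩ := exists_perfect_core.{u, v} DJ
  have hPJ : P.map fx = J := by rw [hPmap fx (by rw [hmapDJ, hJperf]), hmapDJ]
  have hnorm : ∀ g : D, (∀ y, y ∈ J ↔ fx g * y * (fx g)⁻¹ ∈ J) → ∀ p ∈ P, g * p * g⁻¹ ∈ P := by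
    intro g hg
    refine hPnorm g (Subgroup.ext fun d => ?_)
    rw [mem_map_equiv, MulAut.conj_symm_apply, hDJ, mem_comap, mem_comap, map_mul, map_mul, map_inv]
    have h1 := hg ((fx g)⁻¹ * fx d * fx g)
    rwa [show fx g * ((fx g)⁻¹ * fx d * fx g) * (fx g)⁻¹ = fx d by group] at h1
  have hinvol : ∀ v : D, v * v = 1 → ∀ y, y ∈ J ↔ fx v * y * (fx v)⁻¹ ∈ J := by
    intro v hv
    have hp : IsPGroup 2 (zpowers (fx v)) := IsPGroup.iff_card.2 (by
      rw [Nat.card_zpowers]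
      have h1 : fx v ^ 2 ^ 1 = 1 := by rw [pow_one, pow_two, ← map_mul, hv, map_one]
      obtain ⟨i, -, hi⟩ := (Nat.dvd_prime_pow Nat.prime_two).1 (orderOf_dvd_of_pow_eq_one h1)
      exact ⟨i, hi⟩)
    obtain ⟨U, hU⟩ := hp.exists_le_sylow
    exact mem_normalizer_iff.1 (hX.sylow_le_normalizer hJ U (hU (mem_zpowers _)))
  have hconjP : ∀ p ∈ P, ∀ q ∈ P, p * q * p⁻¹ ∈ P := fun p hp q hq => mul_mem (mul_mem hp hq) (inv_mem hp)
  -- the image in `Q`
  set Z := P.map fr with hZ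
  have hZperf : ⁅Z, Z⁆ = Z := by rw [hZ, ← Subgroup.map_commutator, hPperf]
  have hZne : Z ≠ ⊥ := by
    intro e
    have h1 : P ≤ fr.ker := (Subgroup.map_eq_bot_iff _).1 e
    haveI := Bender.AbelianSolvable.odd_solvable' (hkr.of_dvd_nat (Subgroup.card_dvd_of_le h1) : Odd (Nat.card P))
    have h2 := perfect_eq_bot (Y := P) (P := ⊤) (by
      refine Subgroup.map_injective P.subtype_injective ?_
      rw [Subgroup.map_commutator, ← MonoidHom.range_eq_map, Subgroup.range_subtype, hPperf])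
    have h3 : P = ⊥ := (Subgroup.eq_bot_iff_forall _).2 fun p hp => by
      have h4 : (⟨p, hp⟩ : P) ∈ (⊤ : Subgroup P) := mem_top _
      rw [h2, Subgroup.mem_bot] at h4
      exact congrArg Subtype.val h4
    rw [h3, Subgroup.map_bot] at hPJ
    exact hJodd (by rw [← hPJ, Subgroup.card_bot]; exact odd_one)
  obtain ⟨K, hK, hKZ⟩ : ∃ K : Subgroup Q, Cfsg.IsComponent K ∧ ¬ Z ≤ centralizer (K : Set Q) := by
    by_contra hno
    push Not at hno
    exact hZne (hQ.perfect_bot hZperf hno)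
  have huniq : ∀ {z k k' : Q}, k ∈ K → k' ∈ K → (∀ y ∈ K, k⁻¹ * z * y = y * (k⁻¹ * z)) →
      (∀ y ∈ K, k'⁻¹ * z * y = y * (k'⁻¹ * z)) → k = k' := by
    intro z k k' hk hk' h1 h2
    have h3 : (⟨k'⁻¹ * k, mul_mem (inv_mem hk') hk⟩ : K) ∈ Subgroup.center K :=
      Subgroup.mem_center_iff.2 fun y => Subtype.ext (by
        have e : (k' : Q)⁻¹ * k = (k'⁻¹ * z) * (k⁻¹ * z)⁻¹ := by group
        show (y : Q) * (k'⁻¹ * k) = k'⁻¹ * k * y
        rw [e]
        exact ((show Commute (k'⁻¹ * z) y from h2 y y.2).mul_left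
          (show Commute (k⁻¹ * z) y from h1 y y.2).inv_left).eq.symm)
    rw [hQ.comp_center hK, Subgroup.mem_bot] at h3
    exact (inv_mul_eq_one.1 (congrArg Subtype.val h3)).symm
  have hexist : ∀ z : Z, ∃ k ∈ K, ∀ y ∈ K, k⁻¹ * (z : Q) * y = y * (k⁻¹ * (z : Q)) := fun z =>
    hQ.gfit_split hK (hQ.perfect_le_gfit hZperf z.2)
  choose π hπK hπc using hexist
  have hπmul : ∀ z z' : Z, π (z * z') = π z * π z' := fun z z' =>
    huniq (hπK _) (mul_mem (hπK z) (hπK z')) (hπc _) fun y hy => by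
      have e : (π z * π z')⁻¹ * ((z * z' : Z) : Q) = ((π z)⁻¹ * z) * ((π z')⁻¹ * z') := by
        have h1 := hπc z (π z')⁻¹ (inv_mem (hπK z'))
        rw [Subgroup.coe_mul, mul_inv_rev]
        calc (π z')⁻¹ * (π z)⁻¹ * ((z : Q) * z') = ((π z')⁻¹ * ((π z)⁻¹ * (z : Q))) * z' := by group
          _ = ((π z)⁻¹ * (z : Q)) * (π z')⁻¹ * z' := by rw [h1]
          _ = _ := by group
      rw [e]
      exact ((show Commute ((π z)⁻¹ * (z : Q)) y from hπc z y hy).mul_left
        (show Commute ((π z')⁻¹ * (z' : Q)) y from hπc z' y hy)).eq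
  let πh : Z →* Q := MonoidHom.mk' π hπmul
  set W := πh.range with hW
  have hWK : W ≤ K := by rintro _ ⟨z, rfl⟩; exact hπK z
  have hWperf : ⁅W, W⁆ = W := by
    have h1 : ⁅(⊤ : Subgroup Z), (⊤ : Subgroup Z)⁆ = ⊤ := Subgroup.map_injective Z.subtype_injective (by
      rw [Subgroup.map_commutator, ← MonoidHom.range_eq_map, Subgroup.range_subtype, hZperf])
    rw [hW, MonoidHom.range_eq_map, ← Subgroup.map_commutator, h1]
  have hWne : W ≠ ⊥ := by
    intro e
    refine hKZ fun z hz => mem_centralizer_iff.2 fun y hy => ?_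
    have h1 : π ⟨z, hz⟩ = 1 := (Subgroup.eq_bot_iff_forall _).1 e _ ⟨⟨z, hz⟩, rfl⟩
    have h2 := hπc ⟨z, hz⟩ y hy
    rw [h1, inv_one, one_mul] at h2
    exact h2.symm
  have hxK : xq ∈ normalizer (K : Set Q) := hQ.sylow_le_normalizer hK T hxT
  have hWx : W ≤ fr.range := by
    rintro _ ⟨z, rfl⟩
    refine hlift _ ?_
    obtain ⟨p, -, hpz⟩ := z.2
    have hzx : (z : Q) * xq = xq * z := hpz ▸ (hcx p).eq
    have h1 : xq * π z * xq⁻¹ = π z := huniq ((mem_normalizer_iff.1 hxK _).1 (hπK z)) (hπK z) (fun y hy => ?_) (hπc z)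
    · exact (mul_inv_eq_iff_eq_mul.1 h1).symm
    have hy' : xq⁻¹ * y * xq ∈ K := (mem_normalizer_iff.1 hxK _).2 (by
      rwa [show xq * (xq⁻¹ * y * xq) * xq⁻¹ = y by group])
    calc (xq * π z * xq⁻¹)⁻¹ * (z : Q) * y
        = xq * (π z)⁻¹ * (xq⁻¹ * ((z : Q) * xq)) * (xq⁻¹ * y * xq) * xq⁻¹ := by group
      _ = xq * (((π z)⁻¹ * (z : Q)) * (xq⁻¹ * y * xq)) * xq⁻¹ := by rw [hzx]; group
      _ = xq * ((xq⁻¹ * y * xq) * ((π z)⁻¹ * (z : Q))) * xq⁻¹ := by rw [hπc z _ hy']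
      _ = y * (xq * (π z)⁻¹ * xq⁻¹ * (xq * (z : Q)) * xq⁻¹) := by group
      _ = y * ((xq * π z * xq⁻¹)⁻¹ * (z : Q)) := by rw [← hzx]; group
  -- `W` normalises `Z`
  have hWnorm : ∀ w' ∈ W, ∀ z ∈ Z, w' * z * w'⁻¹ ∈ Z := by
    obtain ⟨P', hP'le, hP'perf, -, hP'map⟩ := exists_perfect_core.{u, w} (W.comap fr)
    have hWmap : (W.comap fr).map fr = W := by rw [Subgroup.map_comap_eq, inf_eq_right.2 hWx]
    have hP'W : P'.map fr = W := by rw [hP'map fr (by rw [hWmap, hWperf]), hWmap]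
    intro w' hw' z hz
    obtain ⟨g, hg, rfl⟩ := hP'W.symm ▸ hw'
    obtain ⟨p, hp, rfl⟩ := hz
    refine ⟨g * p * g⁻¹, hnorm g ?_ p hp, by rw [map_mul, map_mul, map_inv]⟩
    have hgF : fx g ∈ Cfsg.generalizedFittingSubgroup X :=
      hX.perfect_le_gfit (P := P'.map fx) (by rw [← Subgroup.map_commutator, hP'perf]) ⟨g, hg, rfl⟩
    obtain ⟨k, hk, hkc⟩ := hX.gfit_split hJ hgF
    intro y
    have e : ∀ y ∈ J, fx g * y * (fx g)⁻¹ = k * y * k⁻¹ := fun y hy => by
      calc fx g * y * (fx g)⁻¹ = k * ((k⁻¹ * fx g) * y) * (fx g)⁻¹ := by group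
        _ = _ := by rw [hkc y hy]; group
    refine ⟨fun hy => e y hy ▸ mul_mem (mul_mem hk hy) (inv_mem hk), fun hy => ?_⟩
    have h1 : (k⁻¹ * fx g) * y * (k⁻¹ * fx g)⁻¹ ∈ J := by
      have h2 := mul_mem (mul_mem (inv_mem hk) hy) hk
      rwa [show k⁻¹ * (fx g * y * (fx g)⁻¹) * k = (k⁻¹ * fx g) * y * (k⁻¹ * fx g)⁻¹ by group] at h2
    have h3 := hkc _ h1
    rw [show k⁻¹ * fx g * ((k⁻¹ * fx g) * y * (k⁻¹ * fx g)⁻¹) = (k⁻¹ * fx g) * ((k⁻¹ * fx g) * y * (k⁻¹ * fx g)⁻¹) by rfl,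
      show (k⁻¹ * fx g) * y * (k⁻¹ * fx g)⁻¹ * (k⁻¹ * fx g) = (k⁻¹ * fx g) * y by group] at h3
    rwa [mul_left_cancel h3] at h1
  have hWZ : W ≤ Z := by
    rw [← hWperf, Subgroup.commutator_le]
    rintro _ ⟨z, rfl⟩ w2 hw2
    have h1 : (πh z : Q) * w2 * (πh z)⁻¹ = (z : Q) * w2 * (z : Q)⁻¹ := by
      have h2 := hπc z w2 (hWK hw2)
      show π z * w2 * (π z)⁻¹ = _
      calc π z * w2 * (π z)⁻¹ = π z * (w2 * ((π z)⁻¹ * (z : Q))) * (z : Q)⁻¹ := by group
        _ = _ := by rw [← h2]; group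
    rw [commutatorElement_def, h1]
    have h3 := hWnorm w2 hw2 _ (inv_mem z.2)
    have h4 := mul_mem z.2 h3
    rwa [show (z : Q) * (w2 * (z : Q)⁻¹ * w2⁻¹) = (z : Q) * w2 * (z : Q)⁻¹ * w2⁻¹ by group] at h4
  have hWnormal : ∀ z ∈ Z, ∀ w' ∈ W, z * w' * z⁻¹ ∈ W := by
    intro z hz w' hw'
    have e : z * w' * z⁻¹ = π ⟨z, hz⟩ * w' * (π ⟨z, hz⟩)⁻¹ := by
      have h2 := hπc ⟨z, hz⟩ w' (hWK hw')
      calc z * w' * z⁻¹ = π ⟨z, hz⟩ * ((π ⟨z, hz⟩)⁻¹ * z * w') * z⁻¹ := by group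
        _ = _ := by rw [h2]; group
    rw [e]
    exact mul_mem (mul_mem ⟨⟨z, hz⟩, rfl⟩ hw') (inv_mem ⟨⟨z, hz⟩, rfl⟩)
  -- the image lies in `W`
  have hPW : P ≤ W.comap fr := by
    set P1 := P ⊓ W.comap fr with hP1
    have hP1n : ∀ p ∈ P, ∀ q ∈ P1, p * q * p⁻¹ ∈ P1 := fun p hp q hq =>
      ⟨hconjP p hp q hq.1, by
        show fr (p * q * p⁻¹) ∈ W
        rw [map_mul, map_mul, map_inv]
        exact hWnormal _ ⟨p, hp, rfl⟩ _ hq.2⟩
    haveI : ((P1.map fx).subgroupOf J).Normal := ⟨fun a ha y => by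
      obtain ⟨q, hq, hqa⟩ := mem_subgroupOf.1 ha
      obtain ⟨p, hp, hpy⟩ := (hPJ ▸ y.2 : (y : X) ∈ P.map fx)
      refine mem_subgroupOf.2 ⟨p * q * p⁻¹, hP1n p hp q hq, ?_⟩
      rw [map_mul, map_mul, map_inv, hqa, hpy]
      rfl⟩
    have hP1J : P1.map fx ≤ J := hPJ ▸ Subgroup.map_mono inf_le_left
    rcases (inferInstance : ((P1.map fx).subgroupOf J).Normal).eq_bot_or_eq_top with e | e
    · exfalso
      refine hWne ?_
      have h1 : P1 ≤ fx.ker := fun q hq => by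
        have h2 : (⟨fx q, hP1J ⟨q, hq, rfl⟩⟩ : J) ∈ (P1.map fx).subgroupOf J := mem_subgroupOf.2 ⟨q, hq, rfl⟩
        rw [e, Subgroup.mem_bot] at h2
        exact congrArg Subtype.val h2
      have hsub : W ≤ P1.map fr := fun y hy => by
        obtain ⟨p, hp, rfl⟩ := hWZ hy
        exact ⟨p, ⟨hp, hy⟩, rfl⟩
      haveI := Bender.AbelianSolvable.odd_solvable' ((hkx.of_dvd_nat (Subgroup.card_dvd_of_le h1)).of_dvd_nat
        ((Subgroup.card_dvd_of_le hsub).trans (Subgroup.card_map_dvd P1 fr)) : Odd (Nat.card W))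
      have h2 := perfect_eq_bot (Y := W) (P := ⊤) (by
        refine Subgroup.map_injective W.subtype_injective ?_
        rw [Subgroup.map_commutator, ← MonoidHom.range_eq_map, Subgroup.range_subtype, hWperf])
      refine (Subgroup.eq_bot_iff_forall _).2 fun y hy => ?_
      have h4 : (⟨y, hy⟩ : W) ∈ (⊤ : Subgroup W) := mem_top _
      rw [h2, Subgroup.mem_bot] at h4
      exact congrArg Subtype.val h4
    · haveI : (P1.subgroupOf P).Normal := ⟨fun a ha p => mem_subgroupOf.2 (hP1n p p.2 a (mem_subgroupOf.1 ha))⟩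
      have hidx : Odd (P1.subgroupOf P).index := by
        let f : ↥(fx.ker ⊓ P) → P ⧸ P1.subgroupOf P := fun k => QuotientGroup.mk ⟨(k : D), k.2.2⟩
        have hf : Function.Surjective f := by
          intro y
          obtain ⟨⟨p, hp⟩, rfl⟩ := QuotientGroup.mk_surjective y
          have h2 : (⟨fx p, hPJ ▸ ⟨p, hp, rfl⟩⟩ : J) ∈ (P1.map fx).subgroupOf J := e ▸ mem_top _
          obtain ⟨q, hq, hqp⟩ := mem_subgroupOf.1 h2
          refine ⟨⟨p * q⁻¹, MonoidHom.mem_ker.2 (by rw [map_mul, map_inv, hqp, mul_inv_cancel]),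
            P.mul_mem hp (P.inv_mem hq.1)⟩, QuotientGroup.eq.2 (mem_subgroupOf.2 ?_)⟩
          show (p * q⁻¹)⁻¹ * p ∈ P1
          rw [mul_inv_rev, inv_inv, inv_mul_cancel_right]
          exact hq
        rw [Subgroup.index_eq_card]
        refine (hkx.of_dvd_nat (Subgroup.card_dvd_of_le (inf_le_left : fx.ker ⊓ P ≤ fx.ker))).of_dvd_nat ?_
        let fh : ↥(fx.ker ⊓ P) →* P ⧸ P1.subgroupOf P :=
          (QuotientGroup.mk' _).comp (Subgroup.inclusion inf_le_right)
        exact Subgroup.card_dvd_of_surjective fh hf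
      have h3 : (⊤ : Subgroup P) ≤ P1.subgroupOf P := perfect_le_of_odd_index hidx
        (Subgroup.map_injective P.subtype_injective (by
          rw [Subgroup.map_commutator, ← MonoidHom.range_eq_map, Subgroup.range_subtype, hPperf]))
      exact fun p hp => (mem_subgroupOf.1 (h3 (mem_top ⟨p, hp⟩))).2
  refine ⟨K, hK, fun v hv hvJ => ?_, fun v hv hvK => ?_⟩
  · refine hWK (hPW ?_)
    obtain ⟨p, hp, hpv⟩ := (hPJ.symm ▸ hvJ : fx v ∈ P.map fx)
    set k := p⁻¹ * v with hk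
    have hkker : k ∈ fx.ker := MonoidHom.mem_ker.2 (by rw [hk, map_mul, map_inv, hpv, inv_mul_cancel])
    have hkn : ∀ q ∈ P, k * q * k⁻¹ ∈ P := hnorm k fun y => by
      rw [MonoidHom.mem_ker.1 hkker, one_mul, inv_one, mul_one]
    have hkP : k ∈ P := by
      refine mem_of_sq_odd (hkx.of_dvd_nat ((Subgroup.orderOf_mk k hkker) ▸ orderOf_dvd_natCard _)) ?_
      have h1 : p * (k * p * k⁻¹) * (k * k) = 1 := by
        rw [show p * (k * p * k⁻¹) * (k * k) = (p * k) * (p * k) by group, hk, mul_inv_cancel_left, hv]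
      rw [eq_inv_of_mul_eq_one_right h1]
      exact inv_mem (mul_mem hp (hkn p hp))
    have h2 := mul_mem hp hkP
    rwa [hk, mul_inv_cancel_left] at h2
  · -- `[v, P]` lies in the kernel of `fr`
    refine mem_centralizer_iff.2 fun y hy => ?_
    obtain ⟨p, hp, rfl⟩ := (hPJ.symm ▸ hy : y ∈ P.map fx)
    set P0 := P ⊓ fr.ker with hP0
    have hvp : v * p * v⁻¹ * p⁻¹ ∈ P0 := by
      refine ⟨P.mul_mem (hnorm v (hinvol v hv) p hp) (P.inv_mem hp), MonoidHom.mem_ker.2 ?_⟩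
      have h1 : fr p * fr v = fr v * fr p := mem_centralizer_iff.1 hvK (fr p) (hWK (hPW hp))
      rw [map_mul, map_mul, map_mul, map_inv, map_inv, ← h1, mul_inv_cancel_right, mul_inv_cancel]
    haveI : ((P0.map fx).subgroupOf J).Normal := ⟨fun a ha z => by
      obtain ⟨q, hq, hqa⟩ := mem_subgroupOf.1 ha
      obtain ⟨p', hp', hpy⟩ := (hPJ ▸ z.2 : (z : X) ∈ P.map fx)
      refine mem_subgroupOf.2 ⟨p' * q * p'⁻¹, ⟨hconjP p' hp' q hq.1, ?_⟩, ?_⟩
      · exact (inferInstance : fr.ker.Normal).conj_mem q hq.2 p'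
      · rw [map_mul, map_mul, map_inv, hqa, hpy]
        rfl⟩
    have hP0J : P0.map fx ≤ J := hPJ ▸ Subgroup.map_mono inf_le_left
    rcases (inferInstance : ((P0.map fx).subgroupOf J).Normal).eq_bot_or_eq_top with e | e
    · have h2 : (⟨_, hP0J ⟨_, hvp, rfl⟩⟩ : J) ∈ (P0.map fx).subgroupOf J := mem_subgroupOf.2 ⟨_, hvp, rfl⟩
      rw [e, Subgroup.mem_bot] at h2
      have h3 : fx (v * p * v⁻¹ * p⁻¹) = 1 := congrArg Subtype.val h2
      rw [map_mul, map_mul, map_mul, map_inv, map_inv, mul_inv_eq_one, mul_inv_eq_iff_eq_mul] at h3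
      exact h3.symm
    · exfalso
      refine hJodd ?_
      have h1 : J ≤ P0.map fx := Subgroup.subgroupOf_eq_top.1 e
      exact (hkr.of_dvd_nat (Subgroup.card_dvd_of_le inf_le_right)).of_dvd_nat
        ((Subgroup.card_dvd_of_le h1).trans (Subgroup.card_map_dvd P0 fx))

end Core

variable {G : Type u} [Group G] [Finite G] (S : Sylow 2 G) [hSc : IsMulCommutative ↥(S : Subgroup G)]

/-- The map of `C(x) ∩ C(r)` into `C(x)/O(C(x))`. -/
def fleft (x r : G) : ↥(centralizer ({x} : Set G) ⊓ centralizer ({r} : Set G)) →* Cq x :=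
  (QuotientGroup.mk' _).comp (Subgroup.inclusion inf_le_left)

/-- The map of `C(x) ∩ C(r)` into `C(r)/O(C(r))`. -/
def fright (x r : G) : ↥(centralizer ({x} : Set G) ⊓ centralizer ({r} : Set G)) →* Cq r :=
  (QuotientGroup.mk' _).comp (Subgroup.inclusion inf_le_right)

theorem ker_odd_of_comp {C D : Type u} [Group C] [Group D] [Finite C] [Finite D] {N : Subgroup C} [N.Normal]
    (hN : Odd (Nat.card N)) (f : D →* C) (hf : Function.Injective f) :
    Odd (Nat.card ((QuotientGroup.mk' N).comp f).ker) := by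
  refine hN.of_dvd_nat ?_
  rw [← MonoidHom.comap_ker, QuotientGroup.ker_mk', ← Subgroup.card_map_of_injective (K := N.comap f) hf]
  exact Subgroup.card_dvd_of_le (Subgroup.map_comap_le f N)

/-- **The lifting axiom of the blocks.** -/
theorem mem_lift (hG : MinHyp G) {x : VV S} {T R : AddSubgroup (VV S)} (h : Mem S x T R) (r : VV S) (hr : r ∈ R)
    (hr0 : r ≠ 0) : ∃ T' R', Mem S r T' R' ∧ T ≤ T' ∧ R' ≤ R := by
  obtain ⟨hx, J, hJ, rfl, rfl⟩ := h
  set x0 : ↥(om S) := Additive.toMul x with hx0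
  set r0 : ↥(om S) := Additive.toMul r with hr0'
  have hoX : Odd (Nat.card (Cfsg.oddCore ↥(centralizer ({(x0 : G)} : Set G)))) :=
    Nat.coprime_two_right.1 (Fusion.card_pPrimeCore_coprime 2 _)
  have hoQ : Odd (Nat.card (Cfsg.oddCore ↥(centralizer ({(r0 : G)} : Set G)))) :=
    Nat.coprime_two_right.1 (Fusion.card_pPrimeCore_coprime 2 _)
  have hJD : J ≤ (fleft (x0 : G) r0).range := by
    intro y hy
    obtain ⟨c, hc, rfl⟩ := lift_commute (r := Subgroup.inclusion (S_le_cent S x0) ⟨r0, r0.2.1⟩) hoX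
      (Subtype.ext r0.2.2) (y := y) (mem_centralizer_iff.1 hr y hy)
    exact ⟨⟨c, c.2, mem_centralizer_singleton_iff.2 (congrArg Subtype.val hc.eq)⟩, rfl⟩
  obtain ⟨K, hK, h1, h2⟩ := lift_component (coreFree_cq hG (x0 : G)) (coreFree_cq hG (r0 : G))
    (fleft (x0 : G) r0) (fright (x0 : G) r0) (ker_odd_of_comp hoX _ (Subgroup.inclusion_injective _))
    (ker_odd_of_comp hoQ _ (Subgroup.inclusion_injective _)) hJ hJD (xq := iota S r0 x0) (SX S r0)
    (iota_mem_SX S r0 x0)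
    (fun d => ((show Commute (Subgroup.inclusion inf_le_right d : ↥(centralizer ({(r0 : G)} : Set G)))
      (Subgroup.inclusion (S_le_cent S r0) ⟨x0, x0.2.1⟩) from
        Subtype.ext (mem_centralizer_singleton_iff.1 d.2.1)).map (QuotientGroup.mk' _)))
    (fun y hy => by
      obtain ⟨c, hc, rfl⟩ := lift_commute (r := Subgroup.inclusion (S_le_cent S r0) ⟨x0, x0.2.1⟩) hoQ
        (Subtype.ext x0.2.2) (y := y) hy
      exact ⟨⟨c, mem_centralizer_singleton_iff.2 (congrArg Subtype.val hc.eq), c.2⟩, rfl⟩)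
  refine ⟨_, _, ⟨hr0, K, hK, rfl, rfl⟩, fun v hv => ?_, fun v hv => ?_⟩
  · exact h1 ⟨((Additive.toMul v : ↥(om S)) : G), S_le_cent S x0 (Additive.toMul v).2.1,
      S_le_cent S r0 (Additive.toMul v).2.1⟩ (Subtype.ext (Additive.toMul v).2.2) hv
  · exact h2 ⟨((Additive.toMul v : ↥(om S)) : G), S_le_cent S x0 (Additive.toMul v).2.1,
      S_le_cent S r0 (Additive.toMul v).2.1⟩ (Subtype.ext (Additive.toMul v).2.2) hv

end Cfsg.Agent.Walter
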